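import Cfsg.Agent.Lib.Classical.GeoThree.C6.Lin
import Cfsg.Agent.Lib.Classical.Dickson.ModelTools
import Cfsg.Agent.Lib.Classical.Dickson.Main

/-!
# Centralisers of involutions in `GL₃` and their images in `PGL₂`
-/

set_option autoImplicit false
set_option linter.unusedSectionVars false
set_option linter.style.haveILetI false
set_option backward.isDefEq.respectTransparency false

open Matrix

namespace CfsgLib.Classical.GeoThree.C6

variable {F : Type*} [Field F]

local notation "M3" => Matrix (Fin 3) (Fin 3) F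
local notation "G3" => GL (Fin 3) F
local notation "M2" => Matrix (Fin 2) (Fin 2) F
local notation "PG" => ProjGenLinGroup (Fin 2) F

/-- The diagonal matrix with entries `-1, -1, 1`. -/
def zMat : Matrix (Fin 3) (Fin 3) F := !![-1, 0, 0; 0, -1, 0; 0, 0, 1]

theorem zMat_sq : (zMat : M3) * zMat = 1 := by
  ext i j; fin_cases i <;> fin_cases j <;> simp [zMat, Matrix.mul_apply, Fin.sum_univ_three]

/-- The element `diag(-1,-1,1)`. -/
def z0 : GL (Fin 3) F := ⟨zMat, zMat, zMat_sq, zMat_sq⟩

theorem z0_val : ((z0 : G3) : M3) = zMat := rfl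

/-- The vectors in the last coordinate. -/
def blockAt (B : GL (Fin 3) F) (g : GL (Fin 3) F) : Matrix (Fin 3) (Fin 3) F :=
  ((B⁻¹ * g * B : GL (Fin 3) F) : Matrix (Fin 3) (Fin 3) F)

/-- The elements of `M` commuting with the conjugate of `diag(-1,-1,1)` by `B`. -/
def blockSub (M : Subgroup (GL (Fin 3) F)) (B : GL (Fin 3) F) : Subgroup (GL (Fin 3) F) :=
  M ⊓ Subgroup.centralizer {B * z0 * B⁻¹}

theorem mem_blockSub {M : Subgroup G3} {B g : G3} :
    g ∈ blockSub M B ↔ g ∈ M ∧ g * (B * z0 * B⁻¹) = B * z0 * B⁻¹ * g := by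
  rw [blockSub, Subgroup.mem_inf, Subgroup.mem_centralizer_singleton_iff]

variable [Fact ((2 : F) ≠ 0)]

theorem comm_z_zero {N : M3} (h : N * zMat = zMat * N) :
    N 0 2 = 0 ∧ N 1 2 = 0 ∧ N 2 0 = 0 ∧ N 2 1 = 0 := by
  have h2 : (2 : F) ≠ 0 := Fact.out
  have key : ∀ i j : Fin 3, N i j * (zMat j j - zMat i i : F) = 0 := by
    intro i j
    have := congrFun (congrFun h i) j
    have e1 : (N * (zMat : M3)) i j = N i j * zMat j j := by
      fin_cases i <;> fin_cases j <;> simp [zMat, Matrix.mul_apply, Fin.sum_univ_three]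
    have e2 : ((zMat : M3) * N) i j = zMat i i * N i j := by
      fin_cases i <;> fin_cases j <;> simp [zMat, Matrix.mul_apply, Fin.sum_univ_three]
    rw [e1, e2] at this
    linear_combination this
  refine ⟨?_, ?_, ?_, ?_⟩
  · simpa [zMat, one_add_one_eq_two, h2] using key 0 2
  · simpa [zMat, one_add_one_eq_two, h2] using key 1 2
  · have := key 2 0
    have e : (zMat (F := F) 0 0 - zMat 2 2) = -2 := by simp [zMat]; ring
    rw [e] at this
    simpa [h2] using this
  · have := key 2 1
    have e : (zMat (F := F) 1 1 - zMat 2 2) = -2 := by simp [zMat]; ring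
    rw [e] at this
    simpa [h2] using this

variable {M : Subgroup (GL (Fin 3) F)} {B : GL (Fin 3) F}

theorem block_zero {g : G3} (hg : g ∈ blockSub M B) :
    blockAt B g 0 2 = 0 ∧ blockAt B g 1 2 = 0 ∧ blockAt B g 2 0 = 0 ∧ blockAt B g 2 1 = 0 := by
  refine comm_z_zero ?_
  have h := (mem_blockSub.1 hg).2
  rw [blockAt, ← z0_val, ← Units.val_mul, ← Units.val_mul]
  congr 1
  calc B⁻¹ * g * B * z0 = B⁻¹ * (g * (B * z0 * B⁻¹)) * B := by group
    _ = B⁻¹ * (B * z0 * B⁻¹ * g) * B := by rw [h]
    _ = z0 * (B⁻¹ * g * B) := by group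

theorem blockAt_mul (g h : G3) : blockAt B (g * h) = blockAt B g * blockAt B h := by
  rw [blockAt, blockAt, blockAt, ← Units.val_mul]; congr 1; group

theorem blockAt_one : blockAt B (1 : G3) = 1 := by simp [blockAt]

theorem blockAt_injective : Function.Injective (blockAt B : G3 → M3) := fun g h e => by
  have := Units.ext e
  simpa using this

theorem blockAt_det (g : G3) : (blockAt B g).det = (g : M3).det := by
  simp only [blockAt, Units.val_mul, Matrix.coe_units_inv]
  exact det_conj' B.isUnit _

/-- The upper block. -/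
def topBlock (N : Matrix (Fin 3) (Fin 3) F) : Matrix (Fin 2) (Fin 2) F := !![N 0 0, N 0 1; N 1 0, N 1 1]

theorem topBlock_mul {g h : G3} (hg : g ∈ blockSub M B) (_hh : h ∈ blockSub M B) :
    topBlock (blockAt B (g * h)) = topBlock (blockAt B g) * topBlock (blockAt B h) ∧
      blockAt B (g * h) 2 2 = blockAt B g 2 2 * blockAt B h 2 2 := by
  obtain ⟨a, b, c, d⟩ := block_zero hg
  rw [blockAt_mul]
  refine ⟨?_, ?_⟩
  · ext i j
    fin_cases i <;> fin_cases j <;>
      simp [topBlock, Matrix.mul_apply, Fin.sum_univ_three, Fin.sum_univ_two, a, b]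
  · simp [Matrix.mul_apply, Fin.sum_univ_three, c, d]

theorem det_block {g : G3} (hg : g ∈ blockSub M B) :
    (topBlock (blockAt B g)).det * blockAt B g 2 2 = (g : M3).det := by
  obtain ⟨a, b, c, d⟩ := block_zero hg
  rw [← blockAt_det (B := B) g, det_fin_three, det_fin_two, a, b, c, d]
  simp only [topBlock, Matrix.of_apply, Matrix.cons_val]
  ring

/-- The action on the eigenplane. -/
noncomputable def toA (M : Subgroup (GL (Fin 3) F)) (B : GL (Fin 3) F) : blockSub M B →* GL (Fin 2) F where
  toFun g := GeneralLinearGroup.mkOfDetNeZero (topBlock (blockAt B g.1)) fun h => by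
    have e := det_block g.2
    rw [h, zero_mul] at e
    exact ((Matrix.isUnit_iff_isUnit_det _).1 g.1.isUnit).ne_zero e.symm
  map_one' := Units.ext (by
    ext i j
    fin_cases i <;> fin_cases j <;> simp [topBlock, blockAt_one, GeneralLinearGroup.mkOfDetNeZero])
  map_mul' g h := Units.ext (by
    simpa [GeneralLinearGroup.mkOfDetNeZero] using (topBlock_mul g.2 h.2).1)

theorem toA_val (g : blockSub M B) : (toA M B g : M2) = topBlock (blockAt B g.1) := rfl

/-- The eigenvalue on the fixed line. -/
def toC (M : Subgroup (GL (Fin 3) F)) (B : GL (Fin 3) F) : blockSub M B →* F where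
  toFun g := blockAt B g.1 2 2
  map_one' := by simp [blockAt_one]
  map_mul' g h := (topBlock_mul g.2 h.2).2

theorem toA_det_mul_toC (g : blockSub M B) :
    (toA M B g : M2).det * toC M B g = ((g : G3) : M3).det := det_block g.2

theorem ext_block {g h : blockSub M B} (hA : toA M B g = toA M B h) (hC : toC M B g = toC M B h) :
    g = h := by
  refine Subtype.ext (blockAt_injective (B := B) ?_)
  obtain ⟨a, b, c, d⟩ := block_zero g.2
  obtain ⟨a', b', c', d'⟩ := block_zero h.2
  have hA' := congrArg (fun u : GL (Fin 2) F => (u : M2)) hA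
  simp only [toA_val] at hA'
  ext i j
  fin_cases i <;> fin_cases j
  exacts [congrFun (congrFun hA' 0) 0, congrFun (congrFun hA' 0) 1, a.trans a'.symm,
    congrFun (congrFun hA' 1) 0, congrFun (congrFun hA' 1) 1, b.trans b'.symm,
    c.trans c'.symm, d.trans d'.symm, hC]

/-- The action on the projective eigenline. -/
noncomputable def toP (M : Subgroup (GL (Fin 3) F)) (B : GL (Fin 3) F) : blockSub M B →* ProjGenLinGroup (Fin 2) F :=
  ProjGenLinGroup.mk.comp (toA M B)

theorem toP_eq_iff {g h : blockSub M B} :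
    toP M B g = toP M B h ↔ ∃ c : F, c ≠ 0 ∧ (toA M B h : M2) = c • (toA M B g : M2) := by
  rw [toP, MonoidHom.comp_apply, MonoidHom.comp_apply, ProjGenLinGroup.mk_eq_mk_iff]
  constructor
  · rintro ⟨u, hu⟩
    refine ⟨u, u.ne_zero, ?_⟩
    rw [← hu, Units.val_mul]
    change (toA M B g : M2) * Matrix.scalar (Fin 2) (u : F) = _
    rw [scalar_apply, ← smul_one_eq_diagonal, mul_smul_comm, mul_one]
  · rintro ⟨c, hc, e⟩
    refine ⟨Units.mk0 c hc, Units.ext ?_⟩
    rw [Units.val_mul, e]
    change (toA M B g : M2) * Matrix.scalar (Fin 2) c = _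
    rw [scalar_apply, ← smul_one_eq_diagonal, mul_smul_comm, mul_one]

theorem toP_eq_one_iff {g : blockSub M B} :
    toP M B g = 1 ↔ ∃ c : F, (toA M B g : M2) = c • 1 := by
  rw [← map_one (toP M B), eq_comm, toP_eq_iff]
  simp only [map_one, Units.val_one]
  refine ⟨fun ⟨c, _, e⟩ => ⟨c, e⟩, fun ⟨c, e⟩ => ⟨c, fun h0 => ?_, e⟩⟩
  have := ((Matrix.isUnit_iff_isUnit_det _).1 (toA M B g).isUnit).ne_zero
  rw [e, h0, zero_smul, det_zero] at this
  exact this rfl

/-- Without transvections the image in `PGL₂` has order prime to the characteristic. -/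
theorem not_dvd_card_image [Finite F] (p : ℕ) [hp : Fact p.Prime] [CharP F p] (hno : NoTransv M) :
    ¬ p ∣ Nat.card (toP M B).range := by
  intro hdvd
  haveI : Finite (blockSub M B) := Subtype.finite
  haveI : Finite (toP M B).range :=
    Finite.of_surjective (toP M B).rangeRestrict (toP M B).rangeRestrict_surjective
  obtain ⟨x, hx⟩ := exists_prime_orderOf_dvd_card' p hdvd
  obtain ⟨g, hg⟩ := (toP M B).rangeRestrict_surjective x
  have hgp : orderOf (toP M B g) = p := by
    rw [← hx, ← hg, ← Subgroup.orderOf_coe]; rfl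
  -- the `p`-part of `g`
  obtain ⟨j, m, hm, hord⟩ := Nat.exists_eq_pow_mul_and_not_dvd (orderOf_pos g).ne' p hp.out.ne_one
  set y := g ^ m with hy
  have hypow : y ^ (p ^ j) = 1 := by rw [hy, ← pow_mul, mul_comm, ← hord, pow_orderOf_eq_one]
  have hy1 : toP M B y ≠ 1 := fun e => by
    rw [hy, map_pow] at e
    exact hm (hgp ▸ orderOf_dvd_of_pow_eq_one e)
  -- unipotent block
  haveI : CharP M2 p := charP_of_injective_algebraMap (algebraMap F M2).injective p
  have hA : ((toA M B y : M2) - 1) ^ (p ^ j) = 0 := by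
    rw [sub_pow_char_pow_of_commute _ _ (Commute.one_right _), one_pow, sub_eq_zero, ← Units.val_pow_eq_pow_val,
      ← map_pow, hypow, map_one, Units.val_one]
  have hC : toC M B y = 1 := by
    have h : (toC M B y - 1) ^ (p ^ j) = 0 := by
      rw [sub_pow_char_pow, one_pow, sub_eq_zero, ← map_pow, hypow, map_one]
    exact sub_eq_zero.1 (eq_zero_of_pow_eq_zero h)
  set N : M2 := (toA M B y : M2) - 1 with hN
  clear_value N
  have hN2 : N * N = 0 := by
    have hnil : IsNilpotent N := ⟨_, hA⟩
    have htr : N.trace = 0 := (Matrix.isNilpotent_trace_of_isNilpotent hnil).eq_zero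
    have hdet : N.det = 0 := eq_zero_of_pow_eq_zero (by rw [← det_pow, hA, det_zero])
    rw [trace_fin_two] at htr
    rw [det_fin_two] at hdet
    ext a b
    fin_cases a <;> fin_cases b <;>
      simp only [Fin.zero_eta, Fin.mk_one, Matrix.mul_apply, Fin.sum_univ_two, Matrix.zero_apply]
    · linear_combination N 0 0 * htr - hdet
    · linear_combination N 0 1 * htr
    · linear_combination N 1 0 * htr
    · linear_combination N 1 1 * htr - hdet
  have hN0 : N ≠ 0 := fun e => hy1 (toP_eq_one_iff.2 ⟨1, by rw [one_smul]; exact sub_eq_zero.1 (hN ▸ e)⟩)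
  obtain ⟨s, t, hst, hne, hNf⟩ : ∃ s t : Fin 2 → F, t 0 * s 0 + t 1 * s 1 = 0 ∧ (s ≠ 0 ∧ t ≠ 0) ∧
      N = vecMulVec s t := by
    have e00 := congrFun (congrFun hN2 0) 0
    have e01 := congrFun (congrFun hN2 0) 1
    have e10 := congrFun (congrFun hN2 1) 0
    have e11 := congrFun (congrFun hN2 1) 1
    simp [Matrix.mul_apply, Fin.sum_univ_two] at e00 e01 e10 e11
    by_cases h01 : N 0 1 = 0
    · have h00 : N 0 0 = 0 := by grind
      have h11 : N 1 1 = 0 := by grind
      have h10 : N 1 0 ≠ 0 := fun e => hN0 (by ext a b; fin_cases a <;> fin_cases b <;> simp [h00, h01, h11, e])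
      refine ⟨![0, N 1 0], ![1, 0], by simp, ⟨fun e => h10 (by simpa using congrFun e 1),
        fun e => by simpa using congrFun e 0⟩, ?_⟩
      ext a b; fin_cases a <;> fin_cases b <;> simp [vecMulVec_apply, h00, h01, h11]
    · refine ⟨![N 0 1, N 1 1], ![N 0 0 / N 0 1, 1], ?_, ⟨fun e => h01 (by simpa using congrFun e 0),
        fun e => by simpa using congrFun e 1⟩, ?_⟩
      · simp only [Matrix.cons_val_zero, Matrix.cons_val_one]
        field_simp
        grind
      · ext a b; fin_cases a <;> fin_cases b <;> simp [vecMulVec_apply] <;> field_simp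
        grind
  -- the transvection
  obtain ⟨a, b, c, d⟩ := block_zero y.2
  let v : Fin 3 → F := (B : M3) *ᵥ ![s 0, s 1, 0]
  let f : Fin 3 → F := ![t 0, t 1, 0] ᵥ* ((B⁻¹ : G3) : M3)
  have hfv : f ⬝ᵥ v = 0 := by
    rw [← dotProduct_mulVec, mulVec_mulVec, ← Units.val_mul, inv_mul_cancel, Units.val_one, one_mulVec]
    simp only [dotProduct, Fin.sum_univ_three, Matrix.cons_val]
    linear_combination hst
  have he : trGL v f hfv = y.1 := by
    refine Units.ext ?_
    have hblock : blockAt B y.1 = 1 + vecMulVec ![s 0, s 1, 0] ![t 0, t 1, 0] := by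
      have hA' : topBlock (blockAt B y.1) = 1 + vecMulVec s t := by
        rw [← toA_val, ← hNf, hN]; abel
      have hC' : blockAt B y.1 2 2 = 1 := hC
      have e := fun i j => congrFun (congrFun hA' i) j
      ext i j
      fin_cases i <;> fin_cases j
      · simpa [topBlock, vecMulVec_apply] using e 0 0
      · simpa [topBlock, vecMulVec_apply] using e 0 1
      · simpa [vecMulVec_apply] using a
      · simpa [topBlock, vecMulVec_apply] using e 1 0
      · simpa [topBlock, vecMulVec_apply] using e 1 1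
      · simpa [vecMulVec_apply] using b
      · simpa [vecMulVec_apply] using c
      · simpa [vecMulVec_apply] using d
      · simpa [vecMulVec_apply] using hC'
    have : (y.1 : M3) = (B : M3) * blockAt B y.1 * ((B⁻¹ : G3) : M3) := by
      rw [blockAt, ← Units.val_mul, ← Units.val_mul]; congr 1; group
    rw [this, hblock, mul_add, add_mul, mul_one, ← Units.val_mul, mul_inv_cancel, Units.val_one,
      mul_vecMulVec, vecMulVec_mul]
    rfl
  rcases hno v f hfv (he ▸ (mem_blockSub.1 y.2).1) with h | h
  · refine hne.1 ?_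
    have := congrArg (((B⁻¹ : G3) : M3) *ᵥ ·) h
    simp only [v, mulVec_mulVec, ← Units.val_mul, inv_mul_cancel, Units.val_one, one_mulVec, mulVec_zero] at this
    ext i; fin_cases i
    exacts [congrFun this 0, congrFun this 1]
  · refine hne.2 ?_
    have := congrArg (· ᵥ* (B : M3)) h
    simp only [f, vecMul_vecMul, ← Units.val_mul, inv_mul_cancel, Units.val_one, vecMul_one, zero_vecMul] at this
    ext i; fin_cases i
    exacts [congrFun this 0, congrFun this 1]

end CfsgLib.Classical.GeoThree.C6
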