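import Cfsg.Agent.Lib.Classical.GeoThree.C6.Unip

/-!
# The class equation: the Heisenberg group is normal
-/

set_option autoImplicit false
set_option linter.unusedSectionVars false
set_option linter.style.haveILetI false
set_option backward.isDefEq.respectTransparency false

open Matrix

namespace CfsgLib.Classical.GeoThree.C6

variable {F : Type*} [Field F] [Finite F] [Fact ((2 : F) ≠ 0)]
  {M : Subgroup (GL (Fin 3) F)} {W : Omega F}

local notation "M3" => Matrix (Fin 3) (Fin 3) F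
local notation "G3" => GL (Fin 3) F

theorem mem_conjSet_self {S : Set G3} {s : G3} (hs : s ∈ S) : s ∈ conjSet M S :=
  ⟨1, M.one_mem, s, hs, by simp⟩

theorem conjSet_conj {S : Set G3} {t g : G3} (hg : g ∈ M) (ht : t ∈ conjSet M S) :
    g * t * g⁻¹ ∈ conjSet M S := by
  obtain ⟨k, hk, s, hs, rfl⟩ := ht
  exact ⟨g * k, M.mul_mem hg hk, s, hs, by group⟩

/-- The attached elements are regular, non-trivial and have their involution. -/
theorem mem_conj_phi {τ t : G3} (hτ : τ ∈ M) (hττ : τ * τ = 1) (hτ1 : τ ≠ 1)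
    (ht : t ∈ conjSet M (phiSet M τ)) : t ∈ regSet M ∧ t ≠ 1 ∧
      ∃ g ∈ M, t * (g * τ * g⁻¹) = g * τ * g⁻¹ * t ∧ (t * t = 1 → t = g * τ * g⁻¹) := by
  obtain ⟨g, hg, s, ⟨hs, hor⟩, rfl⟩ := ht
  refine ⟨regSet.conj hg hs, fun e => ?_, g, hg, ?_, fun e => ?_⟩
  · rw [mul_inv_eq_one, mul_eq_left] at e
    subst e
    rcases hor with e | ⟨e, -⟩
    exacts [hτ1 e.symm, e (one_mul 1)]
  · have hc : s * τ = τ * s := by rcases hor with rfl | ⟨-, e⟩ <;> [rfl; exact e]
    rw [show g * s * g⁻¹ * (g * τ * g⁻¹) = g * (s * τ) * g⁻¹ by group, hc]; group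
  · rcases hor with rfl | ⟨h1, -⟩
    · rfl
    · exact absurd (by rw [show s * s = g⁻¹ * (g * s * g⁻¹ * (g * s * g⁻¹)) * g by group, e]; group) h1

theorem disjoint_conj_phi (h : Hyp W M) (h9 : ∀ ζ : F, ζ ^ 3 ≠ W.ω) {τ : G3} (hτ : τ ∈ M)
    (hττ : τ * τ = 1) (hτ1 : τ ≠ 1) (hne : ∀ g ∈ M, g * τ * g⁻¹ ≠ W.sG) :
    Disjoint (conjSet M (phiSet M W.sG)) (conjSet M (phiSet M τ)) := by
  rw [Set.disjoint_left]
  intro t ht ht'
  obtain ⟨htR, ht1, g, hg, hc, hi⟩ := mem_conj_phi h.sigma sG_mul_self sG_ne_one ht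
  obtain ⟨-, -, k, hk, hc', hi'⟩ := mem_conj_phi hτ hττ hτ1 ht'
  have key : g * W.sG * g⁻¹ = k * τ * k⁻¹ := by
    by_cases htt : t * t = 1
    · rw [← hi htt, ← hi' htt]
    · refine involution_unique h h9 htR htt (mul_mem (mul_mem hg h.sigma) (inv_mem hg))
        (mul_mem (mul_mem hk hτ) (inv_mem hk)) ?_ ?_ ?_ ?_ hc hc'
      · rw [show g * W.sG * g⁻¹ * (g * W.sG * g⁻¹) = g * (W.sG * W.sG) * g⁻¹ by group, sG_mul_self]; group
      · rw [show k * τ * k⁻¹ * (k * τ * k⁻¹) = k * (τ * τ) * k⁻¹ by group, hττ]; group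
      · exact fun e => sG_ne_one (W := W) (by rwa [mul_inv_eq_one, mul_eq_left] at e)
      · exact fun e => hτ1 (by rwa [mul_inv_eq_one, mul_eq_left] at e)
  exact hne (g⁻¹ * k) (mul_mem (inv_mem hg) hk) (by
    rw [show g⁻¹ * k * τ * (g⁻¹ * k)⁻¹ = g⁻¹ * (k * τ * k⁻¹) * g by group, ← key]; group)

/-- Counting `1`, the conjugates attached to `σ` and one more disjoint set. -/
theorem count_le (h : Hyp W M) {V : Set G3} (hV : V ⊆ regSet M) (hV1 : (1 : G3) ∉ V)
    (hd : Disjoint (conjSet M (phiSet M W.sG)) V) :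
    1 + (conjSet M (phiSet M W.sG)).ncard + V.ncard ≤ (regSet M).ncard := by
  have hsub : {1} ∪ conjSet M (phiSet M W.sG) ∪ V ⊆ regSet M := by
    rintro t ((rfl | ht) | ht)
    exacts [regSet.one M, (mem_conj_phi h.sigma sG_mul_self sG_ne_one ht).1, hV ht]
  have h1 : Disjoint ({1} : Set G3) (conjSet M (phiSet M W.sG)) :=
    Set.disjoint_singleton_left.2 fun ht => (mem_conj_phi h.sigma sG_mul_self sG_ne_one ht).2.1 rfl
  have h2 : Disjoint ({1} ∪ conjSet M (phiSet M W.sG)) V :=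
    Disjoint.union_left (Set.disjoint_singleton_left.2 hV1) hd
  have := Set.ncard_le_ncard hsub (Set.toFinite _)
  rwa [Set.ncard_union_eq h2 (Set.toFinite _) (Set.toFinite _),
    Set.ncard_union_eq h1 (Set.toFinite _) (Set.toFinite _), Set.ncard_singleton] at this

/-- The two shapes of the count at `σ`. -/
theorem sigma_bound (h : Hyp W M) (h9 : ∀ ζ : F, ζ ^ 3 ≠ W.ω) :
    ∃ c, c = (regSet (M ⊓ Subgroup.centralizer {W.sG})).ncard ∧ 3 * c ≤ Nat.card M ∧
      ((8 ≤ c ∧ 3 * c * (conjSet M (phiSet M W.sG)).ncard + Nat.card M = Nat.card M * c) ∨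
       (16 ≤ c ∧ 12 * c * (conjSet M (phiSet M W.sG)).ncard + 4 * Nat.card M = 3 * Nat.card M * c)) := by
  have hmul := card_conj_phiSet h h9 h.sigma sG_mul_self sG_ne_one
  rw [(card_cent_involution h h9 h.sigma sG_mul_self sG_ne_one).2] at hmul
  set c := (regSet (M ⊓ Subgroup.centralizer {W.sG})).ncard with hc
  refine ⟨c, rfl, ?_, ?_⟩
  · rw [hc, ← (card_cent_involution h h9 h.sigma sG_mul_self sG_ne_one).2]
    exact Nat.le_of_dvd Nat.card_pos (Subgroup.card_dvd_of_le inf_le_left)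
  rcases phiSet_sigma h h9 with ⟨e, h8⟩ | ⟨e, h16⟩
  · refine .inl ⟨h8, ?_⟩
    rw [← hc] at e
    rw [← e] at hmul ⊢
    linear_combination hmul
  · refine .inr ⟨h16, ?_⟩
    rw [← hc] at e
    calc 12 * c * (conjSet M (phiSet M W.sG)).ncard + 4 * Nat.card M
        = 4 * ((conjSet M (phiSet M W.sG)).ncard * (3 * c)) + 4 * Nat.card M := by ring
      _ = Nat.card M * (4 * (phiSet M W.sG).ncard + 4) := by rw [hmul]; ring
      _ = 3 * Nat.card M * c := by rw [e]; ring

/-- Every involution is conjugate to `σ`. -/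
theorem involution_conj (h : Hyp W M) (h9 : ∀ ζ : F, ζ ^ 3 ≠ W.ω) {τ : G3} (hτ : τ ∈ M)
    (hττ : τ * τ = 1) (hτ1 : τ ≠ 1) : ∃ g ∈ M, g * τ * g⁻¹ = W.sG := by
  by_contra hne
  push Not at hne
  have hle := count_le h (V := conjSet M (phiSet M τ))
    (fun t ht => (mem_conj_phi hτ hττ hτ1 ht).1)
    (fun ht => (mem_conj_phi hτ hττ hτ1 ht).2.1 rfl) (disjoint_conj_phi h h9 hτ hττ hτ1 hne)
  have hR := (card_eq_regSet h h9).1
  have hv := card_conj_phiSet h h9 hτ hττ hτ1
  rw [(card_cent_involution h h9 hτ hττ hτ1).2] at hv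
  have hr := regSet_le_four_phiSet h h9 hτ hττ hτ1
  have hr1 : 1 ≤ (regSet (M ⊓ Subgroup.centralizer {τ})).ncard := (Set.ncard_pos (Set.toFinite _)).2
    ⟨1, regSet.one _⟩
  set N := Nat.card M
  set v := (conjSet M (phiSet M τ)).ncard
  set r := (regSet (M ⊓ Subgroup.centralizer {τ})).ncard
  have hN : 0 < N := Nat.card_pos
  have hv12 : N ≤ 12 * v := by
    refine le_of_mul_le_mul_right ?_ (show 0 < r from hr1)
    calc N * r ≤ N * (4 * (phiSet M τ).ncard) := Nat.mul_le_mul_left N hr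
      _ = 4 * (v * (3 * r)) := by rw [hv]; ring
      _ = 12 * v * r := by ring
  obtain ⟨c, -, -, (⟨h8, e⟩ | ⟨h16, e⟩)⟩ := sigma_bound h h9
  · nlinarith
  · nlinarith

theorem isolated_conj {y g : G3} (hg : g ∈ M) (hy : Isolated M y) : Isolated M (g * y * g⁻¹) := by
  refine ⟨regSet.conj hg hy.reg, fun e => hy.ne ?_, fun τ hτ hττ hc => ?_⟩
  · rw [show y * y = g⁻¹ * (g * y * g⁻¹ * (g * y * g⁻¹)) * g by group, e]; group
  · have := hy.noInv (g⁻¹ * τ * g) (mul_mem (mul_mem (inv_mem hg) hτ) hg)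
      (by rw [show g⁻¹ * τ * g * (g⁻¹ * τ * g) = g⁻¹ * (τ * τ) * g by group, hττ]; group)
      (by rw [show y * (g⁻¹ * τ * g) = g⁻¹ * (g * y * g⁻¹ * τ) * g by group, hc]; group)
    rw [show τ = g * (g⁻¹ * τ * g) * g⁻¹ by group, this]; group

theorem Isolated.conjSet_isolated (h : Hyp W M) (h9 : ∀ ζ : F, ζ ^ 3 ≠ W.ω) {y t : G3} (hy : Isolated M y)
    (ht : t ∈ conjSet M (regSet (cen M y) \ {1})) : Isolated M t := by
  obtain ⟨g, hg, s, hs, rfl⟩ := ht
  exact isolated_conj hg (hy.of_mem h h9 hs.1 hs.2)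

theorem disjoint_isolated (h : Hyp W M) (h9 : ∀ ζ : F, ζ ^ 3 ≠ W.ω) {y : G3} (hy : Isolated M y) :
    Disjoint (conjSet M (phiSet M W.sG)) (conjSet M (regSet (cen M y) \ {1})) := by
  rw [Set.disjoint_left]
  intro t ht ht'
  obtain ⟨-, -, g, hg, hc, -⟩ := mem_conj_phi h.sigma sG_mul_self sG_ne_one ht
  have := (hy.conjSet_isolated h h9 ht').noInv _ (mul_mem (mul_mem hg h.sigma) (inv_mem hg))
    (by rw [show g * W.sG * g⁻¹ * (g * W.sG * g⁻¹) = g * (W.sG * W.sG) * g⁻¹ by group, sG_mul_self]; group) hc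
  exact sG_ne_one (W := W) (by rwa [mul_inv_eq_one, mul_eq_left] at this)

theorem isolated_count (h : Hyp W M) (h9 : ∀ ζ : F, ζ ^ 3 ≠ W.ω) {y : G3} (hy : Isolated M y) :
    1 + (conjSet M (phiSet M W.sG)).ncard + (conjSet M (regSet (cen M y) \ {1})).ncard ≤
      (regSet M).ncard :=
  count_le h (fun t ht => (hy.conjSet_isolated h h9 ht).reg)
    (fun ht => (hy.conjSet_isolated h h9 ht).ne (one_mul 1)) (disjoint_isolated h h9 hy)

/-- No isolated semisimple elements. -/
theorem dvd_of_isolated (h : Hyp W M) (h9 : ∀ ζ : F, ζ ^ 3 ≠ W.ω) (p : ℕ) [Fact p.Prime] [CharP F p]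
    {y : G3} (hy : Isolated M y) : p ∣ orderOf y := by
  by_contra hp
  have hle := isolated_count h h9 hy
  have hR := (card_eq_regSet h h9).1
  have hv := hy.card_conj h h9
  have hi := hy.index_le_three h h9 p hp
  rw [hy.card_cen h h9] at hi
  have h5 := hy.five_le h h9
  set N := Nat.card M
  set v := (conjSet M (regSet (cen M y) \ {1})).ncard
  set a := (regSet (cen M y)).ncard
  have hN : 0 < N := Nat.card_pos
  clear_value a
  obtain ⟨b, rfl⟩ : ∃ b, a = b + 1 := ⟨a - 1, by omega⟩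
  rw [Nat.add_sub_cancel] at hv
  have h45 : 4 * N ≤ 45 * v := by
    refine le_of_mul_le_mul_right ?_ (show 0 < b + 1 by omega)
    calc 4 * N * (b + 1) ≤ 5 * (N * b) := by nlinarith
      _ = 5 * (v * Nat.card (norCen M y)) := by rw [hv]
      _ ≤ 5 * (v * (3 * (3 * (b + 1)))) := by gcongr
      _ = 45 * v * (b + 1) := by ring
  obtain ⟨c, -, -, (⟨h8, e⟩ | ⟨h16, e⟩)⟩ := sigma_bound h h9
  · nlinarith
  · nlinarith

theorem regSet_cases (h : Hyp W M) (h9 : ∀ ζ : F, ζ ^ 3 ≠ W.ω) {t : G3} (ht : t ∈ regSet M) (ht1 : t ≠ 1) :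
    t ∈ conjSet M (phiSet M W.sG) ∨ Isolated M t := by
  by_cases hex : ∃ τ ∈ M, τ * τ = 1 ∧ τ ≠ 1 ∧ t * τ = τ * t ∧ (t * t = 1 → t = τ)
  · obtain ⟨τ, hτ, hττ, hτ1, hc, hi⟩ := hex
    obtain ⟨g, hg, hgσ⟩ := involution_conj h h9 hτ hττ hτ1
    refine .inl ⟨g⁻¹, inv_mem hg, g * t * g⁻¹, ⟨regSet.conj hg ht, ?_⟩, by group⟩
    by_cases htt : t * t = 1
    · left; rw [hi htt, hgσ]
    · refine .inr ⟨fun e => htt (by rw [show t * t = g⁻¹ * (g * t * g⁻¹ * (g * t * g⁻¹)) * g by group, e]; group), ?_⟩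
      rw [← hgσ, show g * t * g⁻¹ * (g * τ * g⁻¹) = g * (t * τ) * g⁻¹ by group, hc]; group
  · push Not at hex
    have hne : t * t ≠ 1 := fun e => (hex t ht.1 e ht1 rfl).2 rfl
    exact .inr ⟨ht, hne, fun τ hτ hττ hc => by
      by_contra hτ1
      exact hne (hex τ hτ hττ hτ1 hc).1⟩

/-- The order of `M`. -/
theorem card_eq (h : Hyp W M) (h9 : ∀ ζ : F, ζ ^ 3 ≠ W.ω) : Nat.card M = 216 := by
  classical
  obtain ⟨p, hp'⟩ := CharP.exists F
  haveI := hp'
  haveI : Fact p.Prime := ⟨CharP.char_is_prime F p⟩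
  have hR := (card_eq_regSet h h9).1
  set N := Nat.card M with hNdef
  set u := (conjSet M (phiSet M W.sG)).ncard with hu
  have hN : 0 < N := Nat.card_pos
  obtain ⟨c, hcdef, hcN, hcases⟩ := sigma_bound h h9
  by_cases hiso : ∃ y, Isolated M y
  · exfalso
    obtain ⟨y, hy⟩ := hiso
    have hss : ∀ x, Isolated M x → p ∣ orderOf x := fun x hx => dvd_of_isolated h h9 p hx
    obtain ⟨j, hj⟩ := (hy.pure h h9 p).resolve_left fun e => e (hss y hy)
    obtain ⟨hall, hpa, d, hd, hdor⟩ := hy.unipotent h h9 p hj hss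
    have hp7 : 7 ≤ p := by rw [← ringChar.eq F p]; exact h.char
    have hv := hy.card_conj h h9
    rw [hd, hy.card_cen h h9] at hv
    have hle := isolated_count h h9 hy
    set v := (conjSet M (regSet (cen M y) \ {1})).ncard
    set a := (regSet (cen M y)).ncard
    have heq : (regSet M).ncard = 1 + u + v := by
      refine le_antisymm ?_ hle
      have hsub : regSet M ⊆ {1} ∪ conjSet M (phiSet M W.sG) ∪ conjSet M (regSet (cen M y) \ {1}) := by
        intro t ht
        by_cases ht1 : t = 1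
        · exact .inl (.inl ht1)
        rcases regSet_cases h h9 ht ht1 with e | e
        · exact .inl (.inr e)
        · exact .inr (hall t ht ((e.pure h h9 p).resolve_left fun e' => e' (hss t e)) ht1)
      refine (Set.ncard_le_ncard hsub (Set.toFinite _)).trans ((Set.ncard_union_le _ _).trans ?_)
      refine Nat.add_le_add_right ((Set.ncard_union_le _ _).trans ?_) _
      rw [Set.ncard_singleton]
    have hdvd : d * (3 * a) ≤ N := by
      rw [← hy.card_cen h h9, ← hd, hNdef]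
      exact Nat.le_of_dvd Nat.card_pos (Subgroup.card_dvd_of_le inf_le_left)
    obtain ⟨b, hb⟩ : ∃ b, a = b + 1 := ⟨a - 1, by omega⟩
    rw [hb, Nat.add_sub_cancel] at hv
    rw [hb] at hdvd
    rcases hdor with hd4 | ⟨hd8, x, hx, hxx, hx8, τ, hτ, hττ, hτ1, hxτ⟩
    · have h14 : N ≤ 14 * v := by
        refine le_of_mul_le_mul_right ?_ (show 0 < b + 1 by omega)
        have h1 : 7 * (N * b) ≤ 7 * (v * (4 * (3 * (b + 1)))) := by rw [← hv]; gcongr
        nlinarith
      rcases hcases with ⟨h8, e⟩ | ⟨h16, e⟩ <;> nlinarith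
    have h24 : 24 * (1 + v) ≤ N := by
      refine le_of_mul_le_mul_right ?_ (show 0 < b + 1 by omega)
      calc 24 * (1 + v) * (b + 1) = 8 * (3 * (b + 1)) + v * (8 * (3 * (b + 1))) := by ring
        _ ≤ d * (3 * (b + 1)) + v * (d * (3 * (b + 1))) := by gcongr
        _ ≤ N + N * b := by rw [hv]; gcongr
        _ = N * (b + 1) := by ring
    rcases hcases with ⟨h8, e⟩ | ⟨h16, e⟩
    · have hc8 : c = 8 := by
        by_contra hne
        have : 9 ≤ c := by omega
        nlinarith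
      obtain ⟨g, hg, hgσ⟩ := involution_conj h h9 hτ hττ hτ1
      set x' := g * x * g⁻¹
      have hx' : x' ∈ regSet (M ⊓ Subgroup.centralizer {W.sG}) := by
        refine ⟨Subgroup.mem_inf.2 ⟨(regSet.conj hg hx).1, Subgroup.mem_centralizer_singleton_iff.2 ?_⟩,
          (regSet.conj (L := M) hg hx).2⟩
        rw [← hgσ, show x' * (g * τ * g⁻¹) = g * (x * τ) * g⁻¹ by simp only [x']; group, hxτ]
        simp only [x']; group
      have hsub : (Subgroup.zpowers x' : Set G3) ⊆ regSet (M ⊓ Subgroup.centralizer {W.sG}) := fun t ht =>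
        ⟨Subgroup.zpowers_le.2 hx'.1 ht, fun h3 => hx'.2 (h3.trans (orderOf_dvd_of_mem_zpowers ht))⟩
      have hord : 8 ≤ (Subgroup.zpowers x' : Set G3).ncard := by
        rw [← Nat.card_coe_set_eq]
        change 8 ≤ Nat.card (Subgroup.zpowers x')
        rw [Nat.card_zpowers, show x' = MulAut.conj g x from rfl, MulEquiv.orderOf_eq]
        exact hx8
      have heq' := Set.eq_of_subset_of_ncard_le hsub (by rw [← hcdef, hc8]; exact hord) (Set.toFinite _)
      have hf : W.fG ∈ Subgroup.zpowers x' := heq'.symm.le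
        ⟨Subgroup.mem_inf.2 ⟨h.f, Subgroup.mem_centralizer_singleton_iff.2 (comm_sigma (fG_mem_sigma h))⟩,
          (fG_reg h).2⟩
      have hjr : W.jG ∈ regSet M := regSet.of_pow_two h.j (j := 2) (by
        rw [show (2 : ℕ) ^ 2 = 2 * 2 from rfl, pow_mul, pow_two W.jG, jG_sq, pow_two, sG_mul_self])
      have hj' : W.jG ∈ Subgroup.zpowers x' := heq'.symm.le
        ⟨Subgroup.mem_inf.2 ⟨h.j, Subgroup.mem_centralizer_singleton_iff.2 (comm_sigma (jG_mem_sigma h))⟩, hjr.2⟩
      obtain ⟨i, hi⟩ := Subgroup.mem_zpowers_iff.1 hf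
      obtain ⟨k, hk⟩ := Subgroup.mem_zpowers_iff.1 hj'
      exact fj_ne h (Subtype.ext (show W.fG * W.jG = W.jG * W.fG by
        rw [← hi, ← hk, ← _root_.zpow_add, ← _root_.zpow_add, add_comm]))
    · nlinarith
  · push Not at hiso
    have heq : (regSet M).ncard = 1 + u := by
      refine le_antisymm ?_ ?_
      · have hsub : regSet M ⊆ {1} ∪ conjSet M (phiSet M W.sG) := fun t ht =>
          if ht1 : t = 1 then .inl ht1 else .inr ((regSet_cases h h9 ht ht1).resolve_right (hiso t))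
        refine (Set.ncard_le_ncard hsub (Set.toFinite _)).trans ((Set.ncard_union_le _ _).trans ?_)
        rw [Set.ncard_singleton]
      · have := count_le h (V := ∅) (Set.empty_subset _) (Set.notMem_empty _) (Set.disjoint_empty _)
        rwa [Set.ncard_empty, add_zero] at this
    rcases hcases with ⟨h8, e⟩ | ⟨h16, e⟩
    · have hc8 : c = 8 := by
        by_contra hne
        have : 9 ≤ c := by omega
        nlinarith
      subst hc8
      omega
    · exfalso; nlinarith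

/-- Without ninth roots of unity the Heisenberg group is normal. -/
theorem le_normalizer_of_no_ninth (h : Hyp W M) (h9 : ∀ ζ : F, ζ ^ 3 ≠ W.ω) :
    M ≤ Subgroup.normalizer (W.heis : Set G3) := by
  classical
  have hT := (card_eq_regSet h h9).2
  rw [card_eq h h9] at hT
  set T := conjSet M {W.dG}
  set Z : Set G3 := Set.range fun k : Fin 3 => W.zG ^ (k : ℕ)
  have hsub : (W.heis : Set G3) ⊆ Z ∪ T := by
    intro r hr
    rcases heis_cases h hr with ⟨k, rfl⟩ | ⟨g, hg, hgr⟩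
    · exact .inl ⟨⟨k % 3, Nat.mod_lt _ (by norm_num)⟩, (pow_eq_pow_mod k W.z_pow_three).symm⟩
    · exact .inr ⟨g⁻¹, inv_mem (Subgroup.mem_inf.1 hg).1, W.dG, rfl, by rw [← hgr]; group⟩
  have hZ : Z.ncard ≤ 3 := by
    rw [← Nat.card_coe_set_eq]; exact (Finite.card_range_le _).trans (Nat.card_fin 3).le
  have hge : 27 ≤ Nat.card W.heis := by
    have hP : IsPGroup 3 W.heis := fun r => ⟨1, Subtype.ext (by
      rw [SubgroupClass.coe_pow, pow_one]; exact heis_pow_three h r.2)⟩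
    haveI : Fact (Nat.Prime 3) := ⟨Nat.prime_three⟩
    obtain ⟨n, hn⟩ := IsPGroup.iff_card.1 hP
    have h10 : 10 ≤ Nat.card W.heis := by
      set S := Set.range fun q : Fin 3 × Fin 3 => W.zG ^ (q.1 : ℕ) * W.dG ^ (q.2 : ℕ) with hS
      have hpn : W.pG ∉ S := by
        rintro ⟨q, e⟩
        dsimp only at e
        have := congrArg (fun v : G3 => (v : M3) 1 0) e
        rw [Units.val_mul, Omega.z_val, Omega.d_val] at this
        simp [Omega.pG] at this
      have h9c : S.ncard = 9 := by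
        rw [← Nat.card_coe_set_eq, hS, Nat.card_range_of_injective zd_injective]; simp
      have := Set.ncard_le_ncard (show insert W.pG S ⊆ (W.heis : Set G3) from Set.insert_subset W.p_mem (by
        rintro _ ⟨q, rfl⟩; exact mul_mem (pow_mem W.z_mem _) (pow_mem W.d_mem _))) (Set.toFinite _)
      rw [Set.ncard_insert_of_notMem hpn, h9c] at this
      rw [← Nat.card_coe_set_eq (W.heis : Set G3)] at this
      exact this
    rw [hn] at h10 ⊢
    by_contra hlt
    have : n < 3 := by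
      by_contra h3
      push Not at h3
      exact hlt ((show 27 = 3 ^ 3 by norm_num).le.trans (Nat.pow_le_pow_right (by norm_num) h3))
    interval_cases n <;> norm_num at h10
  have heq : (W.heis : Set G3) = Z ∪ T := by
    refine Set.eq_of_subset_of_ncard_le hsub ((Set.ncard_union_le _ _).trans ?_) (Set.toFinite _)
    rw [← Nat.card_coe_set_eq (W.heis : Set G3)]
    change _ ≤ Nat.card W.heis
    omega
  intro g hg
  have step : ∀ x ∈ (W.heis : Set G3), ∀ k ∈ M, k * x * k⁻¹ ∈ (W.heis : Set G3) := by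
    intro x hx k hk
    rw [heq] at hx ⊢
    rcases hx with ⟨i, rfl⟩ | hx
    · exact .inl ⟨i, (W.z_normalizer_pow k).symm⟩
    · exact .inr (conjSet_conj hk hx)
  refine Subgroup.mem_normalizer_iff.2 fun x => ⟨fun hx => step x hx g hg, fun hx => ?_⟩
  have := step _ hx g⁻¹ (inv_mem hg)
  rwa [show g⁻¹ * (g * x * g⁻¹) * g⁻¹⁻¹ = x by group] at this

end CfsgLib.Classical.GeoThree.C6
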