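import Cfsg.Agent.Lib.Classical.GeoThree.C6.Sylow

/-!
# Centralisers of elements of order three; involutions; no homologies
-/

set_option autoImplicit false
set_option linter.unusedSectionVars false
set_option linter.style.haveILetI false
set_option backward.isDefEq.respectTransparency false

open Matrix Module

namespace CfsgLib.Classical.GeoThree.C6

variable {F : Type*} [Field F] [Finite F]

local notation "M3" => Matrix (Fin 3) (Fin 3) F
local notation "G3" => GL (Fin 3) F
local notation "M2" => Matrix (Fin 2) (Fin 2) F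

variable [Fact ((2 : F) ≠ 0)] {M : Subgroup (GL (Fin 3) F)} {W : Omega F}

theorem Omega.z_normalizer_pow (W : Omega F) (g : G3) {k : ℕ} : g * W.zG ^ k * g⁻¹ = W.zG ^ k := by
  rw [← (Commute.pow_left (W.zG_comm g) k).eq, mul_inv_cancel_right]

/-- Every three-element is scalar or conjugate to `diag(1,ω,ω²)`. -/
theorem three_conj (h : Hyp W M) (h9 : ∀ ζ : F, ζ ^ 3 ≠ W.ω) {x : G3} (hx : x ∈ M) {j : ℕ}
    (hxj : x ^ 3 ^ j = 1) : (∃ k, x = W.zG ^ k) ∨ ∃ g ∈ M, g * x * g⁻¹ = W.dG := by
  haveI : Fact (Nat.Prime 3) := ⟨Nat.prime_three⟩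
  have hP : IsPGroup 3 (W.heis.subgroupOf M) := fun r =>
    ⟨1, Subtype.ext (Subtype.ext (heis_pow_three h r.2))⟩
  obtain ⟨Q, hQ⟩ := hP.exists_le_sylow
  -- the Heisenberg group is a Sylow subgroup
  have hQeq : (Q : Subgroup M) = W.heis.subgroupOf M := by
    haveI : Group.IsNilpotent Q := Q.isPGroup'.isNilpotent
    refine le_antisymm ?_ hQ
    by_contra hnle
    set R := (W.heis.subgroupOf M).subgroupOf (Q : Subgroup M)
    have hRlt : R < ⊤ := lt_top_iff_ne_top.2 fun e => hnle (Subgroup.subgroupOf_eq_top.1 e)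
    obtain ⟨g, hgN, hgR⟩ := SetLike.exists_of_lt (Group.normalizerCondition_of_isNilpotent R hRlt)
    obtain ⟨i, hi⟩ := Q.isPGroup' g
    have hN := Subgroup.mem_normalizer_iff.1 hgN
    refine hgR (mem_heis_of_normalizes h h9 g.1.2 ?_ (j := i) ?_)
    · refine W.mem_normalizer_of_gens ?_ ?_
      · exact (hN ⟨⟨W.dG, h.d⟩, hQ (show W.dG ∈ W.heis from W.d_mem)⟩).1 W.d_mem
      · exact (hN ⟨⟨W.pG, h.p⟩, hQ (show W.pG ∈ W.heis from W.p_mem)⟩).1 W.p_mem
    · exact congrArg (fun q : Q => ((q.1 : M) : G3)) hi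
  have hxP : IsPGroup 3 (Subgroup.zpowers (⟨x, hx⟩ : M)) := by
    rintro ⟨y, hy⟩
    obtain ⟨i, rfl⟩ := Subgroup.mem_zpowers_iff.1 hy
    refine ⟨j, Subtype.ext ?_⟩
    rw [SubgroupClass.coe_pow]
    change ((⟨x, hx⟩ : M) ^ i) ^ 3 ^ j = 1
    rw [← zpow_natCast, ← _root_.zpow_mul, mul_comm, _root_.zpow_mul, zpow_natCast,
      show (⟨x, hx⟩ : M) ^ 3 ^ j = 1 from Subtype.ext hxj, _root_.one_zpow]
  obtain ⟨Q', hQ'⟩ := hxP.exists_le_sylow
  obtain ⟨g, rfl⟩ := MulAction.exists_smul_eq M Q Q'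
  obtain ⟨r, hr, hrx⟩ : ∃ r ∈ (Q : Subgroup M), g * r * g⁻¹ = ⟨x, hx⟩ := by
    have := hQ' (Subgroup.mem_zpowers (⟨x, hx⟩ : M))
    rw [Sylow.coe_subgroup_smul] at this
    obtain ⟨r, hr, e⟩ := this
    exact ⟨r, hr, e⟩
  rw [hQeq] at hr
  replace hr : ((r : M) : G3) ∈ W.heis := hr
  have hrx' : (g : G3) * r * (g : G3)⁻¹ = x := congrArg Subtype.val hrx
  rcases heis_cases h hr with ⟨k, hk⟩ | ⟨u, hu, hur⟩
  · exact .inl ⟨k, by rw [← hrx', hk, W.z_normalizer_pow]⟩
  · exact .inr ⟨u * (g : G3)⁻¹, M.mul_mem (Subgroup.mem_inf.1 hu).1 (M.inv_mem g.2),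
      by rw [← hrx', ← hur]; group⟩

/-- Elements commuting with `diag(1,ω,ω²)` are diagonal. -/
theorem diag_of_comm_d {g : G3} (hg : g * W.dG = W.dG * g) :
    ∀ i j, i ≠ j → (g : M3) i j = 0 := by
  have e := congrArg Units.val hg
  intro i j hij
  have := congrFun (congrFun e i) j
  fin_cases i <;> fin_cases j <;> simp [Omega.dG, Matrix.mul_apply, Fin.sum_univ_three] at this hij ⊢ <;>
    grind [W.ne_one, W.sq_ne_one, W.sq_ne, W.ne_zero]

/-- An involution of `SL₃` is conjugate to `diag(-1,-1,1)`. -/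
theorem exists_frame {z : G3} (hzz : z * z = 1) (hz1 : z ≠ 1) (hdet : (z : M3).det = 1) :
    ∃ B : G3, z = B * z0 * B⁻¹ := by
  have h2 : (2 : F) ≠ 0 := Fact.out
  rcases involution_form h2 (y := (z : M3)) (congrArg Units.val hzz) hdet with h | ⟨u, φ, hφu, hz⟩
  · exact absurd (Units.ext h) hz1
  let N : M3 := vecMulVec u φ
  let K := LinearMap.ker N.mulVecLin
  have hK : 2 ≤ finrank F K := by
    have h1 := LinearMap.finrank_range_add_finrank_ker N.mulVecLin
    rw [finrank_pi, Fintype.card_fin] at h1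
    have h2' : finrank F (LinearMap.range N.mulVecLin) ≤ 1 := Matrix.rank_vecMulVec_le u φ
    change 2 ≤ finrank F (LinearMap.ker N.mulVecLin)
    omega
  obtain ⟨f, hf⟩ := exists_linearIndependent_of_le_finrank hK
  let k : Fin 2 → Fin 3 → F := fun i => (f i : Fin 3 → F)
  have hk : LinearIndependent F k := hf.map' K.subtype (Submodule.ker_subtype K)
  have hu0 : u ≠ 0 := fun e => by simp [e] at hφu
  have hkφ : ∀ i, φ ⬝ᵥ k i = 0 := fun i => by
    have := LinearMap.mem_ker.1 (f i).2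
    change N *ᵥ k i = 0 at this
    rw [vecMulVec_mulVec, op_smul_eq_smul] at this
    exact (smul_eq_zero.1 this).resolve_right hu0
  let c : Fin 3 → Fin 3 → F := ![k 0, k 1, u]
  have hc : LinearIndependent F c := by
    rw [Fintype.linearIndependent_iff]
    intro g hg
    simp only [Fin.sum_univ_three, c, Matrix.cons_val] at hg
    have h3 : g 2 = 0 := by
      have := congrArg (fun v => φ ⬝ᵥ v) hg
      simpa [dotProduct_add, dotProduct_smul, hkφ, hφu] using this
    rw [h3, zero_smul, add_zero] at hg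
    have h12 := Fintype.linearIndependent_iff.1 hk ![g 0, g 1] (by simpa [Fin.sum_univ_two] using hg)
    intro i; fin_cases i
    exacts [h12 0, h12 1, h3]
  let Bm : M3 := (Matrix.of c)ᵀ
  have hBu : IsUnit Bm :=
    Matrix.linearIndependent_cols_iff_isUnit.1 (show LinearIndependent F Bm.col from hc)
  obtain ⟨B, hB⟩ := hBu
  refine ⟨B, ?_⟩
  rw [eq_mul_inv_iff_mul_eq]
  refine Units.ext ?_
  rw [Units.val_mul, Units.val_mul, hB, z0_val]
  refine Matrix.ext_of_mulVec_single fun i => ?_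
  rw [← mulVec_mulVec, ← mulVec_mulVec, mulVec_single_one, mulVec_single_one]
  have hcol : ∀ i, Bm.col i = c i := fun i => rfl
  have hz0 : (zMat : M3).col i = ((![-1, -1, 1] : Fin 3 → F) i) • Pi.single i 1 := by
    fin_cases i <;> ext j <;> fin_cases j <;> simp [zMat]
  rw [hz0, hcol, mulVec_smul, mulVec_single_one, hcol, hz, add_mulVec, neg_mulVec, one_mulVec, smul_mulVec,
    vecMulVec_mulVec, op_smul_eq_smul]
  fin_cases i <;> simp [c, hkφ, hφu, two_smul]

theorem mem_blockSub_of_comm {B g : G3} (hg : g ∈ M) (hc : g * (B * z0 * B⁻¹) = B * z0 * B⁻¹ * g) :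
    g ∈ blockSub M B := mem_blockSub.2 ⟨hg, hc⟩

/-- No involution commutes with a non-scalar three-element. -/
theorem three_no_inv (h : Hyp W M) (h9 : ∀ ζ : F, ζ ^ 3 ≠ W.ω) {x z : G3} (hx : x ∈ M) {j : ℕ}
    (hxj : x ^ 3 ^ j = 1) (hxs : ¬ IsScal (x : M3)) (hz : z ∈ M) (hzz : z * z = 1) (hz1 : z ≠ 1) :
    x * z ≠ z * x := by
  intro hc
  obtain ⟨g, hg, hgx⟩ := (three_conj h h9 hx hxj).resolve_left fun ⟨k, e⟩ => hxs ⟨_, e ▸ W.z_val k⟩
  set y := g * z * g⁻¹ with hy
  have hyM : y ∈ M := M.mul_mem (M.mul_mem hg hz) (M.inv_mem hg)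
  have hyd : y * W.dG = W.dG * y := by
    rw [← hgx, hy, show g * z * g⁻¹ * (g * x * g⁻¹) = g * (z * x) * g⁻¹ by group, ← hc]; group
  have hdiag := diag_of_comm_d hyd
  have hyy : y * y = 1 := by rw [hy, show g * z * g⁻¹ * (g * z * g⁻¹) = g * (z * z) * g⁻¹ by group, hzz]; group
  have hy1 : y ≠ 1 := fun e => hz1 (by
    have : z = g⁻¹ * y * g := by rw [hy]; group
    rw [this, e]; group)
  have hsign : ∀ i, (y : M3) i i = 1 ∨ (y : M3) i i = -1 := fun i => by
    have e : (y : M3) * (y : M3) = (1 : M3) := by rw [← Units.val_mul, hyy, Units.val_one]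
    have e' := congrFun (congrFun e i) i
    rw [Matrix.one_apply_eq, Matrix.mul_apply, Fin.sum_univ_three] at e'
    have h' : (y : M3) i i * (y : M3) i i = 1 := by
      fin_cases i <;>
        simp only [Fin.zero_eta, Fin.mk_one, Fin.reduceFinMk, hdiag 0 1 (by decide), hdiag 0 2 (by decide),
          hdiag 1 0 (by decide), hdiag 1 2 (by decide), hdiag 2 0 (by decide), hdiag 2 1 (by decide),
          mul_zero, zero_mul, add_zero, zero_add] at e' ⊢ <;> exact e'
    exact mul_self_eq_one_iff.1 h'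
  have hdet : (y : M3) 0 0 * (y : M3) 1 1 * (y : M3) 2 2 = 1 := by
    have e : (y : M3).det = 1 := mem_specialLinear_iff.1 (h.sl hyM)
    rw [det_fin_three, hdiag 0 1 (by decide), hdiag 0 2 (by decide), hdiag 1 0 (by decide), hdiag 1 2 (by decide),
      hdiag 2 0 (by decide), hdiag 2 1 (by decide)] at e
    linear_combination e
  have h2 : (2 : F) ≠ 0 := Fact.out
  -- the shift moves `y` to `diag(1,-1,-1)`
  have key : ∀ k : ℕ, W.pG ^ k * y * (W.pG ^ k)⁻¹ ∈ M := fun k =>
    M.mul_mem (M.mul_mem (pow_mem h.p k) hyM) (M.inv_mem (pow_mem h.p k))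
  refine h.tG_notMem ?_
  have fin : ∀ k : ℕ, W.pG ^ k * y = (tG : G3) * W.pG ^ k → (tG : G3) ∈ M := fun k e => by
    have := key k
    rwa [e, mul_inv_cancel_right] at this
  rcases hsign 0 with a | a <;> rcases hsign 1 with b | b <;> rcases hsign 2 with c | c <;>
    rw [a, b, c] at hdet
  all_goals first
    | (exfalso; exact h2 (by linear_combination -hdet))
    | (exfalso; apply hy1; apply Units.ext; ext i j; fin_cases i <;> fin_cases j <;>
        simp [a, b, c, hdiag]; done)
    | (refine fin 0 (Units.ext ?_); ext i j; fin_cases i <;> fin_cases j <;>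
        simp [tG, Omega.pG, Matrix.mul_apply, Fin.sum_univ_three, a, b, c, hdiag]; done)
    | (refine fin 1 (Units.ext ?_); ext i j; fin_cases i <;> fin_cases j <;>
        simp [tG, Omega.pG, pow_succ, Matrix.mul_apply, Fin.sum_univ_three, a, b, c, hdiag]; done)
    | (refine fin 2 (Units.ext ?_); ext i j; fin_cases i <;> fin_cases j <;>
        simp [tG, Omega.pG, pow_succ, Matrix.mul_apply, Fin.sum_univ_three, a, b, c, hdiag]; done)

/-- The image of a centraliser in `PGL₂` is dihedral or abelian. -/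
theorem dihedralish (h : Hyp W M) (h9 : ∀ ζ : F, ζ ^ 3 ≠ W.ω) (B : G3) :
    Dihedralish (toP M B).range := by
  rcases cases_blockSub (B := B) h.noTr with hd | hsm
  · exact hd
  exfalso
  -- the involution `-1` on the plane
  obtain ⟨a, ⟨A, rfl⟩, b, ⟨A', rfl⟩, ha, hb, hab, haa, hbb, hcomm⟩ := hsm.exists_klein
  have h2 : (2 : F) ≠ 0 := Fact.out
  have tr0 : ∀ {g : blockSub M B}, toP M B g ≠ 1 → toP M B g * toP M B g = 1 → (toA M B g : M2).trace = 0 := by
    intro g hg hgg
    exact (pow_scalar fun e => hg (toP_eq_one_iff.2 e)).1 (toP_pow_eq_one_iff.1 (by rw [sq, hgg]))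
  have t1 := tr0 ha haa
  have t2 := tr0 hb hbb
  rw [← map_mul, ← map_mul, toP_eq_iff] at hcomm
  obtain ⟨l, hl0, hl⟩ := hcomm
  rw [map_mul, map_mul, Units.val_mul, Units.val_mul] at hl
  have hl1 : l = -1 := by
    have hd := congrArg Matrix.det hl
    rw [det_smul, Fintype.card_fin, det_mul, det_mul, mul_comm] at hd
    have hne : (toA M B A : M2).det * (toA M B A' : M2).det ≠ 0 :=
      mul_ne_zero ((Matrix.isUnit_iff_isUnit_det _).1 (toA M B A).isUnit).ne_zero
        ((Matrix.isUnit_iff_isUnit_det _).1 (toA M B A').isUnit).ne_zero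
    have : l ^ 2 = 1 := mul_right_cancel₀ hne (by linear_combination -hd)
    rcases sq_eq_one_iff.1 this with e | e
    · exfalso
      subst e
      rw [one_smul] at hl
      refine hab (toP_eq_iff.2 ?_)
      exact prop_of_comm_traceless (fun e => ha (toP_eq_one_iff.2 e)) (fun e => hb (toP_eq_one_iff.2 e)) t1 t2 hl.symm
    · exact e
  set z := A * A' * A⁻¹ * A'⁻¹
  have hzA : (toA M B z : M2) = (-1 : F) • 1 := by
    rw [map_mul, map_mul, map_mul, Units.val_mul, Units.val_mul, Units.val_mul, ← hl1]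
    have : (toA M B A : M2) * (toA M B A' : M2) = l • ((toA M B A' : M2) * (toA M B A : M2)) := by
      rw [hl, smul_smul, hl1, neg_one_mul, neg_neg, one_smul]
    rw [this, smul_mul_assoc, smul_mul_assoc, mul_assoc (toA M B A' : M2), ← Units.val_mul (toA M B A),
      ← map_mul, mul_inv_cancel, map_one, Units.val_one, mul_one, ← Units.val_mul, ← map_mul, mul_inv_cancel,
      map_one, Units.val_one]
  have hzC : toC M B z = 1 := by
    have inv : ∀ g : blockSub M B, toC M B g * toC M B g⁻¹ = 1 := fun g => by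
      rw [← map_mul, mul_inv_cancel, map_one]
    rw [map_mul, map_mul, map_mul]
    linear_combination (toC M B A' * toC M B A'⁻¹) * inv A + inv A'
  clear_value z
  -- an element of order three
  obtain ⟨t, ⟨g, rfl⟩, ht3, ht1⟩ := hsm.exists_three
  haveI : Finite (blockSub M B) := Subtype.finite
  obtain ⟨e, m, hm, hord⟩ := Nat.exists_eq_pow_mul_and_not_dvd (orderOf_pos g).ne' 3 (by norm_num)
  set x := g ^ m with hxdef
  have hx3 : x ^ 3 ^ e = 1 := by rw [hxdef, ← pow_mul, mul_comm, ← hord, pow_orderOf_eq_one]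
  have hx1 : toP M B x ≠ 1 := fun e' => by
    rw [hxdef, map_pow] at e'
    exact hm (orderOf_eq_prime ht3 ht1 ▸ orderOf_dvd_of_pow_eq_one e')
  refine three_no_inv h h9 (x := x.1) (j := e) (mem_blockSub.1 x.2).1
    (congrArg Subtype.val hx3) ?_ (z := z.1) (mem_blockSub.1 z.2).1 ?_ ?_ ?_
  · rintro ⟨c, hc⟩
    refine hx1 (toP_eq_one_iff.2 ⟨c, ?_⟩)
    have hb : blockAt B x.1 = c • 1 := by
      rw [blockAt, Units.val_mul, Units.val_mul, hc, mul_smul_comm, mul_one, smul_mul_assoc, ← Units.val_mul,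
        inv_mul_cancel, Units.val_one]
    rw [toA_val, hb]; ext i j; fin_cases i <;> fin_cases j <;> simp [topBlock]
  · have : z * z = 1 := ext_block (Units.ext (by
      rw [map_mul, Units.val_mul, hzA, map_one, Units.val_one, smul_mul_smul_comm, one_mul, neg_one_mul, neg_neg,
        one_smul])) (by rw [map_mul, hzC, one_mul, map_one])
    exact congrArg Subtype.val this
  · intro e'
    have : z = 1 := Subtype.ext e'
    rw [this, map_one, Units.val_one] at hzA
    have := congrFun (congrFun hzA 0) 0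
    simp at this
    exact h2 (by linear_combination this)
  · have : x * z = z * x := ext_block (Units.ext (by
      rw [map_mul, map_mul, Units.val_mul, Units.val_mul, hzA, mul_smul_comm, smul_mul_assoc, one_mul, mul_one]))
      (by rw [map_mul, map_mul, mul_comm])
    exact congrArg Subtype.val this
where
  prop_of_comm_traceless {A A' : M2} (hA : ¬ ∃ c : F, A = c • 1) (hA' : ¬ ∃ c : F, A' = c • 1)
      (t1 : A.trace = 0) (t2 : A'.trace = 0) (hc : A * A' = A' * A) : ∃ c : F, c ≠ 0 ∧ A' = c • A := by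
    rw [trace_fin_two] at t1 t2
    have h2 : (2 : F) ≠ 0 := Fact.out
    have e00 := congrFun (congrFun hc 0) 0
    have e01 := congrFun (congrFun hc 0) 1
    have e10 := congrFun (congrFun hc 1) 0
    simp [Matrix.mul_apply, Fin.sum_univ_two] at e00 e01 e10
    have key : ∃ c : F, A' = c • A := by
      by_cases h00 : A 0 0 = 0
      · by_cases h01 : A 0 1 = 0
        · by_cases h10 : A 1 0 = 0
          · exact absurd ⟨0, by ext i j; fin_cases i <;> fin_cases j <;> simp <;> grind⟩ hA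
          · refine ⟨A' 1 0 / A 1 0, ?_⟩
            ext i j; fin_cases i <;> fin_cases j <;> simp <;> field_simp <;> grind
        · refine ⟨A' 0 1 / A 0 1, ?_⟩
          ext i j; fin_cases i <;> fin_cases j <;> simp <;> field_simp <;> grind
      · refine ⟨A' 0 0 / A 0 0, ?_⟩
        ext i j; fin_cases i <;> fin_cases j <;> simp <;> field_simp <;> grind
    obtain ⟨c, hc⟩ := key
    exact ⟨c, fun e => hA' ⟨0, by rw [hc, e, zero_smul, zero_smul]⟩, hc⟩

end CfsgLib.Classical.GeoThree.C6
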