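import Cfsg.Agent.Lib.Classical.GeoThree.C6.Block

/-!
# The Heisenberg group of order 27 and its normaliser in coordinates
-/

set_option autoImplicit false
set_option linter.unusedSectionVars false
set_option linter.style.haveILetI false
set_option backward.isDefEq.respectTransparency false

open Matrix

namespace CfsgLib.Classical.GeoThree.C6

variable {F : Type*} [Field F]

local notation "M3" => Matrix (Fin 3) (Fin 3) F
local notation "G3" => GL (Fin 3) F

/-- A primitive cube root of unity, in characteristic at least seven. -/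
structure Omega (F : Type*) [Field F] where
  ω : F
  root : ω * ω + ω + 1 = 0
  two : (2 : F) ≠ 0
  three : (3 : F) ≠ 0

namespace Omega

variable (W : Omega F)

theorem cube : W.ω ^ 3 = 1 := by linear_combination (W.ω - 1) * W.root

theorem ne_zero : W.ω ≠ 0 := fun h => by simpa [h] using W.root

theorem ne_one : W.ω ≠ 1 := fun h => W.three (by
  have := W.root
  rw [h] at this
  linear_combination this)

theorem sq_ne_one : W.ω ^ 2 ≠ 1 := fun h => W.ne_one (by
  have := W.cube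
  rw [pow_succ, h, one_mul] at this
  exact this)

theorem sq_ne : W.ω ^ 2 ≠ W.ω := fun h => W.ne_one (mul_left_cancel₀ W.ne_zero (by
  rw [mul_one, ← sq]; exact h))

/-- `√-3`. -/
def s : F := W.ω - W.ω ^ 2

theorem s_ne : W.s ≠ 0 := sub_ne_zero.2 W.sq_ne.symm

theorem s_sq : W.s * W.s = -3 := by
  rw [Omega.s]; linear_combination (W.ω ^ 2 - 3 * W.ω + 3) * W.root

/-- The scalar `ω`. -/
def zG : GL (Fin 3) F :=
  ⟨W.ω • (1 : M3), W.ω ^ 2 • (1 : M3), by rw [smul_mul_smul_comm, one_mul, ← pow_succ', W.cube, one_smul],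
    by rw [smul_mul_smul_comm, one_mul, ← pow_succ, W.cube, one_smul]⟩

/-- `diag(1, ω, ω²)`. -/
def dG : GL (Fin 3) F :=
  ⟨!![1, 0, 0; 0, W.ω, 0; 0, 0, W.ω ^ 2], !![1, 0, 0; 0, W.ω ^ 2, 0; 0, 0, W.ω], by
    ext i j; fin_cases i <;> fin_cases j <;>
      simp [Matrix.mul_apply, Fin.sum_univ_three] <;> linear_combination W.cube, by
    ext i j; fin_cases i <;> fin_cases j <;>
      simp [Matrix.mul_apply, Fin.sum_univ_three] <;> linear_combination W.cube⟩

/-- The cyclic shift. -/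
def pG (_W : Omega F) : GL (Fin 3) F :=
  ⟨!![0, 0, 1; 1, 0, 0; 0, 1, 0], !![0, 1, 0; 0, 0, 1; 1, 0, 0], by
    ext i j; fin_cases i <;> fin_cases j <;> simp [Matrix.mul_apply, Fin.sum_univ_three], by
    ext i j; fin_cases i <;> fin_cases j <;> simp [Matrix.mul_apply, Fin.sum_univ_three]⟩

/-- The normalised Fourier matrix. -/
def fG : GL (Fin 3) F :=
  ⟨W.s⁻¹ • !![1, 1, 1; 1, W.ω, W.ω ^ 2; 1, W.ω ^ 2, W.ω],
    (-W.s⁻¹) • !![1, 1, 1; 1, W.ω ^ 2, W.ω; 1, W.ω, W.ω ^ 2], by
    have hs := W.s_ne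
    have h2 := W.s_sq
    have hr := W.root
    ext i j; fin_cases i <;> fin_cases j <;>
      simp [Matrix.mul_apply, Fin.sum_univ_three] <;> field_simp <;> grind, by
    have hs := W.s_ne
    have h2 := W.s_sq
    have hr := W.root
    ext i j; fin_cases i <;> fin_cases j <;>
      simp [Matrix.mul_apply, Fin.sum_univ_three] <;> field_simp <;> grind⟩

/-- The second Fourier matrix. -/
def jG : GL (Fin 3) F :=
  ⟨W.s⁻¹ • !![1, W.ω ^ 2, W.ω ^ 2; W.ω, W.ω, W.ω ^ 2; W.ω, W.ω ^ 2, W.ω],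
    (-W.s⁻¹) • !![1, W.ω ^ 2, W.ω ^ 2; W.ω, W.ω ^ 2, W.ω; W.ω, W.ω, W.ω ^ 2], by
    have hs := W.s_ne
    have h2 := W.s_sq
    have hr := W.root
    ext i j; fin_cases i <;> fin_cases j <;>
      simp [Matrix.mul_apply, Fin.sum_univ_three] <;> field_simp <;> grind, by
    have hs := W.s_ne
    have h2 := W.s_sq
    have hr := W.root
    ext i j; fin_cases i <;> fin_cases j <;>
      simp [Matrix.mul_apply, Fin.sum_univ_three] <;> field_simp <;> grind⟩

/-- The central involution of the quaternion group. -/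
def sG (_W : Omega F) : GL (Fin 3) F :=
  ⟨!![-1, 0, 0; 0, 0, -1; 0, -1, 0], !![-1, 0, 0; 0, 0, -1; 0, -1, 0], by
    ext i j; fin_cases i <;> fin_cases j <;> simp [Matrix.mul_apply, Fin.sum_univ_three], by
    ext i j; fin_cases i <;> fin_cases j <;> simp [Matrix.mul_apply, Fin.sum_univ_three]⟩

/-- A basis adapted to the central involution: eigenplane, then fixed line. -/
def bG : GL (Fin 3) F :=
  ⟨!![1, 0, 0; 0, 1, 1; 0, 1, -1], !![1, 0, 0; 0, 2⁻¹, 2⁻¹; 0, 2⁻¹, -2⁻¹], by
    have h2 := W.two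
    ext i j; fin_cases i <;> fin_cases j <;>
      simp [Matrix.mul_apply, Fin.sum_univ_three] <;> field_simp <;> ring, by
    have h2 := W.two
    ext i j; fin_cases i <;> fin_cases j <;>
      simp [Matrix.mul_apply, Fin.sum_univ_three] <;> field_simp <;> ring⟩

theorem fG_sq : W.fG * W.fG = W.sG := by
  have hs := W.s_ne
  have h2 := W.s_sq
  have hr := W.root
  ext i j; fin_cases i <;> fin_cases j <;>
    simp [fG, sG, Matrix.mul_apply, Fin.sum_univ_three] <;> field_simp <;> grind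

theorem sG_eq : W.sG = W.bG * z0 * W.bG⁻¹ := by
  have h2 := W.two
  ext i j; fin_cases i <;> fin_cases j <;>
    simp [bG, sG, z0, zMat, Matrix.mul_apply, Fin.sum_univ_three] <;> grind

theorem zG_comm (g : G3) : W.zG * g = g * W.zG :=
  Units.ext (by simp [zG])

theorem d_pow_three : W.dG ^ 3 = 1 := by
  ext i j; fin_cases i <;> fin_cases j <;>
    simp [dG, pow_succ, Matrix.mul_apply, Fin.sum_univ_three] <;> grind [W.cube]

theorem p_pow_three : W.pG ^ 3 = 1 := by
  ext i j; fin_cases i <;> fin_cases j <;> simp [pG, pow_succ, Matrix.mul_apply, Fin.sum_univ_three]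

theorem z_pow_three : W.zG ^ 3 = 1 := by
  ext i j; fin_cases i <;> fin_cases j <;> simp [zG, pow_succ, Matrix.one_apply] <;> grind [W.cube]

theorem p_mul_d : W.pG * W.dG = W.zG ^ 2 * (W.dG * W.pG) := by
  ext i j; fin_cases i <;> fin_cases j <;>
    simp [pG, dG, zG, pow_succ, Matrix.mul_apply, Fin.sum_univ_three, Matrix.one_apply] <;> grind [W.cube]

theorem d_mul_p : W.dG * W.pG = W.zG * (W.pG * W.dG) := by
  rw [p_mul_d, ← mul_assoc W.zG, ← pow_succ', z_pow_three, one_mul]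

theorem zG_eq : W.zG = W.dG * W.pG * W.dG⁻¹ * W.pG⁻¹ := by
  rw [d_mul_p]; group

/-- The Heisenberg group. -/
def heis : Subgroup (GL (Fin 3) F) := Subgroup.closure {W.dG, W.pG}

theorem d_mem : W.dG ∈ W.heis := Subgroup.subset_closure (Or.inl rfl)

theorem p_mem : W.pG ∈ W.heis := Subgroup.subset_closure (Or.inr rfl)

theorem z_mem : W.zG ∈ W.heis := by
  rw [zG_eq]
  exact mul_mem (mul_mem (mul_mem W.d_mem W.p_mem) (inv_mem W.d_mem)) (inv_mem W.p_mem)

theorem p_mul_dpow (b : ℕ) : W.pG * W.dG ^ b = W.zG ^ (2 * b) * (W.dG ^ b * W.pG) := by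
  induction b with
  | zero => simp
  | succ b ih =>
    have hz : Commute W.zG (W.dG ^ b) := (W.zG_comm _)
    rw [pow_succ, ← mul_assoc, ih, mul_assoc, mul_assoc, p_mul_d, ← mul_assoc (W.dG ^ b),
      ← (hz.pow_left 2).eq, mul_assoc, ← mul_assoc, ← pow_add, ← mul_assoc (W.dG ^ b), mul_add, mul_one]

theorem mem_heis_iff {g : G3} : g ∈ W.heis ↔ ∃ k b c : ℕ, g = W.zG ^ k * W.dG ^ b * W.pG ^ c := by
  constructor
  · intro h
    have hd : ∀ k b c : ℕ, W.dG * (W.zG ^ k * W.dG ^ b * W.pG ^ c) = W.zG ^ k * W.dG ^ (b + 1) * W.pG ^ c := by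
      intro k b c
      have : Commute (W.zG ^ k) W.dG := (Commute.pow_left (W.zG_comm _) k)
      rw [← mul_assoc, ← mul_assoc, ← this.eq, mul_assoc (W.zG ^ k), ← pow_succ']
    have hp : ∀ k b c : ℕ, W.pG * (W.zG ^ k * W.dG ^ b * W.pG ^ c) =
        W.zG ^ (k + 2 * b) * W.dG ^ b * W.pG ^ (c + 1) := by
      intro k b c
      have : Commute (W.zG ^ k) W.pG := (Commute.pow_left (W.zG_comm _) k)
      rw [← mul_assoc, ← mul_assoc, ← this.eq, mul_assoc (W.zG ^ k), p_mul_dpow, ← mul_assoc (W.zG ^ k),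
        ← pow_add, pow_succ', ← mul_assoc, mul_assoc]
    induction h using Subgroup.closure_induction_left with
    | one => exact ⟨0, 0, 0, by simp⟩
    | mul_left x hx y _ ih =>
      obtain ⟨k, b, c, rfl⟩ := ih
      rcases hx with rfl | rfl
      · exact ⟨_, _, _, hd k b c⟩
      · exact ⟨_, _, _, hp k b c⟩
    | inv_mul_cancel x hx y _ ih =>
      obtain ⟨k, b, c, rfl⟩ := ih
      rcases hx with rfl | rfl
      · refine ⟨k, b + 1 + 1, c, ?_⟩
        rw [show W.dG⁻¹ = W.dG * W.dG by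
          rw [inv_eq_iff_mul_eq_one, ← mul_assoc, ← pow_three', d_pow_three], mul_assoc, hd, hd]
      · refine ⟨k + 2 * b + 2 * b, b, c + 1 + 1, ?_⟩
        rw [show W.pG⁻¹ = W.pG * W.pG by
          rw [inv_eq_iff_mul_eq_one, ← mul_assoc, ← pow_three', p_pow_three], mul_assoc, hp, hp]
  · rintro ⟨k, b, c, rfl⟩
    exact mul_mem (mul_mem (pow_mem W.z_mem _) (pow_mem W.d_mem _)) (pow_mem W.p_mem _)

theorem sG_conj_d : W.sG * W.dG * W.sG⁻¹ = W.dG ^ 2 := by
  ext i j; fin_cases i <;> fin_cases j <;>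
    simp [sG, dG, pow_succ, Matrix.mul_apply, Fin.sum_univ_three] <;> grind [W.cube]

theorem fG_conj_p : W.fG * W.pG = W.dG * W.fG := by
  ext i j; fin_cases i <;> fin_cases j <;>
    simp [fG, dG, pG, Matrix.mul_apply, Fin.sum_univ_three] <;> grind [W.cube]

theorem fG_conj_d : W.fG * W.dG = W.pG ^ 2 * W.fG := by
  ext i j; fin_cases i <;> fin_cases j <;>
    simp [fG, dG, pG, pow_succ, Matrix.mul_apply, Fin.sum_univ_three] <;> grind [W.cube]

theorem jG_conj_d : W.jG * W.dG = W.zG ^ 2 * (W.pG * W.dG ^ 2) ^ 2 * W.jG := by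
  ext i j; fin_cases i <;> fin_cases j <;>
    simp [jG, dG, pG, zG, pow_succ, Matrix.mul_apply, Fin.sum_univ_three, Matrix.one_apply] <;> grind [W.cube]

end Omega

end CfsgLib.Classical.GeoThree.C6
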