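import Cfsg.Agent.Lib.Classical.GeoThree.C6.Main
import Cfsg.Agent.Lib.Classical.AschPrime.Basic

/-!
# Coordinates on an absolutely irreducible group of order 27 and exponent 3
-/

set_option autoImplicit false
set_option linter.unusedSectionVars false
set_option linter.style.haveILetI false
set_option backward.isDefEq.respectTransparency false

open Matrix

namespace CfsgLib.Classical.GeoThree.C6

variable {F : Type*} [Field F]

local notation "M3" => Matrix (Fin 3) (Fin 3) F
local notation "G3" => GL (Fin 3) F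

/-- An absolutely irreducible group of order 27 and exponent dividing 3, with centre of order 3. -/
structure IsHeis (R : Subgroup (GL (Fin 3) F)) : Prop where
  pow_three : ∀ x ∈ R, x ^ 3 = 1
  card : Nat.card R = 27
  card_center : Nat.card (Subgroup.center R) = 3
  absirr : Cfsg.Geo.ActsAbsolutelyIrreducibly (Cfsg.Geo.matrixSet R)

theorem IsHeis.exists_noncomm {R : Subgroup G3} (hR : IsHeis R) :
    ∃ x ∈ R, ∃ y ∈ R, x * y ≠ y * x := by
  by_contra hne
  push Not at hne
  have : Subgroup.center R = ⊤ := eq_top_iff.2 fun x _ =>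
    Subgroup.mem_center_iff.2 fun y => Subtype.ext (hne y y.2 x x.2)
  have h := hR.card_center
  rw [this, Subgroup.card_top, hR.card] at h
  norm_num at h

theorem IsHeis.commutator_scalar {R : Subgroup G3} (hR : IsHeis R) {x y : G3} (hx : x ∈ R) (hy : y ∈ R) :
    ∃ c : F, ((x * y * x⁻¹ * y⁻¹ : G3) : M3) = c • 1 := by
  haveI : Fact (Nat.Prime 3) := ⟨Nat.prime_three⟩
  haveI : Finite R := Nat.finite_of_card_ne_zero (by rw [hR.card]; norm_num)
  have hq : Nat.card (R ⧸ Subgroup.center R) = 3 ^ 2 := by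
    have := Subgroup.card_eq_card_quotient_mul_card_subgroup (Subgroup.center R)
    rw [hR.card, hR.card_center] at this
    omega
  set u : R := ⟨x, hx⟩ * ⟨y, hy⟩ * ⟨x, hx⟩⁻¹ * ⟨y, hy⟩⁻¹ with hu
  have hmem : u ∈ Subgroup.center R := by
    rw [← QuotientGroup.eq_one_iff, hu]
    simp only [QuotientGroup.mk_mul, QuotientGroup.mk_inv]
    rw [IsPGroup.commutative_of_card_eq_prime_sq hq (QuotientGroup.mk ⟨x, hx⟩) (QuotientGroup.mk ⟨y, hy⟩)]
    group
  refine hR.absirr.2 _ fun s hs => ?_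
  obtain ⟨g, hg, rfl⟩ := hs
  have := Subgroup.mem_center_iff.1 hmem ⟨g, hg⟩
  rw [← Units.val_mul, ← Units.val_mul]
  exact congrArg Units.val (congrArg Subtype.val this).symm

variable [Finite F]

theorem heis_card_ge (W : Omega F) [Fact ((2 : F) ≠ 0)] : 10 ≤ Nat.card W.heis := by
  set S := Set.range fun q : Fin 3 × Fin 3 => W.zG ^ (q.1 : ℕ) * W.dG ^ (q.2 : ℕ) with hS
  have hpn : W.pG ∉ S := by
    rintro ⟨q, e⟩
    dsimp only at e
    have := congrArg (fun v : G3 => (v : M3) 1 0) e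
    rw [Units.val_mul, Omega.z_val, Omega.d_val] at this
    simp [Omega.pG] at this
  have h9c : S.ncard = 9 := by
    rw [← Nat.card_coe_set_eq, hS, Nat.card_range_of_injective zd_injective]; simp
  have := Set.ncard_le_ncard (show insert W.pG S ⊆ (W.heis : Set G3) from Set.insert_subset W.p_mem (by
    rintro _ ⟨q, rfl⟩; exact mul_mem (pow_mem W.z_mem _) (pow_mem W.d_mem _))) (Set.toFinite _)
  rw [Set.ncard_insert_of_notMem hpn, h9c] at this
  rw [← Nat.card_coe_set_eq (W.heis : Set G3)] at this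
  exact this

theorem IsHeis.exists_coords {R : Subgroup G3} (hR : IsHeis R) (h2 : (2 : F) ≠ 0) (h3 : (3 : F) ≠ 0) :
    ∃ (W : Omega F) (B : G3), R = W.heis.map (MulAut.conj B).toMonoidHom := by
  haveI : Fact ((2 : F) ≠ 0) := ⟨h2⟩
  obtain ⟨x, hx, y, hy, hxy⟩ := hR.exists_noncomm
  obtain ⟨c, hc⟩ := hR.commutator_scalar hx hy
  set z := x * y * x⁻¹ * y⁻¹ with hz
  have hzR : z ∈ R := mul_mem (mul_mem (mul_mem hx hy) (inv_mem hx)) (inv_mem hy)
  have hzp : ∀ k : ℕ, ((z ^ k : G3) : M3) = c ^ k • 1 := fun k => by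
    rw [Units.val_pow_eq_pow_val, hc, smul_pow, one_pow]
  have hc3 : c ^ 3 = 1 := by
    have h0 := congrFun (congrFun (hzp 3) 0) 0
    rw [hR.pow_three z hzR] at h0
    simpa using h0.symm
  have hz1 : z ≠ 1 := fun e => hxy (by
    rw [show x * y = z * (y * x) by rw [hz]; group, e, one_mul])
  have hc1 : c ≠ 1 := fun e => hz1 (Units.ext (by rw [hc, e, one_smul, Units.val_one]))
  have hroot : c * c + c + 1 = 0 := by
    refine mul_left_cancel₀ (sub_ne_zero.2 hc1) ?_
    linear_combination hc3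
  -- an eigenvector of `y`
  obtain ⟨k, e, he0, he⟩ : ∃ (k : ℕ) (e : Fin 3 → F), e ≠ 0 ∧ (y : M3) *ᵥ e = c ^ k • e := by
    have hy3 : (y : M3) * (y : M3) * (y : M3) = 1 := by
      rw [← Units.val_mul, ← Units.val_mul, ← pow_three', hR.pow_three y hy, Units.val_one]
    have hprod : ((y : M3) - c ^ 0 • 1) * ((y : M3) - c ^ 1 • 1) * ((y : M3) - c ^ 2 • 1) = 0 := by
      simp only [mul_sub, sub_mul, smul_mul_assoc, mul_smul_comm, one_mul, mul_one, hy3]
      match_scalars <;> grind
    have hdet := congrArg Matrix.det hprod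
    rw [det_mul, det_mul, det_zero, mul_eq_zero, mul_eq_zero] at hdet
    have key : ∀ k : ℕ, ((y : M3) - c ^ k • 1).det = 0 →
        ∃ e : Fin 3 → F, e ≠ 0 ∧ (y : M3) *ᵥ e = c ^ k • e := fun k hk => by
      obtain ⟨v, hv0, hv⟩ := Matrix.exists_mulVec_eq_zero_iff.2 hk
      refine ⟨v, hv0, ?_⟩
      rwa [sub_mulVec, smul_mulVec, one_mulVec, sub_eq_zero] at hv
    rcases hdet with (h | h) | h
    exacts [⟨0, key 0 h⟩, ⟨1, key 1 h⟩, ⟨2, key 2 h⟩]
  have hcc : ∀ k : ℕ, c ^ (2 * k) * c ^ k = 1 := fun k => by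
    rw [← pow_add, show 2 * k + k = 3 * k by omega, pow_mul, hc3, one_pow]
  set x' := x⁻¹ with hx'
  set y' := z ^ (2 * k) * y with hy'
  have hy'R : y' ∈ R := mul_mem (pow_mem hzR _) hy
  have hy'v : (y' : M3) = c ^ (2 * k) • (y : M3) := by
    rw [hy', Units.val_mul, hzp, smul_mul_assoc, one_mul]
  have hye : (y' : M3) *ᵥ e = e := by
    rw [hy'v, smul_mulVec, he, smul_smul, hcc, one_smul]
  have hswap : (y : M3) * (x' : M3) = c • ((x' : M3) * (y : M3)) := by
    have : y * x' = z * (x' * y) := by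
      have hzc : z * x' = x' * z := by
        refine Units.ext ?_
        rw [Units.val_mul z x', Units.val_mul x' z, hc, smul_mul_assoc, one_mul, mul_smul_comm, mul_one]
      rw [← mul_assoc, hzc, hz, hx']; group
    rw [← Units.val_mul, this, Units.val_mul z, Units.val_mul x' y, hc, smul_mul_assoc, one_mul]
  have hswap' : ∀ v, (y' : M3) *ᵥ ((x' : M3) *ᵥ v) = c • ((x' : M3) *ᵥ ((y' : M3) *ᵥ v)) := fun v => by
    rw [hy'v, smul_mulVec, smul_mulVec, mulVec_smul, mulVec_mulVec, mulVec_mulVec, hswap, smul_mulVec,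
      smul_comm]
  have hx3 : ∀ v, (x' : M3) *ᵥ ((x' : M3) *ᵥ ((x' : M3) *ᵥ v)) = v := fun v => by
    have h := hR.pow_three x' (inv_mem hx)
    rw [pow_succ, pow_two] at h
    rw [mulVec_mulVec, mulVec_mulVec, ← Units.val_mul, ← Units.val_mul, h, Units.val_one, one_mulVec]
  set e1 := (x' : M3) *ᵥ e with he1
  set e2 := (x' : M3) *ᵥ e1 with he2
  have hy1 : (y' : M3) *ᵥ e1 = c • e1 := by rw [he1, hswap', hye]
  have hy2 : (y' : M3) *ᵥ e2 = c ^ 2 • e2 := by
    rw [he2, hswap', hy1, mulVec_smul, smul_smul, sq]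
  set Bm : M3 := Matrix.of fun i j => ![e, e1, e2] j i with hBm
  have hBmv : ∀ v : Fin 3 → F, Bm *ᵥ v = v 0 • e + v 1 • e1 + v 2 • e2 := fun v => by
    ext i
    simp only [Matrix.mulVec, dotProduct, Fin.sum_univ_three, hBm, Matrix.of_apply, Matrix.cons_val,
      Pi.add_apply, Pi.smul_apply, smul_eq_mul]
    ring
  have hinj : Function.Injective Bm.mulVec := by
    intro v w hvw
    rw [← sub_eq_zero]
    set u := v - w with hu
    have h0 : u 0 • e + u 1 • e1 + u 2 • e2 = 0 := by
      rw [← hBmv, hu, mulVec_sub, hvw, sub_self]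
    have h1 : u 0 • e + (u 1 * c) • e1 + (u 2 * c ^ 2) • e2 = 0 := by
      have := congrArg (fun t => (y' : M3) *ᵥ t) h0
      simp only [mulVec_add, mulVec_smul, hye, hy1, hy2, mulVec_zero, smul_smul] at this
      exact this
    have h2' : u 0 • e + (u 1 * c ^ 2) • e1 + (u 2 * c) • e2 = 0 := by
      have := congrArg (fun t => (y' : M3) *ᵥ t) h1
      simp only [mulVec_add, mulVec_smul, hye, hy1, hy2, mulVec_zero, smul_smul] at this
      rw [show u 1 * c * c = u 1 * c ^ 2 by ring, show u 2 * c ^ 2 * c ^ 2 = u 2 * c by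
        linear_combination u 2 * c * hc3] at this
      exact this
    have hne1 : e1 ≠ 0 := fun h => he0 (by rw [← hx3 e, ← he1, h, mulVec_zero, mulVec_zero])
    have hne2 : e2 ≠ 0 := fun h => he0 (by rw [← hx3 e, ← he1, ← he2, h, mulVec_zero])
    have a0 : (3 * u 0) • e = 0 := by
      have := congrArg₂ (· + ·) (congrArg₂ (· + ·) h0 h1) h2'
      simp only [add_zero] at this
      rw [← this]
      match_scalars <;> grind
    have a1 : (3 * u 1) • e1 = 0 := by
      have := congrArg₂ (· + ·) (congrArg₂ (· + ·) h0 (congrArg (c ^ 2 • ·) h1)) (congrArg (c • ·) h2')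
      simp only [add_zero, smul_zero] at this
      rw [← this]
      match_scalars <;> grind
    have a2 : (3 * u 2) • e2 = 0 := by
      have := congrArg₂ (· + ·) (congrArg₂ (· + ·) h0 (congrArg (c • ·) h1)) (congrArg (c ^ 2 • ·) h2')
      simp only [add_zero, smul_zero] at this
      rw [← this]
      match_scalars <;> grind
    simp only [smul_eq_zero, mul_eq_zero, h3, he0, hne1, hne2, false_or, or_false] at a0 a1 a2
    funext i
    fin_cases i
    exacts [a0, a1, a2]
  obtain ⟨B, hB⟩ := Matrix.mulVec_injective_iff_isUnit.1 hinj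
  refine ⟨⟨c, hroot, h2, h3⟩, B, ?_⟩
  set W : Omega F := ⟨c, hroot, h2, h3⟩
  have conj_eq : ∀ {g r : G3}, (B : M3) * (g : M3) = (r : M3) * (B : M3) → B * g * B⁻¹ = r := fun h => by
    rw [mul_inv_eq_iff_eq_mul]; exact Units.ext h
  have hd : B * W.dG * B⁻¹ = y' := conj_eq (Matrix.ext_iff_mulVec.2 fun v => by
    rw [← mulVec_mulVec, ← mulVec_mulVec, hB, hBmv, hBmv]
    simp only [mulVec_add, mulVec_smul, hye, hy1, hy2]
    simp [W, Omega.dG, Matrix.mulVec, dotProduct, Fin.sum_univ_three, smul_smul, mul_comm])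
  have hp : B * W.pG * B⁻¹ = x' := conj_eq (Matrix.ext_iff_mulVec.2 fun v => by
    rw [← mulVec_mulVec, ← mulVec_mulVec, hB, hBmv, hBmv]
    simp only [mulVec_add, mulVec_smul]
    rw [← he1, ← he2, he2, he1, hx3, ← he1]
    simp [Omega.pG, Matrix.mulVec, dotProduct, Fin.sum_univ_three]
    abel)
  have hle : W.heis.map (MulAut.conj B).toMonoidHom ≤ R := by
    rw [Subgroup.map_le_iff_le_comap, Omega.heis, Subgroup.closure_le]
    rintro g (rfl | rfl)
    · show B * W.dG * B⁻¹ ∈ R
      rw [hd]; exact hy'R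
    · show B * W.pG * B⁻¹ ∈ R
      rw [hp]; exact inv_mem hx
  refine (Subgroup.eq_of_le_of_card_ge hle ?_).symm
  rw [hR.card, Subgroup.card_map_of_injective (MulAut.conj B).injective]
  have hdvd := Subgroup.card_dvd_of_le hle
  rw [hR.card, Subgroup.card_map_of_injective (MulAut.conj B).injective] at hdvd
  have h10 := heis_card_ge W
  have hle27 := Nat.le_of_dvd (by norm_num) hdvd
  by_contra hlt
  push Not at hlt
  interval_cases hn : Nat.card W.heis <;> norm_num at hdvd

end CfsgLib.Classical.GeoThree.C6
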