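import Mathlib

/-!
# Counting lemmas for finite groups
-/

set_option autoImplicit false

namespace CfsgLib.Classical.GeoThree.C6

variable {G : Type*} [Group G]

/-- The union of the conjugates of `S` by `M`. -/
def conjSet (M : Subgroup G) (S : Set G) : Set G := {t | ∃ g ∈ M, ∃ s ∈ S, g * s * g⁻¹ = t}

theorem conjSet_subset {M : Subgroup G} {S T : Set G} (hS : S ⊆ T) (hT : ∀ g ∈ M, ∀ t ∈ T, g * t * g⁻¹ ∈ T) :
    conjSet M S ⊆ T := by
  rintro _ ⟨g, hg, s, hs, rfl⟩
  exact hT g hg s (hS hs)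

/-- Counting a union of conjugates which meet only trivially. -/
theorem card_conjSet [Finite G] {M H : Subgroup G} {S : Set G} (hHM : H ≤ M)
    (hS : ∀ h ∈ H, ∀ s ∈ S, h * s * h⁻¹ ∈ S)
    (hTI : ∀ g ∈ M, ∀ s ∈ S, g * s * g⁻¹ ∈ S → g ∈ H) :
    (conjSet M S).ncard * Nat.card H = Nat.card M * S.ncard := by
  classical
  rw [← Nat.card_coe_set_eq, ← Nat.card_coe_set_eq, ← Nat.card_prod, ← Nat.card_prod]
  have hch : ∀ t : conjSet M S, ∃ g ∈ M, ∃ s ∈ S, g * s * g⁻¹ = (t : G) := fun t => t.2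
  choose g hg s hs hgs using hch
  refine Nat.card_congr (Equiv.ofBijective
    (fun q : conjSet M S × H => ((⟨g q.1 * q.2, M.mul_mem (hg q.1) (hHM q.2.2)⟩ : M),
      (⟨(q.2 : G)⁻¹ * s q.1 * q.2, by
        have := hS _ (H.inv_mem q.2.2) _ (hs q.1)
        rwa [inv_inv] at this⟩ : S))) ⟨?_, ?_⟩)
  · rintro ⟨t, h⟩ ⟨t', h'⟩ e
    simp only [Prod.mk.injEq, Subtype.mk.injEq] at e
    obtain rfl : t = t' := by
      refine Subtype.ext ?_
      rw [← hgs t, ← hgs t', show g t * s t * (g t)⁻¹ = g t * h * ((h : G)⁻¹ * s t * h) * (g t * h)⁻¹ by group,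
        e.1, e.2]
      group
    exact Prod.ext rfl (Subtype.ext (mul_left_cancel e.1))
  · rintro ⟨⟨m, hm⟩, ⟨x, hx⟩⟩
    set t : conjSet M S := ⟨m * x * m⁻¹, m, hm, x, hx, rfl⟩
    have e : g t * s t * (g t)⁻¹ = m * x * m⁻¹ := hgs t
    have hmem : (g t)⁻¹ * m ∈ H := hTI _ (M.mul_mem (M.inv_mem (hg t)) hm) x hx (by
      rw [show (g t)⁻¹ * m * x * ((g t)⁻¹ * m)⁻¹ = (g t)⁻¹ * (m * x * m⁻¹) * g t by group, ← e]
      rw [show (g t)⁻¹ * (g t * s t * (g t)⁻¹) * g t = s t by group]
      exact hs t)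
    refine ⟨(t, ⟨_, hmem⟩), Prod.ext (Subtype.ext (mul_inv_cancel_left _ _)) (Subtype.ext ?_)⟩
    change ((g t)⁻¹ * m)⁻¹ * s t * ((g t)⁻¹ * m) = x
    rw [show ((g t)⁻¹ * m)⁻¹ * s t * ((g t)⁻¹ * m) = m⁻¹ * (g t * s t * (g t)⁻¹) * m by group, e]
    group

/-- A subgroup with more than half of the elements is everything. -/
theorem eq_top_of_lt_two_mul [Finite G] {K : Subgroup G} (h : Nat.card G < 2 * Nat.card K) : K = ⊤ := by
  have e := K.index_mul_card
  rw [← Subgroup.index_eq_one]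
  have : K.index ≠ 0 := Subgroup.index_ne_zero_of_finite
  have : K.index < 2 := Nat.lt_of_mul_lt_mul_right (e.symm ▸ h)
  omega

/-- If a non-trivial exception exists, at most three quarters of the elements square into a central
subgroup. -/
theorem four_mul_card_sq_mem_le [Finite G] {Z : Subgroup G} (hZ : Z ≤ Subgroup.center G)
    (hne : ∃ x : G, x * x ∉ Z) : 4 * {x : G | x * x ∈ Z}.ncard ≤ 3 * Nat.card G := by
  classical
  haveI : Z.Normal := ⟨fun n hn g => by
    rw [Subgroup.mem_center_iff.1 (hZ hn) g, mul_inv_cancel_right]; exact hn⟩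
  by_contra hlt
  push Not at hlt
  set P : Set G := {x | x * x ∈ Z} with hP
  set π := QuotientGroup.mk' Z
  have hsq : ∀ x : G, x ∈ P ↔ π x * π x = 1 := fun x => by
    rw [← map_mul, ← MonoidHom.mem_ker, QuotientGroup.ker_mk']; rfl
  have hinv : ∀ a ∈ P, ∀ h, π a * π h = π h * π a := by
    intro a ha
    set K : Subgroup G := (Subgroup.centralizer {π a}).comap π
    suffices K = ⊤ from fun h => (Subgroup.mem_centralizer_singleton_iff.1
      (show π h ∈ Subgroup.centralizer {π a} from by rw [← Subgroup.mem_comap]; exact this.symm.le (Subgroup.mem_top h))).symm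
    refine eq_top_of_lt_two_mul ?_
    have hsub : P ∩ (fun h => a * h) ⁻¹' P ⊆ (K : Set G) := by
      rintro h ⟨hh, hah⟩
      rw [hsq] at hh ha
      have hah' := (hsq (a * h)).1 hah
      rw [map_mul] at hah'
      refine Subgroup.mem_centralizer_singleton_iff.2 ?_
      have e : (π a * π h)⁻¹ = π a * π h := inv_eq_of_mul_eq_one_left hah'
      rw [_root_.mul_inv_rev, inv_eq_of_mul_eq_one_left hh, inv_eq_of_mul_eq_one_left ha] at e
      exact e
    have h1 := Set.ncard_le_ncard hsub (Set.toFinite _)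
    have h2 := Set.ncard_inter_add_ncard_union P ((fun h => a * h) ⁻¹' P)
    have h3 : (P ∪ (fun h => a * h) ⁻¹' P).ncard ≤ Nat.card G :=
      (Set.ncard_le_ncard (Set.subset_univ _)).trans (Set.ncard_univ G).le
    have h4 : ((fun h => a * h) ⁻¹' P).ncard = P.ncard :=
      Set.ncard_preimage_of_injective_subset_range (mul_right_injective a) (by
        rw [(mul_left_surjective a).range_eq]; exact Set.subset_univ _)
    rw [← Nat.card_coe_set_eq (K : Set G)] at h1
    change 3 * Nat.card G < 4 * P.ncard at hlt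
    change _ ≤ Nat.card K at h1
    omega
  let L : Subgroup G :=
    { carrier := P
      one_mem' := by simp [hP]
      mul_mem' := fun {a b} ha hb => by
        rw [hsq] at *
        rw [map_mul, mul_assoc, ← mul_assoc (π b), ← hinv a ((hsq a).2 ha) b, mul_assoc (π a), hb,
          mul_one, ha]
      inv_mem' := fun {a} ha => by
        rw [hsq] at *
        rw [map_inv, ← _root_.mul_inv_rev, ha, inv_one] }
  have hL : L = ⊤ := eq_top_of_lt_two_mul (by
    change 3 * Nat.card G < 4 * P.ncard at hlt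
    have : Nat.card L = P.ncard := Nat.card_coe_set_eq P
    omega)
  obtain ⟨x, hx⟩ := hne
  exact hx (show x ∈ L from hL.symm ▸ Subgroup.mem_top x)

end CfsgLib.Classical.GeoThree.C6
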