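import Cfsg.Agent.Lib.Classical.GeoThree.C6.Coords
import Cfsg.Agent.Lib.Classical.GeoThree.RootFull

/-!
# Maximality of the normaliser of an extraspecial group of order 27 in `SL₃(p)`
-/

set_option autoImplicit false
set_option linter.unusedSectionVars false
set_option linter.style.haveILetI false
set_option backward.isDefEq.respectTransparency false

open Matrix Cfsg.Geo

namespace CfsgLib.Classical.GeoThree.C6

variable {F : Type*} [Field F] [Finite F]

local notation "M3" => Matrix (Fin 3) (Fin 3) F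
local notation "G3" => GL (Fin 3) F

theorem mem_sl {g : G3} : g ∈ specialLinear (Fin 3) F ↔ (g : M3).det = 1 := by
  rw [specialLinear, MonoidHom.mem_ker, Units.ext_iff, Matrix.GeneralLinearGroup.val_det_apply, Units.val_one]

variable {W : Omega F}

theorem d_sl : W.dG ∈ specialLinear (Fin 3) F :=
  mem_sl.2 (by simp [Omega.dG, det_fin_three]; linear_combination W.cube)

theorem p_sl : W.pG ∈ specialLinear (Fin 3) F :=
  mem_sl.2 (by simp [Omega.pG, det_fin_three])

theorem f_sl : W.fG ∈ specialLinear (Fin 3) F :=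
  mem_sl.2 (by
    have hs := W.s_ne
    simp [Omega.fG, det_fin_three]
    field_simp
    grind [W.s_sq, W.root, Omega.s])

theorem j_sl : W.jG ∈ specialLinear (Fin 3) F :=
  mem_sl.2 (by
    have hs := W.s_ne
    simp [Omega.jG, det_fin_three]
    field_simp
    grind [W.s_sq, W.root, Omega.s])

theorem heis_sl : W.heis ≤ specialLinear (Fin 3) F := by
  rw [Omega.heis, Subgroup.closure_le]
  rintro x (rfl | rfl)
  exacts [d_sl, p_sl]

theorem conj_mem_sl {g x : G3} (hx : x ∈ specialLinear (Fin 3) F) : g * x * g⁻¹ ∈ specialLinear (Fin 3) F := by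
  rw [specialLinear] at hx ⊢
  exact (MonoidHom.normal_ker _).conj_mem x hx g

/-- The element of order nine normalising the Heisenberg group. -/
theorem hex_normalizer {g : G3} {ζ : F} (hv : (g : M3) = ζ • !![1, 0, 0; 0, W.ω, 0; 0, 0, W.ω]) :
    g ∈ Subgroup.normalizer (W.heis : Set G3) := by
  have hz := W.ne_zero
  refine W.mem_normalizer_of_gens ?_ ?_
  · have : g * W.dG = W.dG * g := by
      refine Units.ext ?_
      rw [Units.val_mul, Units.val_mul, hv]
      ext i j; fin_cases i <;> fin_cases j <;> simp [Omega.dG, Matrix.mul_apply, Fin.sum_univ_three] <;> ring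
    rw [this, mul_inv_cancel_right]; exact W.d_mem
  · have : g * W.pG = W.zG ^ 2 * W.dG ^ 2 * W.pG * g := by
      refine Units.ext ?_
      rw [Units.val_mul, Units.val_mul, Units.val_mul, Units.val_mul, hv, Omega.z_val, Omega.d_val]
      ext i j; fin_cases i <;> fin_cases j <;>
        simp [Omega.pG, Matrix.mul_apply, Fin.sum_univ_three] <;> grind [W.cube]
    rw [this, mul_inv_cancel_right]
    exact mul_mem (mul_mem (pow_mem W.z_mem 2) (pow_mem W.d_mem 2)) W.p_mem

theorem exists_hex {ζ : F} (hζ : ζ ^ 3 = W.ω) :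
    ∃ g ∈ Subgroup.normalizer (W.heis : Set G3) ⊓ specialLinear (Fin 3) F,
      (g : M3) = ζ • !![1, 0, 0; 0, W.ω, 0; 0, 0, W.ω] := by
  have hd : (ζ • !![1, 0, 0; 0, W.ω, 0; 0, 0, W.ω] : M3).det = 1 := by
    simp [det_fin_three]; linear_combination W.cube + W.ω ^ 2 * hζ
  obtain ⟨g, hg⟩ := (Matrix.isUnit_iff_isUnit_det (ζ • !![1, 0, 0; 0, W.ω, 0; 0, 0, W.ω] : M3)).2 (by
    rw [hd]; exact isUnit_one)
  exact ⟨g, Subgroup.mem_inf.2 ⟨hex_normalizer hg, mem_sl.2 (by rw [hg, hd])⟩, hg⟩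

/-- A matrix commuting with both generators is scalar. -/
theorem scalar_of_comm {u : G3} (hd : u * W.dG = W.dG * u) (hp : u * W.pG = W.pG * u) :
    (u : M3) = (u : M3) 0 0 • 1 := by
  have h1 := W.ne_one
  have h2 := W.sq_ne_one
  have h3 := W.sq_ne
  have ed := congrArg Units.val hd
  have ep := congrArg Units.val hp
  rw [Units.val_mul, Units.val_mul] at ed ep
  have off : ∀ i j, i ≠ j → (u : M3) i j = 0 := by
    intro i j hij
    have e := congrFun (congrFun ed i) j
    fin_cases i <;> fin_cases j <;>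
      simp [Omega.dG, Matrix.mul_apply, Fin.sum_univ_three] at e hij ⊢ <;> grind
  have e0 := congrFun (congrFun ep 1) 0
  have e1 := congrFun (congrFun ep 2) 1
  simp [Omega.pG, Matrix.mul_apply, Fin.sum_univ_three] at e0 e1
  ext i j
  rcases eq_or_ne i j with rfl | hij
  · fin_cases i <;> simp <;> grind
  · simp [hij, off i j hij]

theorem cube_roots {c : F} (hc : c ^ 3 = 1) : ∃ k : ℕ, c = W.ω ^ k := by
  have : (c - 1) * ((c - W.ω) * (c - W.ω ^ 2)) = 0 := by
    linear_combination hc + (c - c ^ 2) * W.root + (c - 1) * W.cube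
  rcases mul_eq_zero.1 this with e | e
  · exact ⟨0, by rw [pow_zero]; exact sub_eq_zero.1 e⟩
  rcases mul_eq_zero.1 e with e | e
  · exact ⟨1, by rw [pow_one]; exact sub_eq_zero.1 e⟩
  · exact ⟨2, sub_eq_zero.1 e⟩

variable {M : Subgroup (GL (Fin 3) F)}

/-- A normal subgroup of `M` contains or is contained in the Heisenberg group. -/
theorem normal_cases [Fact ((2 : F) ≠ 0)] (h : Hyp W M) (hN : M ≤ Subgroup.normalizer (W.heis : Set G3))
    {H : Subgroup G3} (hHM : H ≤ M) (hHN : ∀ k ∈ M, ∀ x ∈ H, k * x * k⁻¹ ∈ H) :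
    W.heis ≤ H ∨ H ≤ W.heis := by
  by_cases hA : ∃ x ∈ H, x ∈ W.heis ∧ ∀ k : ℕ, x ≠ W.zG ^ k
  · obtain ⟨x, hxH, hx, hne⟩ := hA
    rcases heis_cases h hx with ⟨k, e⟩ | ⟨g, hg, e⟩
    · exact absurd e (hne k)
    left
    have hdH : W.dG ∈ H := e ▸ hHN g (Subgroup.mem_inf.1 hg).1 x hxH
    rw [Omega.heis, Subgroup.closure_le]
    rintro r (rfl | rfl)
    · exact hdH
    · have := hHN W.fG⁻¹ (inv_mem h.f) _ hdH
      rwa [inv_inv, mul_assoc, ← W.fG_conj_p, inv_mul_cancel_left] at this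
  · push Not at hA
    right
    intro x hx
    have key : ∀ r ∈ W.heis, ∃ k : ℕ, x * r * x⁻¹ = W.zG ^ k * r := by
      intro r hr
      have hrM := h.heis_le hr
      obtain ⟨k, hk⟩ := hA (x * r * x⁻¹ * r⁻¹) (by
          rw [show x * r * x⁻¹ * r⁻¹ = x * (r * x⁻¹ * r⁻¹) by group]
          exact mul_mem hx (hHN r hrM _ (inv_mem hx)))
        (mul_mem ((Subgroup.mem_normalizer_iff.1 (hN (hHM hx)) r).1 hr) (inv_mem hr))
      exact ⟨k, by rw [← hk]; group⟩
    obtain ⟨k, hk⟩ := key W.dG W.d_mem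
    obtain ⟨l, hl⟩ := key W.pG W.p_mem
    set r := W.dG ^ l * W.pG ^ (2 * k) with hr
    have hrd : r * W.dG * r⁻¹ = W.zG ^ k * W.dG := by
      rw [show r * W.dG * r⁻¹ = W.dG ^ l * (W.pG ^ (2 * k) * W.dG * (W.pG ^ (2 * k))⁻¹) * (W.dG ^ l)⁻¹ by
        rw [hr]; group, Omega.p_pow_conj_d, ← mul_assoc (W.dG ^ l),
        ← (Commute.pow_left (W.zG_comm (W.dG ^ l)) _).eq, mul_assoc, mul_assoc, ← mul_assoc (W.dG ^ l) W.dG,
        ← pow_succ, pow_succ' W.dG, mul_inv_cancel_right,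
        pow_eq_pow_mod _ W.z_pow_three, pow_eq_pow_mod k W.z_pow_three]
      congr 2
      omega
    have hrp : r * W.pG * r⁻¹ = W.zG ^ l * W.pG := by
      have hdl : ∀ n : ℕ, W.dG ^ n * W.pG * (W.dG ^ n)⁻¹ = W.zG ^ n * W.pG := by
        intro n
        induction n with
        | zero => simp
        | succ n ih =>
          rw [show W.dG ^ (n + 1) * W.pG * (W.dG ^ (n + 1))⁻¹ =
            W.dG * (W.dG ^ n * W.pG * (W.dG ^ n)⁻¹) * W.dG⁻¹ by rw [pow_succ']; group, ih,
            ← mul_assoc W.dG, ← (Commute.pow_left (W.zG_comm W.dG) n).eq, mul_assoc (W.zG ^ n), W.d_mul_p,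
            pow_succ W.zG, mul_assoc, mul_assoc W.zG, mul_inv_cancel_right, mul_assoc]
      rw [show r * W.pG * r⁻¹ = W.dG ^ l * (W.pG ^ (2 * k) * W.pG * (W.pG ^ (2 * k))⁻¹) * (W.dG ^ l)⁻¹ by
        rw [hr]; group, ← pow_succ, pow_succ', mul_inv_cancel_right, hdl]
    have hc : ∀ {t : G3}, x * t * x⁻¹ = r * t * r⁻¹ → r⁻¹ * x * t = t * (r⁻¹ * x) := fun {t} e => by
      calc r⁻¹ * x * t = r⁻¹ * (x * t * x⁻¹) * x := by group
        _ = t * (r⁻¹ * x) := by rw [e]; group
    have hs := scalar_of_comm (u := r⁻¹ * x) (hc (hk.trans hrd.symm)) (hc (hl.trans hrp.symm))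
    have hrh : r ∈ W.heis := mul_mem (pow_mem W.d_mem _) (pow_mem W.p_mem _)
    set c := ((r⁻¹ * x : G3) : M3) 0 0
    have hc3 : c ^ 3 = 1 := by
      have := mem_sl.1 (h.sl (mul_mem (inv_mem (h.heis_le hrh)) (hHM hx)))
      rw [hs, det_smul, det_one, mul_one, Fintype.card_fin] at this
      exact this
    obtain ⟨m, hm⟩ := cube_roots (W := W) hc3
    obtain rfl : x = r * W.zG ^ m := by
      rw [← inv_mul_eq_iff_eq_mul]
      exact Units.ext (by rw [hs, hm, Omega.z_val])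
    exact mul_mem hrh (pow_mem W.z_mem m)

theorem normalizer_of_normalizes [Fact ((2 : F) ≠ 0)] (h : Hyp W M)
    (hN : M ≤ Subgroup.normalizer (W.heis : Set G3)) {g : G3} (hg : ∀ x, x ∈ M ↔ g * x * g⁻¹ ∈ M) :
    g ∈ Subgroup.normalizer (W.heis : Set G3) := by
  set H := W.heis.map (MulAut.conj g).toMonoidHom with hH
  have hHM : H ≤ M := by
    rintro _ ⟨r, hr, rfl⟩
    exact (hg r).1 (h.heis_le hr)
  have hHN : ∀ k ∈ M, ∀ x ∈ H, k * x * k⁻¹ ∈ H := by
    rintro k hk _ ⟨r, hr, rfl⟩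
    have hk' : g⁻¹ * k * g ∈ M := (hg _).2 (by rwa [show g * (g⁻¹ * k * g) * g⁻¹ = k by group])
    refine ⟨g⁻¹ * k * g * r * (g⁻¹ * k * g)⁻¹, (Subgroup.mem_normalizer_iff.1 (hN hk') r).1 hr, ?_⟩
    simp only [MulEquiv.coe_toMonoidHom, MulAut.conj_apply]
    group
  have hcard : Nat.card H = Nat.card W.heis := Subgroup.card_map_of_injective (MulAut.conj g).injective
  have heq : H = W.heis := by
    rcases normal_cases h hN hHM hHN with h1 | h1
    · exact (Subgroup.eq_of_le_of_card_ge h1 hcard.le).symm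
    · exact Subgroup.eq_of_le_of_card_ge h1 hcard.ge
  refine W.mem_normalizer_of_gens ?_ ?_
  · exact heq ▸ ⟨_, W.d_mem, rfl⟩
  · exact heq ▸ ⟨_, W.p_mem, rfl⟩

theorem mem_normalizer_map {B g : G3}
    (hg : g ∈ Subgroup.normalizer ((W.heis.map (MulAut.conj B).toMonoidHom : Subgroup G3) : Set G3)) :
    B⁻¹ * g * B ∈ Subgroup.normalizer (W.heis : Set G3) := by
  rw [← Subgroup.map_equiv_normalizer_eq] at hg
  obtain ⟨k, hk, rfl⟩ := hg
  simp only [MulEquiv.coe_toMonoidHom, MulAut.conj_apply]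
  rwa [show B⁻¹ * (B * k * B⁻¹) * B = k by group]

theorem conj_mem_normalizer_map {B g : G3} (hg : g ∈ Subgroup.normalizer (W.heis : Set G3)) :
    B * g * B⁻¹ ∈ Subgroup.normalizer ((W.heis.map (MulAut.conj B).toMonoidHom : Subgroup G3) : Set G3) := by
  rw [← Subgroup.map_equiv_normalizer_eq]
  exact ⟨g, hg, rfl⟩

theorem not_sl_le_normalizer_heis : ¬ specialLinear (Fin 3) F ≤ Subgroup.normalizer (W.heis : Set G3) := by
  intro hle
  have hperp : (Pi.single 1 1 : Fin 3 → F) ⬝ᵥ Pi.single 0 1 = 0 := by simp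
  obtain ⟨t, ht⟩ : ∃ t, t = trGL (Pi.single 0 1 : Fin 3 → F) (Pi.single 1 1) hperp := ⟨_, rfl⟩
  have hts : t ∈ specialLinear (Fin 3) F := ht ▸ trGL_mem_sl _ _ hperp
  have hT := (Subgroup.mem_normalizer_iff.1 (hle hts) W.dG).1 W.d_mem
  obtain ⟨k, b, c, e⟩ := W.mem_heis_iff.1 hT
  have hv : (t : M3) = !![1, 1, 0; 0, 1, 0; 0, 0, 1] := by
    refine Matrix.ext_iff_mulVec.2 fun v => ?_
    rw [ht, trGL_mulVec]
    funext i
    fin_cases i <;> simp [Matrix.mulVec, dotProduct, Fin.sum_univ_three, Pi.single_apply]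
  rw [mul_inv_eq_iff_eq_mul] at e
  have e' := congrArg Units.val e
  simp only [Units.val_mul, Omega.z_val, Omega.d_val, hv] at e'
  have hzk := pow_ne_zero k W.ne_zero
  have h1 := W.ne_one
  rw [pow_eq_pow_mod c W.p_pow_three] at e'
  have e00 := congrFun (congrFun e' 0) 0
  have e01 := congrFun (congrFun e' 0) 1
  have hc3 : c % 3 < 3 := Nat.mod_lt _ (by norm_num)
  interval_cases hh : c % 3 <;>
    simp [Omega.pG, Omega.dG, pow_succ, Matrix.mul_apply, Fin.sum_univ_three, Matrix.one_apply] at e00 e01 <;>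
    grind

theorem irr_comap {R M : Subgroup G3} (hirr : ActsIrreducibly (matrixSet R)) (hRM : R ≤ M) (B : G3) :
    ActsIrreducibly (matrixSet (M.comap (MulAut.conj B).toMonoidHom)) := by
  rw [AschPrime.irr_iff] at hirr ⊢
  intro U hU
  set L := Matrix.toLin' (B : M3)
  have hinj : Function.Injective L := fun a b hab => by
    have := congrArg (fun v => ((B⁻¹ : G3) : M3) *ᵥ v) hab
    simpa [L, mulVec_mulVec, ← Units.val_mul] using this
  have key := hirr (U.map L) (fun s hs v hv => by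
    obtain ⟨g, hg, rfl⟩ := hs
    obtain ⟨u, hu, rfl⟩ := hv
    refine ⟨((B⁻¹ * g * B : G3) : M3) *ᵥ u, hU _ ⟨_, ?_, rfl⟩ u hu, ?_⟩
    · show B * (B⁻¹ * g * B) * B⁻¹ ∈ M
      rw [show B * (B⁻¹ * g * B) * B⁻¹ = g by group]; exact hRM hg
    · simp only [L, Matrix.toLin'_apply, mulVec_mulVec, ← Units.val_mul, ← mul_assoc, mul_inv_cancel, one_mul])
  rcases key with h | h
  · exact .inl ((Submodule.eq_bot_iff _).2 fun u hu => hinj (by
      rw [map_zero]; exact (Submodule.eq_bot_iff _).1 h _ ⟨u, hu, rfl⟩))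
  · refine .inr (eq_top_iff.2 fun v _ => ?_)
    obtain ⟨u, hu, e⟩ := h.symm ▸ (Submodule.mem_top (x := L v) (R := F))
    rwa [hinj e] at hu

theorem seven_le_ringChar [Fintype F] (hp : (Fintype.card F).Prime) (h7 : 7 ≤ Fintype.card F) :
    7 ≤ ringChar F := by
  haveI : Fact (Fintype.card F).Prime := ⟨hp⟩
  haveI : CharP F (Fintype.card F) := charP_of_card_eq_prime rfl
  rwa [ringChar.eq F (Fintype.card F)]

theorem natCast_ne [Fintype F] (hp : (Fintype.card F).Prime) (h7 : 7 ≤ Fintype.card F) :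
    (2 : F) ≠ 0 ∧ (3 : F) ≠ 0 := by
  haveI : Fact (Fintype.card F).Prime := ⟨hp⟩
  haveI : CharP F (Fintype.card F) := charP_of_card_eq_prime rfl
  have key : ∀ n : ℕ, 0 < n → n < Fintype.card F → (n : F) ≠ 0 := fun n h0 hlt h => by
    have := Nat.le_of_dvd h0 ((CharP.cast_eq_zero_iff F (Fintype.card F) n).1 h)
    omega
  exact ⟨by exact_mod_cast key 2 (by norm_num) (by omega), by exact_mod_cast key 3 (by norm_num) (by omega)⟩

variable {R : Subgroup (GL (Fin 3) F)}

/-- An intermediate group contains `SL₃` or normalises the group of order 27. -/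
theorem sl_le_or_le_normalizer [Fintype F] (hp : (Fintype.card F).Prime) (h7 : 7 ≤ Fintype.card F)
    (hR : IsHeis R) {M : Subgroup G3} (hM : subgroupNormalizer R ⊓ specialLinear (Fin 3) F ≤ M) :
    specialLinear (Fin 3) F ≤ M ∨ M ≤ subgroupNormalizer R := by
  classical
  obtain ⟨h2, h3⟩ := natCast_ne hp h7
  haveI : Fact ((2 : F) ≠ 0) := ⟨h2⟩
  obtain ⟨W, B, rfl⟩ := hR.exists_coords h2 h3
  set f := (MulAut.conj B).toMonoidHom
  set M' := (M ⊓ specialLinear (Fin 3) F).comap f with hM'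
  have hin : ∀ g : G3, g ∈ Subgroup.normalizer (W.heis : Set G3) → g ∈ specialLinear (Fin 3) F → g ∈ M' :=
    fun g hg hgs => Subgroup.mem_inf.2
      ⟨hM (Subgroup.mem_inf.2 ⟨conj_mem_normalizer_map hg, conj_mem_sl hgs⟩), conj_mem_sl hgs⟩
  by_cases hno : NoTransv M'
  · right
    have h : Hyp W M' :=
      { sl := fun g hg => by
          have h' : B * g * B⁻¹ ∈ specialLinear (Fin 3) F := (Subgroup.mem_inf.1 hg).2
          have := conj_mem_sl (g := B⁻¹) h'
          rwa [show B⁻¹ * (B * g * B⁻¹) * B⁻¹⁻¹ = g by group] at this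
        noTr := hno
        d := hin _ W.d_normalizer d_sl
        p := hin _ W.p_normalizer p_sl
        f := hin _ W.f_normalizer f_sl
        j := hin _ W.j_normalizer j_sl
        char := seven_le_ringChar hp h7 }
    have hN := le_normalizer_heis h fun ζ hζ => by
      obtain ⟨g, hg, e⟩ := exists_hex hζ
      exact ⟨g, hin g (Subgroup.mem_inf.1 hg).1 (Subgroup.mem_inf.1 hg).2, e⟩
    intro g hg
    have hk : B⁻¹ * g * B ∈ Subgroup.normalizer (W.heis : Set G3) := by
      refine normalizer_of_normalizes h hN fun x => ?_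
      have e : B * (B⁻¹ * g * B * x * (B⁻¹ * g * B)⁻¹) * B⁻¹ = g * (B * x * B⁻¹) * g⁻¹ := by group
      show B * x * B⁻¹ ∈ M ⊓ _ ↔ B * (B⁻¹ * g * B * x * (B⁻¹ * g * B)⁻¹) * B⁻¹ ∈ M ⊓ _
      rw [e, Subgroup.mem_inf, Subgroup.mem_inf]
      refine and_congr ⟨fun h => mul_mem (mul_mem hg h) (inv_mem hg), fun h => ?_⟩
        ⟨fun h => conj_mem_sl h, fun h => ?_⟩
      · have := mul_mem (mul_mem (inv_mem hg) h) hg
        rwa [show g⁻¹ * (g * (B * x * B⁻¹) * g⁻¹) * g = B * x * B⁻¹ by group] at this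
      · have := conj_mem_sl (g := g⁻¹) h
        rwa [show g⁻¹ * (g * (B * x * B⁻¹) * g⁻¹) * g⁻¹⁻¹ = B * x * B⁻¹ by group] at this
    have := conj_mem_normalizer_map (B := B) hk
    rwa [show B * (B⁻¹ * g * B) * B⁻¹ = g by group] at this
  · left
    simp only [NoTransv, not_forall] at hno
    obtain ⟨v, φ, hperp, hmem, hne⟩ := hno
    push Not at hne
    have hirr : ActsIrreducibly (matrixSet M') := irr_comap hR.absirr.1 (by
      rintro x ⟨r, hr, rfl⟩
      exact Subgroup.mem_inf.2 ⟨hM (Subgroup.mem_inf.2 ⟨conj_mem_normalizer_map (Subgroup.le_normalizer hr),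
        conj_mem_sl (heis_sl hr)⟩), conj_mem_sl (heis_sl hr)⟩) B
    have hsl := sl_le_of_root hirr hne.1 hne.2 (root_of_prime hp hperp hmem)
    intro g hg
    have : B⁻¹ * g * B⁻¹⁻¹ ∈ M' := hsl (conj_mem_sl hg)
    have h' : B * (B⁻¹ * g * B⁻¹⁻¹) * B⁻¹ ∈ M := (Subgroup.mem_inf.1 this).1
    rwa [show B * (B⁻¹ * g * B⁻¹⁻¹) * B⁻¹ = g by group] at h'

theorem heisNormalizer_not_sl [Fintype F] (hp : (Fintype.card F).Prime) (h7 : 7 ≤ Fintype.card F)
    (hR : IsHeis R) : ¬ specialLinear (Fin 3) F ≤ subgroupNormalizer R := by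
  obtain ⟨h2, h3⟩ := natCast_ne hp h7
  obtain ⟨W, B, rfl⟩ := hR.exists_coords h2 h3
  intro hle
  refine not_sl_le_normalizer_heis (W := W) fun g hg => ?_
  have := mem_normalizer_map (hle (conj_mem_sl (g := B) hg))
  rwa [show B⁻¹ * (B * g * B⁻¹) * B = g by group] at this

/-- The normaliser is maximal in `SL₃(p)`. -/
theorem heisNormalizer_isMaximalIn [Fintype F] (hp : (Fintype.card F).Prime) (h7 : 7 ≤ Fintype.card F)
    (hR : IsHeis R) :
    IsMaximalIn (specialLinear (Fin 3) F) (subgroupNormalizer R ⊓ specialLinear (Fin 3) F) := by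
  refine ⟨lt_of_le_of_ne inf_le_right fun e => heisNormalizer_not_sl hp h7 hR (inf_eq_right.1 e),
    fun M hM hMs => ?_⟩
  rcases sl_le_or_le_normalizer hp h7 hR hM with h | h
  · exact .inr (le_antisymm hMs h)
  · exact .inl (le_antisymm (le_inf h hMs) hM)

/-- Whatever normalises the special normaliser of `R` normalises `R`. -/
theorem normalizer_normalizer_inf_sl [Fintype F] (hp : (Fintype.card F).Prime) (h7 : 7 ≤ Fintype.card F)
    (hR : IsHeis R) :
    Subgroup.normalizer ((subgroupNormalizer R ⊓ specialLinear (Fin 3) F : Subgroup G3) : Set G3) ≤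
      subgroupNormalizer R := by
  classical
  obtain ⟨h2, h3⟩ := natCast_ne hp h7
  haveI : Fact ((2 : F) ≠ 0) := ⟨h2⟩
  have hnot := heisNormalizer_not_sl hp h7 hR
  obtain ⟨W, B, rfl⟩ := hR.exists_coords h2 h3
  set N := subgroupNormalizer (W.heis.map (MulAut.conj B).toMonoidHom) ⊓ specialLinear (Fin 3) F with hNdef
  set M' := Subgroup.normalizer (W.heis : Set G3) ⊓ specialLinear (Fin 3) F with hM'
  have hirr : ActsIrreducibly (matrixSet (N.comap (MulAut.conj B).toMonoidHom)) := irr_comap hR.absirr.1 (by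
      rintro x ⟨r, hr, rfl⟩
      exact Subgroup.mem_inf.2 ⟨conj_mem_normalizer_map (Subgroup.le_normalizer hr),
        conj_mem_sl (heis_sl hr)⟩) B
  have hmem : ∀ x : G3, x ∈ M' ↔ B * x * B⁻¹ ∈ N := by
    intro x
    simp only [hM', hNdef, Subgroup.mem_inf]
    refine and_congr ⟨fun h => conj_mem_normalizer_map h, fun h => ?_⟩ ⟨fun h => conj_mem_sl h, fun h => ?_⟩
    · have := mem_normalizer_map h
      rwa [show B⁻¹ * (B * x * B⁻¹) * B = x by group] at this
    · have := conj_mem_sl (g := B⁻¹) h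
      rwa [show B⁻¹ * (B * x * B⁻¹) * B⁻¹⁻¹ = x by group] at this
  have hcomap : N.comap (MulAut.conj B).toMonoidHom = M' := Subgroup.ext fun x => (hmem x).symm
  rw [hcomap] at hirr
  have hno : NoTransv M' := by
    intro v φ hperp ht
    by_contra hne
    push Not at hne
    exact not_sl_le_normalizer_heis (W := W)
      ((sl_le_of_root hirr hne.1 hne.2 (root_of_prime hp hperp ht)).trans inf_le_left)
  have h : Hyp W M' :=
    { sl := inf_le_right
      noTr := hno
      d := Subgroup.mem_inf.2 ⟨W.d_normalizer, d_sl⟩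
      p := Subgroup.mem_inf.2 ⟨W.p_normalizer, p_sl⟩
      f := Subgroup.mem_inf.2 ⟨W.f_normalizer, f_sl⟩
      j := Subgroup.mem_inf.2 ⟨W.j_normalizer, j_sl⟩
      char := seven_le_ringChar hp h7 }
  intro g hg
  have hk : B⁻¹ * g * B ∈ Subgroup.normalizer (W.heis : Set G3) := by
    refine normalizer_of_normalizes h inf_le_left fun x => ?_
    rw [hmem, hmem, show B * (B⁻¹ * g * B * x * (B⁻¹ * g * B)⁻¹) * B⁻¹ = g * (B * x * B⁻¹) * g⁻¹ by group]
    exact Subgroup.mem_normalizer_iff.1 hg _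
  have := conj_mem_normalizer_map (B := B) hk
  rwa [show B * (B⁻¹ * g * B) * B⁻¹ = g by group] at this

end CfsgLib.Classical.GeoThree.C6
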