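import Cfsg.Agent.Lib.Classical.GeoThree.C6.Dichotomy
import Cfsg.Agent.Lib.Classical.AschForm.SymTypeData

/-!
# The groups of symplectic type of the sixth class in dimension three
-/

set_option autoImplicit false
set_option linter.unusedSectionVars false

open Cfsg.Geo CfsgLib.Classical.AschGen CfsgLib.Classical.AschForm

namespace CfsgLib.Classical.GeoThree.C6

variable {F : Type*} [Field F] [Fintype F]

theorem IsHeis.of_symplecticType {R : Subgroup (GL (Fin 3) F)} (hST : IsSymplecticTypeGroup 3 R)
    (habs : ActsAbsolutelyIrreducibly (matrixSet R)) (hz : Nat.card (Subgroup.center R) = 3)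
    (hdvd : 3 ∣ Fintype.card F - 1) : IsHeis R := by
  have h : SymType 3 R := symType_of_data (by norm_num) hST habs (by rw [hz]; norm_num)
    (by rw [hz, Nat.card_eq_fintype_card]; exact hdvd)
  exact ⟨fun x hx => by simpa using h.pow_eq x hx, by rw [h.card_eq (by norm_num), hz], hz, habs⟩

theorem IsHeis.of_data {R : Subgroup (GL (Fin 3) F)} (hR : IsLinearSymplecticTypeData 3 R) : IsHeis R := by
  obtain ⟨p, e, -, ⟨-, -, hcard, hdvd, -⟩, (⟨-, -, hz, -⟩ | ⟨h, -⟩ | ⟨h, -⟩)⟩ := hR.field
  · refine IsHeis.of_symplecticType hR.symplecticType hR.absIrred hz ?_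
    rwa [hcard, ← hz]
  · norm_num at h
  · norm_num at h

end CfsgLib.Classical.GeoThree.C6
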