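import Cfsg.Agent.Lib.Classical.GeoThree.C6.Sigma

/-!
# Involutions and the elements attached to them
-/

set_option autoImplicit false
set_option linter.unusedSectionVars false
set_option linter.style.haveILetI false
set_option backward.isDefEq.respectTransparency false

open Matrix

namespace CfsgLib.Classical.GeoThree.C6

variable {F : Type*} [Field F] [Finite F] [Fact ((2 : F) ≠ 0)]
  {M : Subgroup (GL (Fin 3) F)} {W : Omega F}

local notation "M3" => Matrix (Fin 3) (Fin 3) F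
local notation "G3" => GL (Fin 3) F
local notation "M2" => Matrix (Fin 2) (Fin 2) F

theorem sG_mul_self : W.sG * W.sG = 1 := by
  ext i j; fin_cases i <;> fin_cases j <;> simp [Omega.sG, Matrix.mul_apply, Fin.sum_univ_three]

theorem sG_ne_one : W.sG ≠ 1 := fun e => by
  have := congrArg (fun u : G3 => (u : M3) 1 1) e
  simp [Omega.sG] at this

theorem fG_reg (h : Hyp W M) : W.fG ∈ regSet M :=
  regSet.of_pow_two h.f (j := 2) (by
    rw [show (2 : ℕ) ^ 2 = 2 * 2 from rfl, pow_mul, pow_two W.fG, W.fG_sq, pow_two, sG_mul_self])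

/-- Every two-subgroup is conjugate into the centraliser of `σ`. -/
theorem exists_conj_comm_sigma (h : Hyp W M) (h9 : ∀ ζ : F, ζ ^ 3 ≠ W.ω) {L : Subgroup G3} (hL : L ≤ M)
    (hL2 : IsPGroup 2 L) : ∃ g ∈ M, ∀ x ∈ L, g * x * g⁻¹ * W.sG = W.sG * (g * x * g⁻¹) := by
  haveI : Fact (Nat.Prime 2) := ⟨Nat.prime_two⟩
  have hf4 : (⟨W.fG, h.f⟩ : M) ^ 2 ^ 2 = 1 := Subtype.ext (by
    rw [SubgroupClass.coe_pow, Subgroup.coe_one, show (2 : ℕ) ^ 2 = 2 * 2 from rfl, pow_mul, pow_two W.fG,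
      W.fG_sq, pow_two, sG_mul_self])
  have hfP : IsPGroup 2 (Subgroup.zpowers (⟨W.fG, h.f⟩ : M)) := by
    rintro ⟨y, hy⟩
    obtain ⟨i, rfl⟩ := Subgroup.mem_zpowers_iff.1 hy
    refine ⟨2, Subtype.ext ?_⟩
    rw [SubgroupClass.coe_pow, Subgroup.coe_one, ← zpow_natCast, ← _root_.zpow_mul, mul_comm,
      _root_.zpow_mul, zpow_natCast, hf4, _root_.one_zpow]
  obtain ⟨S, hS⟩ := hfP.exists_le_sylow
  have hfS : (⟨W.fG, h.f⟩ : M) ∈ S := hS (Subgroup.mem_zpowers _)
  haveI : Nontrivial S := by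
    refine ⟨⟨⟨_, hfS⟩, 1, fun e => sG_ne_one (W := W) ?_⟩⟩
    have e' : W.fG = 1 := congrArg (fun u : S => ((u : M) : G3)) e
    rw [← W.fG_sq, e', one_mul]
  haveI := S.isPGroup'.center_nontrivial
  -- a central involution
  obtain ⟨z, hz⟩ := exists_prime_orderOf_dvd_card' (G := Subgroup.center S) 2 (by
    obtain ⟨n, hn⟩ := IsPGroup.iff_card.1 ((S.isPGroup').to_subgroup (Subgroup.center S))
    rw [hn]
    refine dvd_pow_self 2 fun e => ?_
    rw [e, pow_zero] at hn
    exact (Finite.one_lt_card (α := Subgroup.center S)).ne' hn)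
  set ζ : G3 := (((z : S) : M) : G3) with hζ
  have hzz : ζ * ζ = 1 := by
    have e := pow_orderOf_eq_one z
    rw [hz, pow_two] at e
    exact congrArg (fun u : Subgroup.center S => (((u : S) : M) : G3)) e
  have hz1 : ζ ≠ 1 := fun e => by
    have : z = 1 := Subtype.ext (Subtype.ext (Subtype.ext e))
    rw [this, orderOf_one] at hz
    norm_num at hz
  have hzf : W.fG * ζ = ζ * W.fG :=
    congrArg (fun u : S => ((u : M) : G3)) (Subgroup.mem_center_iff.1 z.2 ⟨_, hfS⟩)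
  have hzs : ζ * W.sG = W.sG * ζ := by
    rw [← W.fG_sq, ← mul_assoc, ← hzf, mul_assoc, ← hzf, ← mul_assoc]
  have hσ : ζ = W.sG := no_second_involution h h9 (y := ⟨W.fG, fG_mem_sigma h⟩)
    (ε := ⟨ζ, mem_sigma ((z : S) : M).2 hzs⟩) (fG_reg h) (by rw [W.fG_sq]; exact sG_ne_one) hzz hz1
    (Subtype.ext hzf)
  -- move `L` into `S`
  obtain ⟨T, hT⟩ := (hL2.of_equiv (Subgroup.subgroupOfEquivOfLe hL).symm).exists_le_sylow
  obtain ⟨g, hg⟩ := MulAction.exists_smul_eq M T S
  refine ⟨g, g.2, fun x hx => ?_⟩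
  have hmem : g * ⟨x, hL hx⟩ * g⁻¹ ∈ S := by
    rw [← hg]
    exact ⟨⟨x, hL hx⟩, hT hx, rfl⟩
  have := congrArg (fun u : S => ((u : M) : G3)) (Subgroup.mem_center_iff.1 z.2 ⟨_, hmem⟩)
  rw [← hσ]
  exact this

/-- An elementary abelian subgroup has order at most four. -/
theorem card_le_four (h : Hyp W M) (h9 : ∀ ζ : F, ζ ^ 3 ≠ W.ω) {L : Subgroup G3} (hL : L ≤ M)
    (hsq : ∀ x ∈ L, x * x = 1) : Nat.card L ≤ 4 ∧
    (4 ≤ Nat.card L → ∃ g ∈ M, ∃ x ∈ L, g * x * g⁻¹ = W.sG) := by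
  classical
  have hP : IsPGroup 2 L := fun x => ⟨1, Subtype.ext (by
    rw [SubgroupClass.coe_pow, pow_one, pow_two]; exact hsq _ x.2)⟩
  have hcomm : ∀ x ∈ L, ∀ y ∈ L, x * y = y * x := fun x hx y hy => by
    have e := inv_eq_of_mul_eq_one_left (hsq _ (mul_mem hx hy))
    rw [_root_.mul_inv_rev, inv_eq_of_mul_eq_one_left (hsq _ hx), inv_eq_of_mul_eq_one_left (hsq _ hy)] at e
    exact e.symm
  obtain ⟨g, hg, hgσ⟩ := exists_conj_comm_sigma h h9 hL hP
  have mem : ∀ x ∈ L, g * x * g⁻¹ ∈ blockSub M W.bG := fun x hx =>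
    mem_sigma (mul_mem (mul_mem hg (hL hx)) (inv_mem hg)) (hgσ x hx)
  have dich : ∀ x ∈ L, ∀ y ∈ L, g * x * g⁻¹ ∉ ({1, W.sG} : Set G3) →
      g * y * g⁻¹ ∈ ({1, W.sG, g * x * g⁻¹, g * x * g⁻¹ * W.sG} : Set G3) := by
    intro x hx y hy hxn
    simp only [Set.mem_insert_iff, Set.mem_singleton_iff, not_or] at hxn ⊢
    by_contra hyn
    simp only [not_or] at hyn
    have cm : ∀ a ∈ L, g * a * g⁻¹ * (g * a * g⁻¹) = 1 := fun a ha => by
      rw [show g * a * g⁻¹ * (g * a * g⁻¹) = g * (a * a) * g⁻¹ by group, hsq a ha]; group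
    set X : blockSub M W.bG := ⟨_, mem x hx⟩
    set Y : blockSub M W.bG := ⟨_, mem y hy⟩
    obtain ⟨xs, xt, xA, xC⟩ := involution_block h (ε := X) (cm x hx) hxn.1 hxn.2
    obtain ⟨ys, yt, yA, yC⟩ := involution_block h (ε := Y) (cm y hy) hyn.1 hyn.2.1
    obtain ⟨a, b, hab⟩ := eq_of_commute_two xs (X := (toA M W.bG Y : M2)) (by
      rw [← Units.val_mul, ← Units.val_mul, ← map_mul, ← map_mul]
      congr 2
      refine Subtype.ext ?_
      change g * y * g⁻¹ * (g * x * g⁻¹) = g * x * g⁻¹ * (g * y * g⁻¹)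
      rw [show g * y * g⁻¹ * (g * x * g⁻¹) = g * (y * x) * g⁻¹ by group, hcomm y hy x hx]; group)
    have ha : a = 0 := by
      have := congrArg Matrix.trace hab
      rw [yt, trace_add, trace_smul, trace_smul, xt, smul_zero, add_zero, trace_one, Fintype.card_fin,
        smul_eq_mul] at this
      simpa [W.two] using this.symm
    rw [ha, zero_smul, zero_add] at hab
    have hb : b * b = 1 := by
      have := yA
      rw [hab, smul_mul_smul_comm, xA] at this
      simpa using congrFun (congrFun this 0) 0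
    rcases mul_self_eq_one_iff.1 hb with rfl | rfl
    · refine hyn.2.2.1 (congrArg Subtype.val (ext_block (g := Y) (h := X) (Units.ext ?_) (yC.trans xC.symm)))
      rw [hab, one_smul]
    · refine hyn.2.2.2 ?_
      have hs : W.sG ∈ blockSub M W.bG := mem_sigma h.sigma rfl
      refine congrArg Subtype.val (ext_block (g := Y) (h := X * ⟨W.sG, hs⟩) (Units.ext ?_) ?_)
      · have e : blockAt W.bG W.sG = zMat := by
          rw [blockAt, W.sG_eq, show W.bG⁻¹ * (W.bG * z0 * W.bG⁻¹) * W.bG = z0 by group, z0_val]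
        rw [map_mul, Units.val_mul, hab, toA_val (g := ⟨W.sG, hs⟩), e,
          show topBlock (zMat : M3) = (-1 : F) • (1 : M2) by
            ext i j; fin_cases i <;> fin_cases j <;> simp [topBlock, zMat], mul_smul_comm, mul_one]
      · rw [map_mul, yC, xC]
        show (-1 : F) = -1 * blockAt W.bG W.sG 2 2
        rw [blockAt, W.sG_eq, show W.bG⁻¹ * (W.bG * z0 * W.bG⁻¹) * W.bG = z0 by group, z0_val]
        simp [zMat]
  have hinj : Function.Injective fun x : G3 => g * x * g⁻¹ := fun a b e => by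
    simpa using e
  set Im : Set G3 := (fun x => g * x * g⁻¹) '' (L : Set G3)
  have hcard : Im.ncard = Nat.card L := by
    rw [Set.ncard_image_of_injective _ hinj, ← Nat.card_coe_set_eq]; rfl
  by_cases hx : ∀ x ∈ L, g * x * g⁻¹ ∈ ({1, W.sG} : Set G3)
  · have hle : Im.ncard ≤ 2 := (Set.ncard_le_ncard (t := {1, W.sG})
      (by rintro _ ⟨x, hx', rfl⟩; exact hx x hx') (Set.toFinite _)).trans
      ((Set.ncard_insert_le _ _).trans (by simp))
    exact ⟨by omega, fun h4 => absurd h4 (by omega)⟩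
  push Not at hx
  obtain ⟨x, hx, hxn⟩ := hx
  have hsub : Im ⊆ {1, W.sG, g * x * g⁻¹, g * x * g⁻¹ * W.sG} := by
    rintro _ ⟨y, hy, rfl⟩; exact dich x hx y hy hxn
  have hle : Im.ncard ≤ 4 := by
    refine (Set.ncard_le_ncard hsub (Set.toFinite _)).trans ((Set.ncard_insert_le _ _).trans ?_)
    have := Set.ncard_insert_le W.sG ({g * x * g⁻¹, g * x * g⁻¹ * W.sG} : Set G3)
    have := Set.ncard_insert_le (g * x * g⁻¹) ({g * x * g⁻¹ * W.sG} : Set G3)
    rw [Set.ncard_singleton] at this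
    omega
  refine ⟨by omega, fun h4 => ⟨g, hg, ?_⟩⟩
  by_contra hne
  push Not at hne
  have hsub' : Im ⊆ {1, g * x * g⁻¹, g * x * g⁻¹ * W.sG} := by
    rintro t ht
    obtain ⟨y, hy, rfl⟩ := ht
    have := hsub ⟨y, hy, rfl⟩
    simp only [Set.mem_insert_iff, Set.mem_singleton_iff] at this ⊢
    rcases this with e | e | e | e
    exacts [.inl e, absurd e (hne y hy), .inr (.inl e), .inr (.inr e)]
  have h3 := Set.ncard_le_ncard hsub' (Set.toFinite _)
  have := Set.ncard_insert_le (1 : G3) ({g * x * g⁻¹, g * x * g⁻¹ * W.sG} : Set G3)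
  have := Set.ncard_insert_le (g * x * g⁻¹) ({g * x * g⁻¹ * W.sG} : Set G3)
  rw [Set.ncard_singleton] at this
  omega

/-- Two commuting involutions generate a group containing a conjugate of `σ`. -/
theorem four_sigma (h : Hyp W M) (h9 : ∀ ζ : F, ζ ^ 3 ≠ W.ω) {τ ε : G3} (hτ : τ ∈ M) (hε : ε ∈ M)
    (hττ : τ * τ = 1) (hεε : ε * ε = 1) (hτ1 : τ ≠ 1) (hε1 : ε ≠ 1) (hne : τ ≠ ε) (hc : τ * ε = ε * τ) :
    ∃ g ∈ M, g * τ * g⁻¹ = W.sG ∨ g * ε * g⁻¹ = W.sG ∨ g * (τ * ε) * g⁻¹ = W.sG := by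
  have hτε : τ * ε ≠ 1 := fun e => hne (by rw [← mul_one τ, ← hεε, ← mul_assoc, e, one_mul])
  let L : Subgroup G3 :=
    { carrier := {1, τ, ε, τ * ε}
      one_mem' := by simp
      mul_mem' := by
        rintro a b ha hb
        simp only [Set.mem_insert_iff, Set.mem_singleton_iff] at ha hb ⊢
        have e1 : τ * (τ * ε) = ε := by rw [← mul_assoc, hττ, one_mul]
        have e2 : ε * (τ * ε) = τ := by rw [← mul_assoc, ← hc, mul_assoc, hεε, mul_one]
        have e3 : τ * ε * τ = ε := by rw [hc, mul_assoc, hττ, mul_one]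
        have e4 : τ * ε * ε = τ := by rw [mul_assoc, hεε, mul_one]
        have e5 : τ * ε * (τ * ε) = 1 := by rw [← mul_assoc, e3, hεε]
        rcases ha with rfl | rfl | rfl | rfl <;> rcases hb with rfl | rfl | rfl | rfl <;>
          simp [hττ, hεε, e1, e2, e3, e4, e5, ← hc]
      inv_mem' := by
        rintro a ha
        simp only [Set.mem_insert_iff, Set.mem_singleton_iff] at ha ⊢
        have : (τ * ε)⁻¹ = τ * ε := inv_eq_of_mul_eq_one_left (by
          rw [show τ * ε * (τ * ε) = τ * (ε * τ) * ε by group, ← hc,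
            show τ * (τ * ε) * ε = τ * τ * (ε * ε) by group, hττ, hεε, one_mul])
        rcases ha with rfl | rfl | rfl | rfl
        · simp
        · simp [inv_eq_of_mul_eq_one_left hττ]
        · simp [inv_eq_of_mul_eq_one_left hεε]
        · simp [this] }
  have hL : L ≤ M := by
    rintro x (rfl | rfl | rfl | rfl)
    exacts [one_mem _, hτ, hε, mul_mem hτ hε]
  have hsq : ∀ x ∈ L, x * x = 1 := by
    rintro x (rfl | rfl | rfl | rfl)
    exacts [one_mul 1, hττ, hεε, by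
      rw [show τ * ε * (τ * ε) = τ * (ε * τ) * ε by group, ← hc,
        show τ * (τ * ε) * ε = τ * τ * (ε * ε) by group, hττ, hεε, one_mul]]
  have hcard : Nat.card L = 4 := by
    change Nat.card ({1, τ, ε, τ * ε} : Set G3) = 4
    rw [Nat.card_coe_set_eq, Set.ncard_insert_of_notMem, Set.ncard_insert_of_notMem,
      Set.ncard_insert_of_notMem, Set.ncard_singleton]
    · simp only [Set.mem_singleton_iff]
      exact fun e => hτ1 (mul_eq_right.1 e.symm)
    · simp only [Set.mem_insert_iff, Set.mem_singleton_iff, not_or]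
      exact ⟨hne, fun e => hε1 (mul_eq_left.1 e.symm)⟩
    · simp only [Set.mem_insert_iff, Set.mem_singleton_iff, not_or]
      exact ⟨hτ1.symm, hε1.symm, hτε.symm⟩
  obtain ⟨g, hg, x, hx, hgx⟩ := (card_le_four h h9 hL hsq).2 hcard.ge
  refine ⟨g, hg, ?_⟩
  rcases (show x ∈ ({1, τ, ε, τ * ε} : Set G3) from hx) with rfl | rfl | rfl | rfl
  · simp at hgx; exact absurd hgx.symm sG_ne_one
  exacts [.inl hgx, .inr (.inl hgx), .inr (.inr hgx)]

/-- At most one involution commutes with a regular non-involution. -/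
theorem involution_unique (h : Hyp W M) (h9 : ∀ ζ : F, ζ ^ 3 ≠ W.ω) {y τ ε : G3} (hy : y ∈ regSet M)
    (hyy : y * y ≠ 1) (hτ : τ ∈ M) (hε : ε ∈ M) (hττ : τ * τ = 1) (hεε : ε * ε = 1) (hτ1 : τ ≠ 1)
    (hε1 : ε ≠ 1) (hyτ : y * τ = τ * y) (hyε : y * ε = ε * y) : τ = ε := by
  by_contra hne
  have hc : τ * ε = ε * τ := comm_of_reg h h9 hy hyy hyτ.symm hyε.symm
  obtain ⟨g, hg, hor⟩ := four_sigma h h9 hτ hε hττ hεε hτ1 hε1 hne hc
  have hyτε : y * (τ * ε) = τ * ε * y := by rw [← mul_assoc, hyτ, mul_assoc, hyε, ← mul_assoc]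
  -- the conjugate of `y` centralises `σ`
  have cj : ∀ a b : G3, a * b = b * a → g * a * g⁻¹ * (g * b * g⁻¹) = g * b * g⁻¹ * (g * a * g⁻¹) := by
    intro a b e
    rw [show g * a * g⁻¹ * (g * b * g⁻¹) = g * (a * b) * g⁻¹ by group, e]; group
  have hyσ : g * y * g⁻¹ * W.sG = W.sG * (g * y * g⁻¹) := by
    rcases hor with e | e | e <;> rw [← e]
    exacts [cj _ _ hyτ, cj _ _ hyε, cj _ _ hyτε]
  have hyy' : g * y * g⁻¹ * (g * y * g⁻¹) ≠ 1 := fun e => hyy (by
    rw [show y * y = g⁻¹ * (g * y * g⁻¹ * (g * y * g⁻¹)) * g by group, e]; group)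
  have key : ∀ a ∈ M, a * a = 1 → a ≠ 1 → y * a = a * y → g * a * g⁻¹ * W.sG = W.sG * (g * a * g⁻¹) →
      g * a * g⁻¹ = W.sG := by
    intro a ha haa ha1 hya has
    exact no_second_involution h h9 (y := ⟨_, mem_sigma (mul_mem (mul_mem hg hy.1) (inv_mem hg)) hyσ⟩)
      (ε := ⟨_, mem_sigma (mul_mem (mul_mem hg ha) (inv_mem hg)) has⟩) (regSet.conj hg hy) hyy'
      (by rw [show g * a * g⁻¹ * (g * a * g⁻¹) = g * (a * a) * g⁻¹ by group, haa]; group)
      (fun e : g * a * g⁻¹ = 1 => ha1 (by rw [show a = g⁻¹ * (g * a * g⁻¹) * g by group, e]; group))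
      (Subtype.ext (cj _ _ hya))
  have hcσ : g * τ * g⁻¹ * W.sG = W.sG * (g * τ * g⁻¹) ∧ g * ε * g⁻¹ * W.sG = W.sG * (g * ε * g⁻¹) := by
    rcases hor with e | e | e <;> rw [← e]
    · exact ⟨rfl, cj _ _ hc.symm⟩
    · exact ⟨cj _ _ hc, rfl⟩
    · exact ⟨cj _ _ (by rw [mul_assoc, ← hc, ← mul_assoc]),
        cj _ _ (by rw [← mul_assoc, ← hc, mul_assoc])⟩
  have e1 := key τ hτ hττ hτ1 hyτ hcσ.1
  have e2 := key ε hε hεε hε1 hyε hcσ.2
  exact hne (by simpa using e1.trans e2.symm)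

/-- The elements attached to an involution. -/
def phiSet (M : Subgroup (GL (Fin 3) F)) (τ : GL (Fin 3) F) : Set (GL (Fin 3) F) :=
  {y | y ∈ regSet M ∧ (y = τ ∨ (y * y ≠ 1 ∧ y * τ = τ * y))}

/-- Conjugates of attached elements are distinct. -/
theorem card_conj_phiSet (h : Hyp W M) (h9 : ∀ ζ : F, ζ ^ 3 ≠ W.ω) {τ : G3} (hτ : τ ∈ M) (hττ : τ * τ = 1)
    (hτ1 : τ ≠ 1) : (conjSet M (phiSet M τ)).ncard * Nat.card (M ⊓ Subgroup.centralizer {τ} : Subgroup G3) =
      Nat.card M * (phiSet M τ).ncard := by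
  refine card_conjSet inf_le_left ?_ ?_
  · intro g hg s hs
    rw [Subgroup.mem_inf, Subgroup.mem_centralizer_singleton_iff] at hg
    refine ⟨regSet.conj hg.1 hs.1, ?_⟩
    rcases hs.2 with rfl | ⟨h1, h2⟩
    · left; rw [hg.2, mul_inv_cancel_right]
    · refine .inr ⟨fun e => h1 ?_, ?_⟩
      · rw [show s * s = g⁻¹ * (g * s * g⁻¹ * (g * s * g⁻¹)) * g by group, e]; group
      · have e : g⁻¹ * τ * g = τ := by rw [mul_assoc, ← hg.2, inv_mul_cancel_left]
        calc g * s * g⁻¹ * τ = g * (s * (g⁻¹ * τ * g)) * g⁻¹ := by group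
          _ = g * (τ * s) * g⁻¹ := by rw [e, h2]
          _ = g * τ * (s * g⁻¹) := by group
          _ = τ * g * (s * g⁻¹) := by rw [hg.2]
          _ = τ * (g * s * g⁻¹) := by group
  · intro g hg s hs hgs
    refine Subgroup.mem_inf.2 ⟨hg, Subgroup.mem_centralizer_singleton_iff.2 (mul_inv_eq_iff_eq_mul.1 ?_)⟩
    have hgτ : g * τ * g⁻¹ * (g * τ * g⁻¹) = 1 := by
      rw [show g * τ * g⁻¹ * (g * τ * g⁻¹) = g * (τ * τ) * g⁻¹ by group, hττ]; group
    rcases hs.2 with rfl | ⟨h1, h2⟩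
    · rcases hgs.2 with e | ⟨e, -⟩
      exacts [e, absurd hgτ e]
    · have h1' : g * s * g⁻¹ * (g * s * g⁻¹) ≠ 1 := fun e => h1 (by
        rw [show s * s = g⁻¹ * (g * s * g⁻¹ * (g * s * g⁻¹)) * g by group, e]; group)
      refine involution_unique h h9 hgs.1 h1' (mul_mem (mul_mem hg hτ) (inv_mem hg)) hτ hgτ hττ
        (fun e => hτ1 (by rw [show τ = g⁻¹ * (g * τ * g⁻¹) * g by group, e]; group)) hτ1 ?_ ?_
      · rw [show g * s * g⁻¹ * (g * τ * g⁻¹) = g * (s * τ) * g⁻¹ by group, h2]; group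
      · rcases hgs.2 with e | ⟨-, e⟩
        · exact absurd (by rw [e, hττ]) h1'
        · exact e

/-- In the centraliser of an involution the three-parts are scalar. -/
theorem card_cent_involution (h : Hyp W M) (h9 : ∀ ζ : F, ζ ^ 3 ≠ W.ω) {τ : G3} (hτ : τ ∈ M)
    (hττ : τ * τ = 1) (hτ1 : τ ≠ 1) :
    ((M ⊓ Subgroup.centralizer {τ} : Subgroup G3) : Set G3) =
      {g | ∃ k : Fin 3, ∃ x ∈ regSet (M ⊓ Subgroup.centralizer {τ}), g = W.zG ^ (k : ℕ) * x} ∧
    Nat.card (M ⊓ Subgroup.centralizer {τ} : Subgroup G3) =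
      3 * (regSet (M ⊓ Subgroup.centralizer {τ})).ncard := by
  set L := M ⊓ Subgroup.centralizer {τ}
  have hz : W.zG ∈ L := Subgroup.mem_inf.2 ⟨h.heis_le W.z_mem,
    Subgroup.mem_centralizer_singleton_iff.2 (W.zG_comm τ)⟩
  have heq : (L : Set G3) = {g | ∃ k : Fin 3, ∃ x ∈ regSet L, g = W.zG ^ (k : ℕ) * x} := by
    refine Set.Subset.antisymm (fun g hg => ?_) ?_
    · obtain ⟨a, b, j, haj, hgb, he⟩ := exists_decomp (L := L) hg
      refine mem_scalar_mul_reg h hg haj hgb he inf_le_left ?_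
      by_contra hs
      have hga := pow_mem hg a
      rw [Subgroup.mem_inf, Subgroup.mem_centralizer_singleton_iff] at hga
      exact three_no_inv h h9 hga.1 haj hs hτ hττ hτ1 hga.2
    · rintro _ ⟨k, x, hx, rfl⟩; exact mul_mem (pow_mem hz _) hx.1
  refine ⟨heq, ?_⟩
  rw [← card_scalar_mul_reg L inf_le_left h, ← heq]
  exact (Nat.card_coe_set_eq _).symm.trans rfl |>.symm.trans (Nat.card_coe_set_eq _)

/-- At least a quarter of the centraliser of an involution is attached to it. -/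
theorem regSet_le_four_phiSet (h : Hyp W M) (h9 : ∀ ζ : F, ζ ^ 3 ≠ W.ω) {τ : G3} (hτ : τ ∈ M)
    (hττ : τ * τ = 1) (hτ1 : τ ≠ 1) :
    (regSet (M ⊓ Subgroup.centralizer {τ})).ncard ≤ 4 * (phiSet M τ).ncard := by
  classical
  obtain ⟨hL, hcard⟩ := card_cent_involution h h9 hτ hττ hτ1
  set L := M ⊓ Subgroup.centralizer {τ} with hLdef
  have hmemL : ∀ {x}, x ∈ L → x ∈ M ∧ x * τ = τ * x := fun {x} hx => by
    rw [hLdef, Subgroup.mem_inf, Subgroup.mem_centralizer_singleton_iff] at hx; exact hx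
  have hzc : ∀ (k : ℕ) (g : G3), Commute (W.zG ^ k) g := fun k g => Commute.pow_left (W.zG_comm g) k
  set Z : Subgroup L := (Subgroup.zpowers W.zG).subgroupOf L
  have hZ : Z ≤ Subgroup.center L := fun x hx => Subgroup.mem_center_iff.2 fun g => Subtype.ext (by
    obtain ⟨i, hi⟩ := Subgroup.mem_zpowers_iff.1 (Subgroup.mem_subgroupOf.1 hx)
    rw [Subgroup.coe_mul, Subgroup.coe_mul, ← hi]
    exact ((Commute.zpow_left (W.zG_comm (g : G3)) i).eq).symm)
  have hz3 : ∀ x ∈ Subgroup.zpowers W.zG, x ^ 3 = 1 := by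
    intro x hx
    obtain ⟨i, rfl⟩ := Subgroup.mem_zpowers_iff.1 hx
    rw [← zpow_natCast, ← _root_.zpow_mul, mul_comm, _root_.zpow_mul, zpow_natCast, W.z_pow_three,
      _root_.one_zpow]
  set R := regSet L with hR
  set I := {x ∈ R | x * x = 1} with hI
  have hRM : R ⊆ regSet M := fun x hx => ⟨(hmemL hx.1).1, hx.2⟩
  have hreg_sq : ∀ {x}, x ∈ R → x * x ∈ Subgroup.zpowers W.zG → x * x = 1 := fun {x} hx e =>
    regSet.eq_one (j := 1) (regSet.mul (hRM hx) (hRM hx) rfl) (by rw [pow_one]; exact hz3 _ e)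
  have hsub : (R \ I) ∪ {τ} ⊆ phiSet M τ := by
    rintro x (⟨hx, hxI⟩ | rfl)
    · exact ⟨hRM hx, .inr ⟨fun e => hxI ⟨hx, e⟩, (hmemL hx.1).2⟩⟩
    · exact ⟨regSet.of_mul_self hτ hττ, .inl rfl⟩
  have hτR : τ ∈ R := regSet.of_mul_self (Subgroup.mem_inf.2 ⟨hτ, Subgroup.mem_centralizer_singleton_iff.2 rfl⟩) hττ
  have hΦ : R.ncard ≤ (phiSet M τ).ncard + I.ncard := by
    have h1 := Set.ncard_le_ncard (Set.subset_union_left.trans hsub : R \ I ⊆ phiSet M τ) (Set.toFinite _)
    have h2 := Set.ncard_diff_add_ncard_of_subset (show I ⊆ R from Set.sep_subset R _) (Set.toFinite _)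
    omega
  have hΦ1 : 1 ≤ (phiSet M τ).ncard := by
    rw [Nat.one_le_iff_ne_zero]
    exact (Set.ncard_pos (Set.toFinite _)).2 ⟨τ, hsub (.inr rfl)⟩ |>.ne'
  by_cases hall : ∀ x : L, x * x ∈ Z
  · -- elementary abelian
    let E : Subgroup G3 :=
      { carrier := R
        one_mem' := regSet.one L
        mul_mem' := fun {a b} ha hb => by
          refine regSet.mul ha hb ?_
          have ea := hreg_sq ha (Subgroup.mem_subgroupOf.1 (hall ⟨a, ha.1⟩))
          have eb := hreg_sq hb (Subgroup.mem_subgroupOf.1 (hall ⟨b, hb.1⟩))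
          have hab := Subgroup.mem_subgroupOf.1 (hall (⟨a, ha.1⟩ * ⟨b, hb.1⟩))
          simp only [Subgroup.coe_mul] at hab
          obtain ⟨i, hi⟩ := Subgroup.mem_zpowers_iff.1 hab
          set c := W.zG ^ i with hc
          have hcc : ∀ g, Commute c g := fun g => Commute.zpow_left (W.zG_comm g) i
          have e1 : a * b * a = c * b := by
            calc a * b * a = a * b * (a * b) * b := by rw [mul_assoc (a * b) (a * b), mul_assoc a b b, eb, mul_one]
              _ = c * b := by rw [← hi]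
          have e2 : c * c = 1 := by
            have : a * b * a * (a * b * a) = c * c := by
              rw [e1, show c * b * (c * b) = c * (b * c) * b by group, ← (hcc b).eq,
                show c * (c * b) * b = c * c * (b * b) by group, eb, mul_one]
            rw [← this, show a * b * a * (a * b * a) = a * b * (a * a) * b * a by group, ea, mul_one,
              mul_assoc a, eb, mul_one, ea]
          have e3 : c = 1 := by
            have h3 := hz3 _ ⟨i, rfl⟩
            rw [pow_three] at h3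
            dsimp only at h3
            rw [← hc, e2, mul_one] at h3
            exact h3
          rw [e3, one_mul] at e1
          calc a * b = a * b * a * a := by rw [mul_assoc (a * b), ea, mul_one]
            _ = b * a := by rw [e1]
        inv_mem' := fun {a} ha => ⟨inv_mem ha.1, by rw [orderOf_inv]; exact ha.2⟩ }
    have h4 := (card_le_four h h9 (L := E) (fun x hx => (hRM hx).1)
      (fun x hx => hreg_sq hx (Subgroup.mem_subgroupOf.1 (hall ⟨x, hx.1⟩)))).1
    have : Nat.card E = R.ncard := Nat.card_coe_set_eq R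
    omega
  · push Not at hall
    have h34 := four_mul_card_sq_mem_le hZ hall
    have hIc : {x : L | x * x ∈ Z}.ncard = 3 * I.ncard := by
      rw [← card_scalar_mul I (fun x hx => hRM hx.1) h]
      refine Set.ncard_congr (fun x _ => (x : G3)) ?_ (fun a b _ _ e => Subtype.ext e) ?_
      · intro x hx
        have : (x : G3) ∈ (L : Set G3) := x.2
        rw [hL] at this
        obtain ⟨k, r, hr, e⟩ := this
        refine ⟨k, r, ⟨hr, hreg_sq hr ?_⟩, e⟩
        have hxZ : x * x ∈ Z := hx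
        have hx' : (x : G3) * x ∈ Subgroup.zpowers W.zG := Subgroup.mem_subgroupOf.1 hxZ
        rw [e, (hzc k r).symm.mul_mul_mul_comm] at hx'
        exact (Subgroup.mul_mem_cancel_left _ (mul_mem (pow_mem (Subgroup.mem_zpowers _) _)
          (pow_mem (Subgroup.mem_zpowers _) _))).1 hx'
      · rintro g ⟨k, r, ⟨hr, hrr⟩, rfl⟩
        have hgL : W.zG ^ (k : ℕ) * r ∈ (L : Set G3) := by rw [hL]; exact ⟨k, r, hr, rfl⟩
        refine ⟨⟨_, hgL⟩, show (⟨_, hgL⟩ : L) * ⟨_, hgL⟩ ∈ Z from Subgroup.mem_subgroupOf.2 ?_, rfl⟩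
        show W.zG ^ (k : ℕ) * r * (W.zG ^ (k : ℕ) * r) ∈ _
        rw [(hzc k r).symm.mul_mul_mul_comm, hrr, mul_one]
        exact mul_mem (pow_mem (Subgroup.mem_zpowers _) _) (pow_mem (Subgroup.mem_zpowers _) _)
    rw [hcard, hIc] at h34
    omega

end CfsgLib.Classical.GeoThree.C6
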