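import Cfsg.Agent.Lib.Classical.GeoThree.C6.SigmaCount

/-!
# Regular elements without a commuting involution
-/

set_option autoImplicit false
set_option linter.unusedSectionVars false
set_option linter.style.haveILetI false
set_option backward.isDefEq.respectTransparency false

open Matrix Polynomial

namespace CfsgLib.Classical.GeoThree.C6

variable {F : Type*} [Field F] [Finite F] [Fact ((2 : F) ≠ 0)]
  {M : Subgroup (GL (Fin 3) F)} {W : Omega F}

local notation "M3" => Matrix (Fin 3) (Fin 3) F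
local notation "G3" => GL (Fin 3) F

/-- A regular non-trivial element commuting with no involution of `M`. -/
structure Isolated (M : Subgroup (GL (Fin 3) F)) (y : GL (Fin 3) F) : Prop where
  reg : y ∈ regSet M
  ne : y * y ≠ 1
  noInv : ∀ τ ∈ M, τ * τ = 1 → y * τ = τ * y → τ = 1

/-- The centraliser in `M`. -/
def cen (M : Subgroup (GL (Fin 3) F)) (y : GL (Fin 3) F) : Subgroup (GL (Fin 3) F) :=
  M ⊓ Subgroup.centralizer {y}

/-- The normaliser in `M` of the centraliser. -/
def norCen (M : Subgroup (GL (Fin 3) F)) (y : GL (Fin 3) F) : Subgroup (GL (Fin 3) F) :=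
  M ⊓ Subgroup.normalizer (cen M y : Set (GL (Fin 3) F))

theorem mem_cen {y g : G3} : g ∈ cen M y ↔ g ∈ M ∧ g * y = y * g := by
  rw [cen, Subgroup.mem_inf, Subgroup.mem_centralizer_singleton_iff]

theorem cen_le_norCen (y : G3) : cen M y ≤ norCen M y :=
  le_inf inf_le_left Subgroup.le_normalizer

variable (h : Hyp W M) (h9 : ∀ ζ : F, ζ ^ 3 ≠ W.ω) {y : GL (Fin 3) F} (hy : Isolated M y)
include h h9 hy

theorem Isolated.comm {a b : G3} (ha : a ∈ cen M y) (hb : b ∈ cen M y) : a * b = b * a :=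
  comm_of_reg h h9 hy.reg hy.ne (mem_cen.1 ha).2 (mem_cen.1 hb).2

theorem Isolated.mem_regSet {a : G3} (ha : a ∈ regSet (cen M y)) : a ∈ regSet M :=
  ⟨(mem_cen.1 ha.1).1, ha.2⟩

theorem Isolated.sq_ne {a : G3} (ha : a ∈ regSet (cen M y)) (ha1 : a ≠ 1) : a * a ≠ 1 := fun e =>
  ha1 (hy.noInv a (mem_cen.1 ha.1).1 e (mem_cen.1 ha.1).2.symm)

/-- Centralisers are maximal abelian. -/
theorem Isolated.cent_le {a g : G3} (ha : a ∈ regSet (cen M y)) (ha1 : a ≠ 1) (hg : g ∈ M)
    (hc : g * a = a * g) : g ∈ cen M y :=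
  mem_cen.2 ⟨hg, comm_of_reg h h9 (hy.mem_regSet h h9 ha) (hy.sq_ne h h9 ha ha1) hc (mem_cen.1 ha.1).2.symm⟩

theorem Isolated.of_mem {a : G3} (ha : a ∈ regSet (cen M y)) (ha1 : a ≠ 1) : Isolated M a :=
  ⟨hy.mem_regSet h h9 ha, hy.sq_ne h h9 ha ha1, fun τ hτ hττ hc => by
    have hτA := hy.cent_le h h9 ha ha1 hτ hc.symm
    exact hy.noInv τ hτ hττ (mem_cen.1 hτA).2.symm⟩

theorem Isolated.mem_self : y ∈ regSet (cen M y) :=
  ⟨mem_cen.2 ⟨hy.reg.1, rfl⟩, hy.reg.2⟩

theorem Isolated.card_cen :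
    Nat.card (cen M y) = 3 * (regSet (cen M y)).ncard := by
  have hz : W.zG ∈ cen M y := mem_cen.2 ⟨h.heis_le W.z_mem, W.zG_comm y⟩
  have heq : (cen M y : Set G3) = {g | ∃ k : Fin 3, ∃ x ∈ regSet (cen M y), g = W.zG ^ (k : ℕ) * x} := by
    refine Set.Subset.antisymm (fun g hg => ?_) ?_
    · obtain ⟨a, b, j, haj, hgb, he⟩ := exists_decomp (L := cen M y) hg
      refine mem_scalar_mul_reg h hg haj hgb he inf_le_left ?_
      by_contra hs
      have hga := mem_cen.1 (pow_mem hg a)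
      have := pow_three_of_comm h h9 hga.1 haj hs hy.reg.1 hga.2.symm
      exact hy.ne (by rw [regSet.eq_one (j := 1) hy.reg (by rwa [pow_one]), one_mul])
    · rintro _ ⟨k, x, hx, rfl⟩; exact mul_mem (pow_mem hz _) hx.1
  rw [← card_scalar_mul_reg (cen M y) inf_le_left h, ← heq]
  exact Nat.card_coe_set_eq _

/-- The non-trivial regular elements of a centraliser meet their conjugates trivially. -/
theorem Isolated.card_conj :
    (conjSet M (regSet (cen M y) \ {1})).ncard * Nat.card (norCen M y) =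
      Nat.card M * ((regSet (cen M y)).ncard - 1) := by
  rw [← Set.ncard_sdiff_singleton_of_mem (regSet.one (cen M y))]
  refine card_conjSet inf_le_left ?_ ?_
  · intro g hg s hs
    obtain ⟨hgM, hgN⟩ := Subgroup.mem_inf.1 hg
    refine ⟨⟨(Subgroup.mem_normalizer_iff.1 hgN s).1 hs.1.1, ?_⟩, fun e => hs.2 ?_⟩
    · rw [show g * s * g⁻¹ = MulAut.conj g s from rfl, MulEquiv.orderOf_eq]; exact hs.1.2
    · rw [Set.mem_singleton_iff, mul_inv_eq_one, mul_eq_left] at e
      exact e
  · intro g hg s hs hgs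
    refine Subgroup.mem_inf.2 ⟨hg, ?_⟩
    have hle : (cen M y).map (MulAut.conj g).toMonoidHom ≤ cen M y := by
      rintro _ ⟨x, hx, rfl⟩
      refine hy.cent_le h h9 hgs.1 hgs.2 (mul_mem (mul_mem hg (mem_cen.1 hx).1) (inv_mem hg)) ?_
      show g * x * g⁻¹ * (g * s * g⁻¹) = g * s * g⁻¹ * (g * x * g⁻¹)
      rw [show g * x * g⁻¹ * (g * s * g⁻¹) = g * (x * s) * g⁻¹ by group, hy.comm h h9 hx hs.1.1]; group
    have heq : (cen M y).map (MulAut.conj g).toMonoidHom = cen M y :=
      Subgroup.eq_of_le_of_card_ge hle (Subgroup.card_map_of_injective (MulAut.conj g).injective).ge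
    refine Subgroup.mem_normalizer_iff.2 fun x => ⟨fun hx => heq ▸ ⟨x, hx, rfl⟩, fun hx => ?_⟩
    rw [← heq] at hx
    obtain ⟨z, hz, hzx⟩ := hx
    obtain rfl : z = x := (MulAut.conj g).injective hzx
    exact hz

theorem Isolated.five_le : 5 ≤ (regSet (cen M y)).ncard := by
  have hord : 5 ≤ orderOf y := by
    by_contra hlt
    have hp := pow_orderOf_eq_one y
    have h0 := orderOf_pos y
    have hn1 : orderOf y ≠ 1 := fun e => hy.ne (by rw [orderOf_eq_one_iff.1 e, one_mul])
    have hn2 : orderOf y ≠ 2 := fun e => hy.ne (by rw [← pow_two, ← e]; exact hp)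
    have hn3 : orderOf y ≠ 3 := fun e => hy.reg.2 e.symm.dvd
    have h4 : orderOf y = 4 := by omega
    rw [h4, show 4 = 2 * 2 from rfl, pow_mul, pow_two (y ^ 2)] at hp
    exact hy.ne (by rw [← pow_two]; exact hy.noInv _ (pow_mem hy.reg.1 2) hp ((Commute.refl y).pow_right 2).eq)
  have hsub : (Subgroup.zpowers y : Set G3) ⊆ regSet (cen M y) := by
    intro x hx
    refine ⟨Subgroup.zpowers_le.2 (hy.mem_self h h9).1 hx, fun h3 => hy.reg.2 (h3.trans ?_)⟩
    exact orderOf_dvd_of_mem_zpowers hx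
  have := Set.ncard_le_ncard hsub (Set.toFinite _)
  rw [show (Subgroup.zpowers y : Set G3).ncard = orderOf y from by
    rw [← Nat.card_coe_set_eq]; exact Nat.card_zpowers y] at this
  omega

omit hy in
/-- Semisimple and unipotent parts do not mix. -/
theorem Isolated.pure (hy : Isolated M y) (p : ℕ) [hp : Fact p.Prime] [CharP F p] :
    ¬ p ∣ orderOf y ∨ ∃ j, y ^ p ^ j = 1 := by
  by_contra hcon
  push Not at hcon
  obtain ⟨hpd, hnp⟩ := hcon
  obtain ⟨j, m, hm, hord⟩ := Nat.exists_eq_pow_mul_and_not_dvd (orderOf_pos y).ne' p hp.out.ne_one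
  set u := y ^ m
  set s := y ^ p ^ j
  have hu1 : u ≠ 1 := fun e => by
    have := orderOf_dvd_of_pow_eq_one e
    exact hm (hpd.trans this)
  have hsA : s ∈ regSet (cen M y) :=
    ⟨pow_mem (hy.mem_self h h9).1 _, fun e => hy.reg.2 (e.trans (orderOf_pow_dvd _))⟩
  have hs1 : s ≠ 1 := hnp j
  obtain ⟨v, hv⟩ := cyclic_of_reg h h9 (hy.mem_regSet h h9 hsA) (hy.sq_ne h h9 hsA hs1)
  obtain ⟨a, b, c, habc⟩ := eq_poly_of_commute hv (x := (u : M3)) (congrArg Units.val (Commute.pow_pow (Commute.refl y) m (p ^ j)).eq)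
  haveI := Fintype.ofFinite F
  -- the nilpotent part as a polynomial in the semisimple part
  set P : F[X] := C (a - 1) + C b * X + C c * X ^ 2
  have hP : aeval (s : M3) P = (u : M3) - 1 := by
    simp only [P, map_add, map_mul, map_pow, aeval_C, aeval_X, habc, Algebra.algebraMap_eq_smul_one,
      smul_mul_assoc, one_mul, sub_smul, one_smul, pow_two]
    abel
  set q := Fintype.card F
  have hiter : ∀ i : ℕ, (aeval (s : M3) P) ^ q ^ i = aeval ((s : M3) ^ q ^ i) P := by
    intro i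
    induction i with
    | zero => simp
    | succ i ih =>
      rw [pow_succ, pow_mul, ih, ← map_pow, ← FiniteField.expand_card, expand_aeval, ← pow_mul]
  set n := orderOf s with hn
  have hns : n ∣ m := orderOf_dvd_of_pow_eq_one (by
    rw [← pow_mul, mul_comm, mul_comm m, ← hord, pow_orderOf_eq_one])
  have hqn : q.Coprime n := by
    obtain ⟨f, -, hf⟩ := FiniteField.card F p
    rw [show q = p ^ (f : ℕ) from hf]
    exact Nat.Coprime.pow_left _ ((Nat.Prime.coprime_iff_not_dvd hp.out).2 fun e => hm (e.trans hns))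
  set t := n.totient
  have hs_t : (s : M3) ^ q ^ t = (s : M3) := by
    have h1 : s ^ q ^ t = s ^ 1 := pow_eq_pow_iff_modEq.2 (Nat.ModEq.pow_totient hqn)
    rw [← Units.val_pow_eq_pow_val, h1, pow_one]
  have hN : ((u : M3) - 1) ^ q ^ t = (u : M3) - 1 := by rw [← hP, hiter, hs_t]
  have hnil : ((u : M3) - 1) ^ p ^ j = 0 := by
    haveI : CharP M3 p := charP_of_injective_algebraMap (algebraMap F M3).injective p
    rw [sub_pow_char_pow_of_commute _ _ (Commute.one_right _), one_pow, sub_eq_zero, ← Units.val_pow_eq_pow_val,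
      ← pow_mul, mul_comm, ← hord, pow_orderOf_eq_one, Units.val_one]
  have hrep : ∀ i : ℕ, ((u : M3) - 1) ^ (q ^ t) ^ i = (u : M3) - 1 := by
    intro i
    induction i with
    | zero => simp
    | succ i ih => rw [pow_succ, pow_mul, ih, hN]
  have hbig : p ^ j ≤ (q ^ t) ^ (p ^ j) := by
    refine (Nat.lt_pow_self ?_).le
    refine Nat.one_lt_pow ?_ Fintype.one_lt_card
    exact (Nat.totient_pos.2 (orderOf_pos s)).ne'
  refine hu1 (Units.ext (sub_eq_zero.1 ?_))
  rw [Units.val_one, ← hrep (p ^ j)]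
  exact pow_eq_zero_of_le hbig hnil

end CfsgLib.Classical.GeoThree.C6
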