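import Cfsg.Agent.Lib.Classical.ParabolicGL

/-!
# Matrices of degree three: homologies, cyclic vectors, transvection-free groups
-/

set_option autoImplicit false
set_option linter.unusedSectionVars false
set_option backward.isDefEq.respectTransparency false

open Matrix Module

namespace CfsgLib.Classical.GeoThree.C6

variable {F : Type*} [Field F]

local notation "M3" => Matrix (Fin 3) (Fin 3) F
local notation "G3" => GL (Fin 3) F

/-- A subgroup without transvections. -/
def NoTransv (M : Subgroup (GL (Fin 3) F)) : Prop :=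
  ∀ (v f : Fin 3 → F) (h : f ⬝ᵥ v = 0), trGL v f h ∈ M → v = 0 ∨ f = 0

/-- A scalar multiple of a homology. -/
def IsHom (y : Matrix (Fin 3) (Fin 3) F) : Prop :=
  ∃ (α : F) (u φ : Fin 3 → F), α ≠ 0 ∧ φ ⬝ᵥ u ≠ 0 ∧ y = α • (1 + vecMulVec u φ)

/-- A scalar matrix. -/
def IsScal (y : Matrix (Fin 3) (Fin 3) F) : Prop := ∃ c : F, y = c • 1

theorem exists_vecMulVec {N : M3} (h : N.rank ≤ 1) : ∃ u φ : Fin 3 → F, N = vecMulVec u φ := by
  by_cases h0 : N = 0
  · exact ⟨0, 0, by rw [h0, vecMulVec_zero]⟩
  obtain ⟨i, j, hij⟩ : ∃ i j, N i j ≠ 0 := by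
    by_contra hall
    push Not at hall
    exact h0 (Matrix.ext fun i j => by simpa using hall i j)
  set u : Fin 3 → F := N *ᵥ Pi.single j 1 with hu
  have hu0 : u ≠ 0 := fun e => hij (by
    have := congrFun (hu.symm.trans e) i
    simpa using this)
  have hle : Submodule.span F {u} ≤ LinearMap.range N.mulVecLin := by
    rw [Submodule.span_le, Set.singleton_subset_iff]
    exact ⟨_, rfl⟩
  have heq : Submodule.span F {u} = LinearMap.range N.mulVecLin :=
    Submodule.eq_of_le_of_finrank_le hle (by rw [finrank_span_singleton hu0]; exact h)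
  have hcol : ∀ k, ∃ c : F, c • u = N *ᵥ Pi.single k 1 := fun k =>
    Submodule.mem_span_singleton.1 (heq.symm ▸ ⟨_, rfl⟩)
  choose φ hφ using hcol
  refine ⟨u, φ, Matrix.ext fun a b => ?_⟩
  have := congrFun (hφ b) a
  simp only [Pi.smul_apply, smul_eq_mul, mulVec_single_one, col_apply] at this
  rw [vecMulVec_apply, ← this, mul_comm]

/-- A cyclic vector exists unless a translate has rank at most one. -/
theorem exists_cyclic {y : M3} (h : ∀ α : F, 2 ≤ (y - α • 1).rank) :
    ∃ v, ∀ a b c : F, a • v + b • (y *ᵥ v) + c • (y *ᵥ (y *ᵥ v)) = 0 → a = 0 ∧ b = 0 ∧ c = 0 := by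
  by_cases he : ∃ α : F, ∃ k, k ≠ 0 ∧ (y - α • 1) *ᵥ k = 0
  · obtain ⟨α, k, hk0, hk⟩ := he
    set N : M3 := y - α • 1 with hN
    suffices hs : ∃ v, ∀ a b c : F, a • v + b • (N *ᵥ v) + c • (N *ᵥ (N *ᵥ v)) = 0 → a = 0 ∧ b = 0 ∧ c = 0 by
      obtain ⟨v, hv⟩ := hs
      refine ⟨v, fun a b c habc => ?_⟩
      have hy : ∀ x, y *ᵥ x = N *ᵥ x + α • x := fun x => by
        rw [hN, sub_mulVec, smul_mulVec, one_mulVec, sub_add_cancel]
      obtain ⟨h1, h2, h3⟩ := hv (a + b * α + c * α * α) (b + 2 * c * α) c (by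
        rw [← habc, hy (y *ᵥ v), hy v, mulVec_add, mulVec_smul]
        module)
      subst h3
      obtain rfl : b = 0 := by simpa using h2
      exact ⟨by simpa using h1, rfl, rfl⟩
    set I := LinearMap.range N.mulVecLin with hI
    have hI2 : 2 ≤ finrank F I := h α
    have hrn := LinearMap.finrank_range_add_finrank_ker N.mulVecLin
    rw [finrank_pi, Fintype.card_fin, ← hI] at hrn
    have hkmem : k ∈ LinearMap.ker N.mulVecLin := hk
    have hK : Submodule.span F {k} = LinearMap.ker N.mulVecLin :=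
      Submodule.eq_of_le_of_finrank_le ((Submodule.span_singleton_le_iff_mem ..).2 hkmem)
        (by rw [finrank_span_singleton hk0]; change finrank F (LinearMap.ker N.mulVecLin) ≤ 1; omega)
    have hker : ∀ x, N *ᵥ x = 0 → x ∈ Submodule.span F {k} := fun x hx => hK.symm ▸ hx
    have hmemI : ∀ x, N *ᵥ x ∈ I := fun x => ⟨x, rfl⟩
    by_cases hkI : k ∈ I
    · have hN2 : ∃ x, N *ᵥ (N *ᵥ x) ≠ 0 := by
        by_contra hall
        push Not at hall
        have : I ≤ LinearMap.ker N.mulVecLin := by
          rintro _ ⟨x, rfl⟩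
          exact hall x
        have := Submodule.finrank_mono this
        omega
      have hItop : I ≠ ⊤ := fun e => by
        have h1 : finrank F I = 3 := by rw [e, finrank_top, finrank_pi, Fintype.card_fin]
        have h2 : finrank F (LinearMap.ker N.mulVecLin) = 1 := by rw [← hK, finrank_span_singleton hk0]
        change finrank F I + finrank F (LinearMap.ker N.mulVecLin) = 3 at hrn
        omega
      obtain ⟨v, hvI, hv2⟩ : ∃ v, v ∉ I ∧ N *ᵥ (N *ᵥ v) ≠ 0 := by
        obtain ⟨x, hx⟩ := hN2
        obtain ⟨x', hx'⟩ : ∃ x', x' ∉ I := by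
          by_contra hall
          push Not at hall
          exact hItop (eq_top_iff.2 fun z _ => hall z)
        by_cases hxI : x ∈ I
        · by_cases hx2 : N *ᵥ (N *ᵥ x') = 0
          · refine ⟨x + x', fun e => hx' ?_, ?_⟩
            · simpa using I.sub_mem e hxI
            · rw [mulVec_add, mulVec_add, hx2, add_zero]; exact hx
          · exact ⟨x', hx', hx2⟩
        · exact ⟨x, hxI, hx⟩
      refine ⟨v, fun a b c habc => ?_⟩
      have ha : a = 0 := by
        by_contra ha
        refine hvI ?_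
        have : v = N *ᵥ ((-a⁻¹) • (b • v + c • (N *ᵥ v))) := by
          rw [mulVec_smul, mulVec_add, mulVec_smul, mulVec_smul]
          linear_combination (norm := skip) a⁻¹ • habc
          match_scalars <;> field_simp <;> ring
        rw [this]; exact hmemI _
      subst ha
      rw [zero_smul, zero_add] at habc
      have hker' : b • v + c • (N *ᵥ v) ∈ Submodule.span F {k} :=
        hker _ (by rw [mulVec_add, mulVec_smul, mulVec_smul, habc])
      have hb : b = 0 := by
        by_contra hb
        refine hvI ?_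
        obtain ⟨t, ht⟩ := Submodule.mem_span_singleton.1 hker'
        have : v = b⁻¹ • (t • k - c • (N *ᵥ v)) := by
          rw [ht, add_sub_cancel_right, inv_smul_smul₀ hb]
        rw [this]
        exact I.smul_mem _ (I.sub_mem (I.smul_mem _ hkI) (I.smul_mem _ (hmemI _)))
      subst hb
      rw [zero_smul, zero_add, smul_eq_zero] at habc
      exact ⟨rfl, rfl, habc.resolve_right hv2⟩
    · have hinter : ∀ x ∈ I, N *ᵥ x = 0 → x = 0 := fun x hx hx0 => by
        obtain ⟨t, rfl⟩ := Submodule.mem_span_singleton.1 (hker _ hx0)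
        by_contra hne
        have ht : t ≠ 0 := fun e => hne (by rw [e, zero_smul])
        exact hkI (by simpa [inv_smul_smul₀ ht] using I.smul_mem t⁻¹ hx)
      obtain ⟨w, hwI, hw⟩ : ∃ w ∈ I, ∀ t : F, N *ᵥ w ≠ t • w := by
        by_contra hall
        push Not at hall
        -- `N` is a scalar on `I`
        obtain ⟨μ, hμ⟩ : ∃ μ : F, ∀ x ∈ I, N *ᵥ x = μ • x := by
          obtain ⟨x0, hx0, hne⟩ : ∃ x0 ∈ I, x0 ≠ 0 := by
            by_contra h'
            push Not at h'
            have : I = ⊥ := (Submodule.eq_bot_iff _).2 h'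
            rw [this, finrank_bot] at hI2
            omega
          obtain ⟨μ, hμ⟩ := hall x0 hx0
          refine ⟨μ, fun x hx => ?_⟩
          obtain ⟨t, ht⟩ := hall x hx
          obtain ⟨s, hs⟩ := hall (x + x0) (I.add_mem hx hx0)
          rw [mulVec_add, ht, hμ, smul_add] at hs
          by_cases hind : ∃ r : F, r • x0 = x
          · obtain ⟨r, rfl⟩ := hind
            rw [mulVec_smul, hμ, smul_comm]
          push Not at hind
          have h1 : (t - s) • x = (s - μ) • x0 := by
            rw [sub_smul, sub_smul]; linear_combination (norm := module) hs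
          have hts : t = s := by
            by_contra hne'
            refine hind ((t - s)⁻¹ * (s - μ)) ?_
            rw [mul_smul, ← h1, inv_smul_smul₀ (sub_ne_zero.2 hne')]
          rw [hts, sub_self, zero_smul] at h1
          rw [ht, hts, sub_eq_zero.1 ((smul_eq_zero.1 h1.symm).resolve_right hne)]
        have hsub : I ≤ LinearMap.ker (y - (α + μ) • (1 : M3)).mulVecLin := fun x hx => by
          change (y - (α + μ) • (1 : M3)) *ᵥ x = 0
          have h' := hμ x hx
          rw [hN, sub_mulVec, smul_mulVec, one_mulVec] at h'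
          rw [sub_mulVec, smul_mulVec, one_mulVec, add_smul]
          linear_combination (norm := module) h'
        have h1 := Submodule.finrank_mono hsub
        have h2 := LinearMap.finrank_range_add_finrank_ker (y - (α + μ) • (1 : M3)).mulVecLin
        rw [finrank_pi, Fintype.card_fin] at h2
        have h3 := h (α + μ)
        unfold Matrix.rank at h3
        omega
      refine ⟨k + w, fun a b c habc => ?_⟩
      rw [mulVec_add, hk, zero_add] at habc
      have ha : a = 0 := by
        by_contra ha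
        refine hkI ?_
        have : k = a⁻¹ • (-(a • w) - b • (N *ᵥ w) - c • (N *ᵥ (N *ᵥ w))) := by
          linear_combination (norm := skip) a⁻¹ • habc
          match_scalars <;> field_simp <;> ring
        rw [this]
        exact I.smul_mem _ (I.sub_mem (I.sub_mem (I.neg_mem (I.smul_mem _ hwI)) (I.smul_mem _ (hmemI _)))
          (I.smul_mem _ (hmemI _)))
      subst ha
      rw [zero_smul, zero_add] at habc
      have h' : b • w + c • (N *ᵥ w) = 0 :=
        hinter _ (I.add_mem (I.smul_mem _ hwI) (I.smul_mem _ (hmemI _)))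
          (by rw [mulVec_add, mulVec_smul, mulVec_smul, habc])
      have hc : c = 0 := by
        by_contra hc
        refine hw (-(c⁻¹ * b)) ?_
        linear_combination (norm := skip) c⁻¹ • h'
        match_scalars <;> field_simp <;> ring
      subst hc
      rw [zero_smul, add_zero, smul_eq_zero] at h'
      refine ⟨rfl, h'.resolve_right fun e => hw 0 ?_, rfl⟩
      rw [e, mulVec_zero, zero_smul]
  · push Not at he
    have hne : ∀ (α : F) x, x ≠ 0 → y *ᵥ x ≠ α • x := fun α x hx e => by
      refine he α x hx ?_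
      rw [sub_mulVec, smul_mulVec, one_mulVec, e, sub_self]
    set v : Fin 3 → F := Pi.single 0 1
    have hv : v ≠ 0 := fun e => by simpa [v] using congrFun e 0
    refine ⟨v, fun a b c habc => ?_⟩
    have hc : c = 0 := by
      by_contra hc
      -- an invariant plane
      let W : Submodule F (Fin 3 → F) := Submodule.span F (Set.range ![v, y *ᵥ v])
      have hind : LinearIndependent F ![v, y *ᵥ v] :=
        (LinearIndependent.pair_iff' hv).2 fun t e => hne t v hv e.symm
      have hyW : ∀ x ∈ W, y *ᵥ x ∈ W := by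
        intro x hx
        induction hx using Submodule.span_induction with
        | mem x hx =>
          obtain ⟨i, rfl⟩ := hx
          fin_cases i
          · exact Submodule.subset_span ⟨1, rfl⟩
          · have e : y *ᵥ (y *ᵥ v) = (-(c⁻¹ * a)) • v + (-(c⁻¹ * b)) • (y *ᵥ v) := by
              linear_combination (norm := skip) c⁻¹ • habc
              match_scalars <;> field_simp <;> ring
            change y *ᵥ (y *ᵥ v) ∈ W
            rw [e]
            exact add_mem (Submodule.smul_mem _ _ (Submodule.subset_span ⟨0, rfl⟩))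
              (Submodule.smul_mem _ _ (Submodule.subset_span ⟨1, rfl⟩))
        | zero => rw [mulVec_zero]; exact zero_mem _
        | add p q _ _ hp hq => rw [mulVec_add]; exact add_mem hp hq
        | smul t p _ hp => rw [mulVec_smul]; exact Submodule.smul_mem _ t hp
      have hW2 : finrank F W = 2 := by rw [finrank_span_eq_card hind, Fintype.card_fin]
      obtain ⟨z, hz⟩ : ∃ z, z ∉ W := by
        by_contra hall
        push Not at hall
        have : W = ⊤ := eq_top_iff.2 fun z _ => hall z
        rw [this, finrank_top, finrank_pi, Fintype.card_fin] at hW2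
        omega
      have hsup : W ⊔ Submodule.span F {z} = ⊤ := Submodule.eq_top_of_finrank_eq (by
        have h1 := Submodule.finrank_sup_add_finrank_inf_eq W (Submodule.span F {z})
        have h2 : W ⊓ Submodule.span F {z} = ⊥ := disjoint_iff.1
          (Submodule.disjoint_span_singleton.2 fun h' => absurd h' hz)
        have hz0 : z ≠ 0 := fun e => hz (e ▸ zero_mem _)
        rw [h2, finrank_bot, hW2, finrank_span_singleton hz0] at h1
        rw [finrank_pi, Fintype.card_fin]
        omega)
      obtain ⟨p, hp, q, hq, hpq⟩ := Submodule.mem_sup.1 (hsup ▸ Submodule.mem_top : y *ᵥ z ∈ W ⊔ Submodule.span F {z})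
      obtain ⟨t, rfl⟩ := Submodule.mem_span_singleton.1 hq
      have hinto : LinearMap.range (y - t • (1 : M3)).mulVecLin ≤ W := by
        rintro _ ⟨x, rfl⟩
        change (y - t • (1 : M3)) *ᵥ x ∈ W
        obtain ⟨p', hp', q', hq', rfl⟩ := Submodule.mem_sup.1 (hsup ▸ Submodule.mem_top : x ∈ W ⊔ Submodule.span F {z})
        obtain ⟨r, rfl⟩ := Submodule.mem_span_singleton.1 hq'
        rw [sub_mulVec, smul_mulVec, one_mulVec, mulVec_add, mulVec_smul, ← hpq]
        have : y *ᵥ p' + r • (p + t • z) - t • (p' + r • z) = y *ᵥ p' - t • p' + r • p := by module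
        rw [this]
        exact add_mem (sub_mem (hyW _ hp') (Submodule.smul_mem _ _ hp')) (Submodule.smul_mem _ _ hp)
      have h1 := Submodule.finrank_mono hinto
      have h2 := LinearMap.finrank_range_add_finrank_ker (y - t • (1 : M3)).mulVecLin
      rw [finrank_pi, Fintype.card_fin] at h2
      have h3 : LinearMap.ker (y - t • (1 : M3)).mulVecLin = ⊥ :=
        (Submodule.eq_bot_iff _).2 fun x hx => by
          by_contra hx0
          exact he t x hx0 hx
      rw [h3, finrank_bot] at h2
      omega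
    subst hc
    rw [zero_smul, add_zero] at habc
    have hb : b = 0 := by
      by_contra hb
      refine hne (-(b⁻¹ * a)) v hv ?_
      linear_combination (norm := skip) b⁻¹ • habc
      match_scalars <;> field_simp <;> ring
    subst hb
    rw [zero_smul, add_zero, smul_eq_zero] at habc
    exact ⟨habc.resolve_right hv, rfl, rfl⟩

/-- The commutant of a cyclic matrix. -/
theorem eq_poly_of_commute {y x : M3} {v : Fin 3 → F}
    (hv : ∀ a b c : F, a • v + b • (y *ᵥ v) + c • (y *ᵥ (y *ᵥ v)) = 0 → a = 0 ∧ b = 0 ∧ c = 0)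
    (hxy : x * y = y * x) : ∃ a b c : F, x = a • 1 + b • y + c • (y * y) := by
  have hind : LinearIndependent F ![v, y *ᵥ v, y *ᵥ (y *ᵥ v)] := by
    rw [Fintype.linearIndependent_iff]
    intro g hg i
    simp only [Fin.sum_univ_three] at hg
    obtain ⟨h0, h1, h2⟩ := hv (g 0) (g 1) (g 2) hg
    fin_cases i <;> assumption
  have htop : Submodule.span F (Set.range ![v, y *ᵥ v, y *ᵥ (y *ᵥ v)]) = ⊤ :=
    hind.span_eq_top_of_card_eq_finrank (by simp)
  obtain ⟨g, hg⟩ := (Submodule.mem_span_range_iff_exists_fun F).1 (htop ▸ Submodule.mem_top : x *ᵥ v ∈ _)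
  simp only [Fin.sum_univ_three, Matrix.cons_val] at hg
  refine ⟨g 0, g 1, g 2, ?_⟩
  set X : M3 := g 0 • 1 + g 1 • y + g 2 • (y * y) with hX
  have hXy : X * y = y * X := by
    simp only [hX, add_mul, mul_add, smul_mul_assoc, mul_smul_comm, one_mul, mul_one, mul_assoc]
  refine Matrix.ext_iff_mulVec.2 fun z => ?_
  have hz : z ∈ Submodule.span F (Set.range ![v, y *ᵥ v, y *ᵥ (y *ᵥ v)]) := htop ▸ Submodule.mem_top
  have h0 : x *ᵥ v = X *ᵥ v := by
    rw [← hg, hX, add_mulVec, add_mulVec, smul_mulVec, smul_mulVec, smul_mulVec, one_mulVec, ← mulVec_mulVec]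
  have h1 : x *ᵥ (y *ᵥ v) = X *ᵥ (y *ᵥ v) := by
    rw [mulVec_mulVec, hxy, ← mulVec_mulVec, h0, mulVec_mulVec, ← hXy, ← mulVec_mulVec]
  have h2 : x *ᵥ (y *ᵥ (y *ᵥ v)) = X *ᵥ (y *ᵥ (y *ᵥ v)) := by
    rw [mulVec_mulVec, hxy, ← mulVec_mulVec, h1, mulVec_mulVec, ← hXy, ← mulVec_mulVec]
  induction hz using Submodule.span_induction with
  | mem p hp =>
    obtain ⟨i, rfl⟩ := hp
    fin_cases i
    exacts [h0, h1, h2]
  | zero => simp
  | add p q _ _ hp hq => rw [mulVec_add, mulVec_add, hp, hq]
  | smul t p _ hp => rw [mulVec_smul, mulVec_smul, hp]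

/-- Commuting with a cyclic matrix is a transitive relation. -/
theorem commute_of_cyclic {y x x' : M3} {v : Fin 3 → F}
    (hv : ∀ a b c : F, a • v + b • (y *ᵥ v) + c • (y *ᵥ (y *ᵥ v)) = 0 → a = 0 ∧ b = 0 ∧ c = 0)
    (h : x * y = y * x) (h' : x' * y = y * x') : x * x' = x' * x := by
  obtain ⟨a, b, c, rfl⟩ := eq_poly_of_commute hv h
  have h'' : x' * (y * y) = y * y * x' := by rw [← mul_assoc, h', mul_assoc, h', mul_assoc]
  simp only [add_mul, mul_add, smul_mul_assoc, mul_smul_comm, one_mul, mul_one, h', h'']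

theorem trichotomy_mat {y : M3} (hy : y.det ≠ 0) :
    IsScal y ∨ IsHom y ∨
      (∃ (α : F) (u φ : Fin 3 → F), α ≠ 0 ∧ u ≠ 0 ∧ φ ≠ 0 ∧ φ ⬝ᵥ u = 0 ∧ y = α • (1 + vecMulVec u φ)) ∨
      ∃ v, ∀ a b c : F, a • v + b • (y *ᵥ v) + c • (y *ᵥ (y *ᵥ v)) = 0 → a = 0 ∧ b = 0 ∧ c = 0 := by
  by_cases h : ∀ α : F, 2 ≤ (y - α • 1).rank
  · exact .inr (.inr (.inr (exists_cyclic h)))
  push Not at h
  obtain ⟨α, hα⟩ := h
  obtain ⟨u, φ, hN⟩ := exists_vecMulVec (Nat.le_of_lt_succ hα)
  have hy' : y = α • 1 + vecMulVec u φ := by rw [← hN]; abel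
  by_cases h0 : u = 0 ∨ φ = 0
  · left
    refine ⟨α, ?_⟩
    rcases h0 with rfl | rfl <;> simpa using hy'
  push Not at h0
  have hα0 : α ≠ 0 := fun e => hy (by
    rw [hy', e, zero_smul, zero_add]; exact det_vecMulVec u φ)
  have hyf : y = α • (1 + vecMulVec (α⁻¹ • u) φ) := by
    rw [hy', smul_add, smul_vecMulVec, smul_inv_smul₀ hα0]
  by_cases hz : φ ⬝ᵥ u = 0
  · exact .inr (.inr (.inl ⟨α, α⁻¹ • u, φ, hα0, smul_ne_zero (inv_ne_zero hα0) h0.1, h0.2,
      by rw [dotProduct_smul, hz, smul_zero], hyf⟩))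
  · exact .inr (.inl ⟨α, α⁻¹ • u, φ, hα0,
      by rw [dotProduct_smul, smul_eq_mul]; exact mul_ne_zero (inv_ne_zero hα0) hz, hyf⟩)

/-- In a transvection-free subgroup of `SL₃` containing its scalars: scalar, homology, or cyclic. -/
theorem trichotomy {M : Subgroup G3} (hsl : M ≤ Cfsg.Geo.specialLinear (Fin 3) F) (hno : NoTransv M)
    (hZ : ∀ (c : F) (g : G3), c ^ 3 = 1 → (g : M3) = c • 1 → g ∈ M) {y : G3} (hy : y ∈ M) :
    IsScal (y : M3) ∨ IsHom (y : M3) ∨
      ∃ v, ∀ a b c : F, a • v + b • ((y : M3) *ᵥ v) + c • ((y : M3) *ᵥ ((y : M3) *ᵥ v)) = 0 →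
        a = 0 ∧ b = 0 ∧ c = 0 := by
  have hdet : (y : M3).det = 1 := mem_specialLinear_iff.1 (hsl hy)
  rcases trichotomy_mat (y := (y : M3)) (by rw [hdet]; exact one_ne_zero) with h | h | ⟨α, u, φ, hα, hu, hφ, hz, he⟩ | h
  · exact .inl h
  · exact .inr (.inl h)
  · exfalso
    have hd : α ^ 3 = 1 := by
      rw [he, det_smul, Fintype.card_fin, vecMulVec_eq Unit, det_one_add_replicateCol_mul_replicateRow, hz,
        add_zero, mul_one] at hdet
      exact hdet
    let c : G3 := Units.map (Matrix.scalar (Fin 3) : F →+* M3).toMonoidHom (Units.mk0 α hα)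
    have hc : (c : M3) = α • 1 := by simp [c, smul_one_eq_diagonal]
    have he' : y = c * trGL u φ hz := Units.ext (by
      rw [Units.val_mul, hc, smul_mul_assoc, one_mul, he]; rfl)
    have : trGL u φ hz ∈ M := by
      have := M.mul_mem (M.inv_mem (hZ α c hd hc)) hy
      rwa [he', inv_mul_cancel_left] at this
    exact (hno u φ hz this).elim hu hφ
  · exact .inr (.inr h)

/-- The shape of an involution in `SL₃`. -/
theorem involution_form (h2 : (2 : F) ≠ 0) {y : M3} (hy : y * y = 1) (hdet : y.det = 1) :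
    y = 1 ∨ ∃ u φ : Fin 3 → F, φ ⬝ᵥ u = 1 ∧ y = -1 + (2 : F) • vecMulVec u φ := by
  have hAB : (y - 1) * (y + 1) = 0 := by
    rw [mul_add, sub_mul, mul_one, one_mul, hy]; abel
  have hsum : (y - 1).rank + (y + 1).rank ≤ 3 := by
    have hle : LinearMap.range (y + 1).mulVecLin ≤ LinearMap.ker (y - 1).mulVecLin := by
      rintro _ ⟨x, rfl⟩
      change (y - 1) *ᵥ ((y + 1) *ᵥ x) = 0
      rw [mulVec_mulVec, hAB, zero_mulVec]
    have h1 := Submodule.finrank_mono hle
    have h2 := LinearMap.finrank_range_add_finrank_ker (y - 1).mulVecLin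
    rw [finrank_pi, Fintype.card_fin] at h2
    unfold Matrix.rank
    omega
  rcases le_or_gt (y - 1).rank 1 with h | h
  · obtain ⟨u, φ, hN⟩ := exists_vecMulVec h
    have hy' : y = 1 + vecMulVec u φ := by rw [← hN]; abel
    left
    rw [hy', vecMulVec_eq Unit, det_one_add_replicateCol_mul_replicateRow, add_eq_left] at hdet
    rw [hy', mul_add, add_mul, add_mul, vecMulVec_mul_vecMulVec, hdet, zero_smul, vecMulVec_zero,
      one_mul, mul_one, one_mul, add_zero, add_assoc, add_eq_left, ← two_smul F] at hy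
    rw [hy', (smul_eq_zero.1 hy).resolve_left h2, add_zero]
  · obtain ⟨u, φ, hN⟩ := exists_vecMulVec (show (y + 1).rank ≤ 1 by omega)
    have hy' : y = -1 + vecMulVec u φ := by rw [← hN]; abel
    right
    refine ⟨(2 : F)⁻¹ • u, φ, ?_, by rw [smul_vecMulVec, smul_inv_smul₀ h2, hy']⟩
    have e : y = (-1 : F) • (1 + vecMulVec (-u) φ) := by
      rw [hy', neg_vecMulVec, smul_add, neg_smul, neg_smul, one_smul, one_smul, neg_neg]
    rw [e, det_smul, Fintype.card_fin, vecMulVec_eq Unit, det_one_add_replicateCol_mul_replicateRow,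
      dotProduct_neg] at hdet
    rw [dotProduct_smul, smul_eq_mul]
    field_simp
    linear_combination hdet

end CfsgLib.Classical.GeoThree.C6
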