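import Cfsg.Agent.Lib.Classical.GeoThree.C6.Three

/-!
# The Sylow three-subgroup without ninth roots of unity
-/

set_option autoImplicit false
set_option linter.unusedSectionVars false
set_option linter.style.haveILetI false
set_option backward.isDefEq.respectTransparency false

open Matrix

namespace CfsgLib.Classical.GeoThree.C6

variable {F : Type*} [Field F] [Finite F]

local notation "M3" => Matrix (Fin 3) (Fin 3) F
local notation "G3" => GL (Fin 3) F

namespace Omega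

variable (W : Omega F)

theorem jG_conj_d' : W.jG * W.dG * W.jG⁻¹ = W.zG ^ 2 * W.dG * W.pG ^ 2 := by
  rw [mul_inv_eq_iff_eq_mul]
  ext i j; fin_cases i <;> fin_cases j <;>
    simp [jG, dG, pG, zG, pow_succ, Matrix.mul_apply, Fin.sum_univ_three, Matrix.one_apply] <;> grind [W.cube]

theorem jG_conj_p : W.jG * W.pG * W.jG⁻¹ = W.zG * W.dG ^ 2 * W.pG ^ 2 := by
  rw [mul_inv_eq_iff_eq_mul]
  ext i j; fin_cases i <;> fin_cases j <;>
    simp [jG, dG, pG, zG, pow_succ, Matrix.mul_apply, Fin.sum_univ_three, Matrix.one_apply] <;> grind [W.cube]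

theorem mem_normalizer_of_gens {g : G3} (hd : g * W.dG * g⁻¹ ∈ W.heis) (hp : g * W.pG * g⁻¹ ∈ W.heis) :
    g ∈ Subgroup.normalizer (W.heis : Set G3) := by
  have hle : W.heis.map (MulAut.conj g).toMonoidHom ≤ W.heis := by
    rw [Subgroup.map_le_iff_le_comap, heis, Subgroup.closure_le]
    rintro x (rfl | rfl)
    exacts [hd, hp]
  have heq : W.heis.map (MulAut.conj g).toMonoidHom = W.heis :=
    Subgroup.eq_of_le_of_card_ge hle
      (Subgroup.card_map_of_injective (MulAut.conj g).injective).ge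
  refine Subgroup.mem_normalizer_iff.2 fun x => ⟨fun hx => heq ▸ ⟨x, hx, rfl⟩, fun hx => ?_⟩
  rw [← heq] at hx
  obtain ⟨y, hy, hyx⟩ := hx
  obtain rfl : y = x := (MulAut.conj g).injective hyx
  exact hy

theorem z_normalizer (g : G3) : g * W.zG * g⁻¹ = W.zG := by
  rw [← W.zG_comm, mul_inv_cancel_right]

theorem d_normalizer : W.dG ∈ Subgroup.normalizer (W.heis : Set G3) :=
  Subgroup.le_normalizer W.d_mem

theorem p_normalizer : W.pG ∈ Subgroup.normalizer (W.heis : Set G3) :=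
  Subgroup.le_normalizer W.p_mem

theorem f_normalizer : W.fG ∈ Subgroup.normalizer (W.heis : Set G3) := by
  refine W.mem_normalizer_of_gens ?_ ?_
  · rw [fG_conj_d, mul_inv_cancel_right]; exact pow_mem W.p_mem 2
  · rw [fG_conj_p, mul_inv_cancel_right]; exact W.d_mem

theorem j_normalizer : W.jG ∈ Subgroup.normalizer (W.heis : Set G3) := by
  refine W.mem_normalizer_of_gens ?_ ?_
  · rw [jG_conj_d']
    exact mul_mem (mul_mem (pow_mem W.z_mem 2) W.d_mem) (pow_mem W.p_mem 2)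
  · rw [jG_conj_p]
    exact mul_mem (mul_mem W.z_mem (pow_mem W.d_mem 2)) (pow_mem W.p_mem 2)

theorem z_val (k : ℕ) : (((W.zG ^ k : G3)) : M3) = W.ω ^ k • 1 := by
  rw [Units.val_pow_eq_pow_val]
  show (W.ω • (1 : M3)) ^ k = _
  rw [smul_pow, one_pow]

theorem d_val (l : ℕ) :
    (((W.dG ^ l : G3)) : M3) = !![1, 0, 0; 0, W.ω ^ l, 0; 0, 0, W.ω ^ (2 * l)] := by
  induction l with
  | zero => ext i j; fin_cases i <;> fin_cases j <;> simp
  | succ l ih =>
    rw [pow_succ, Units.val_mul, ih]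
    ext i j; fin_cases i <;> fin_cases j <;>
      simp [dG, Matrix.mul_apply, Fin.sum_univ_three, pow_succ, mul_add] <;> ring

theorem p_conj_d : W.pG * W.dG * W.pG⁻¹ = W.zG ^ 2 * W.dG := by
  rw [p_mul_d, ← mul_assoc, mul_inv_cancel_right]

theorem p_pow_conj_d (a : ℕ) : W.pG ^ a * W.dG * (W.pG ^ a)⁻¹ = W.zG ^ (2 * a) * W.dG := by
  induction a with
  | zero => simp
  | succ a ih =>
    rw [pow_succ', _root_.mul_inv_rev, show W.pG * W.pG ^ a * W.dG * ((W.pG ^ a)⁻¹ * W.pG⁻¹) =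
      W.pG * (W.pG ^ a * W.dG * (W.pG ^ a)⁻¹) * W.pG⁻¹ by group, ih,
      show W.pG * (W.zG ^ (2 * a) * W.dG) * W.pG⁻¹ = (W.pG * W.zG ^ (2 * a)) * W.dG * W.pG⁻¹ by group,
      ← (Commute.pow_left (W.zG_comm W.pG) (2 * a)).eq, mul_assoc (W.zG ^ (2 * a)), mul_assoc, p_conj_d,
      ← mul_assoc, ← pow_add, mul_add, mul_one]

end Omega

variable [Fact ((2 : F) ≠ 0)] {M : Subgroup (GL (Fin 3) F)} {W : Omega F}

/-- Conjugate to `diag(1,ω,ω²)` by an element normalising the Heisenberg group. -/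
def ToD (W : Omega F) (M : Subgroup (GL (Fin 3) F)) (r : GL (Fin 3) F) : Prop :=
  ∃ h ∈ M ⊓ Subgroup.normalizer (W.heis : Set (GL (Fin 3) F)), h * r * h⁻¹ = W.dG

theorem ToD.conj {r g : G3} (hr : ToD W M r) (hg : g ∈ M ⊓ Subgroup.normalizer (W.heis : Set G3)) :
    ToD W M (g * r * g⁻¹) := by
  obtain ⟨h, hh, e⟩ := hr
  exact ⟨h * g⁻¹, mul_mem hh (inv_mem hg), by rw [← e]; group⟩

theorem ToD.z_mul (h : Hyp W M) {r : G3} (hr : ToD W M r) : ToD W M (W.zG * r) := by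
  obtain ⟨k, hk, e⟩ := hr
  refine ⟨W.pG * k, mul_mem (Subgroup.mem_inf.2 ⟨h.p, W.p_normalizer⟩) hk, ?_⟩
  have hz : Commute W.zG (W.pG * k) := W.zG_comm _
  rw [← mul_assoc, ← hz.eq, show W.zG * (W.pG * k) * r * (W.pG * k)⁻¹ =
    W.zG * (W.pG * (k * r * k⁻¹) * W.pG⁻¹) by group, e, Omega.p_conj_d, ← mul_assoc, ← pow_succ',
    W.z_pow_three, one_mul]

theorem ToD.zpow_mul (h : Hyp W M) {r : G3} (hr : ToD W M r) (k : ℕ) : ToD W M (W.zG ^ k * r) := by
  induction k with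
  | zero => simpa using hr
  | succ k ih => rw [pow_succ', mul_assoc]; exact ih.z_mul h

theorem ToD.sq (h : Hyp W M) {r : G3} (hr : ToD W M r) : ToD W M (r ^ 2) := by
  obtain ⟨k, hk, e⟩ := hr
  refine ⟨W.sG * k, mul_mem (Subgroup.mem_inf.2 ⟨h.sigma, ?_⟩) hk, ?_⟩
  · rw [← W.fG_sq]; exact mul_mem W.f_normalizer W.f_normalizer
  · rw [show W.sG * k * r ^ 2 * (W.sG * k)⁻¹ = W.sG * (k * r * k⁻¹) ^ 2 * W.sG⁻¹ by
      rw [pow_two, pow_two]; group, e, ← conj_pow, Omega.sG_conj_d, ← pow_mul,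
      show 2 * 2 = 3 + 1 from rfl, pow_succ, Omega.d_pow_three, one_mul]

theorem heis_cases (h : Hyp W M) {r : G3} (hr : r ∈ W.heis) :
    (∃ k, r = W.zG ^ k) ∨ ToD W M r := by
  obtain ⟨k, b, c, rfl⟩ := (W.mem_heis_iff).1 hr
  have hd : ToD W M W.dG := ⟨1, one_mem _, by group⟩
  have hf := Subgroup.mem_inf.2 ⟨h.f, W.f_normalizer⟩
  have hj := Subgroup.mem_inf.2 ⟨h.j, W.j_normalizer⟩
  -- `F P F⁻¹ = D`
  have hp : ToD W M W.pG := by
    have := hd.conj (inv_mem hf)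
    rwa [inv_inv, show W.fG⁻¹ * W.dG * W.fG = W.pG by rw [mul_assoc, ← W.fG_conj_p, inv_mul_cancel_left]] at this
  have h12 : ToD W M (W.dG * W.pG ^ 2) := by
    have := (hd.conj hj).zpow_mul h 1
    rwa [Omega.jG_conj_d', pow_one, ← mul_assoc, ← mul_assoc, ← pow_succ', W.z_pow_three, one_mul] at this
  have h22 : ToD W M (W.dG ^ 2 * W.pG ^ 2) := by
    have := (hp.conj hj).zpow_mul h 2
    rwa [Omega.jG_conj_p, ← mul_assoc, ← mul_assoc, ← pow_succ, W.z_pow_three, one_mul] at this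
  have hsq : ∀ {b c : ℕ}, ToD W M (W.dG ^ b * W.pG ^ c) → ToD W M (W.dG ^ (2 * b) * W.pG ^ (2 * c)) := by
    intro b c hbc
    have h2 := hbc.sq h
    have key : ∀ c : ℕ, ∃ m, W.pG ^ c * W.dG ^ b = W.zG ^ m * (W.dG ^ b * W.pG ^ c) := by
      intro c
      induction c with
      | zero => exact ⟨0, by simp⟩
      | succ c ih =>
        obtain ⟨m, hm⟩ := ih
        refine ⟨m + 2 * b, ?_⟩
        rw [pow_succ', mul_assoc, hm, ← mul_assoc, ← (Commute.pow_left (W.zG_comm _) m).eq, mul_assoc,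
          ← mul_assoc W.pG (W.dG ^ b), Omega.p_mul_dpow, ← mul_assoc (W.zG ^ m), ← mul_assoc (W.zG ^ m),
          ← pow_add, mul_assoc, mul_assoc]
    obtain ⟨m, hm⟩ := key c
    have e : (W.dG ^ b * W.pG ^ c) ^ 2 = W.zG ^ m * (W.dG ^ (2 * b) * W.pG ^ (2 * c)) := by
      rw [sq, show W.dG ^ b * W.pG ^ c * (W.dG ^ b * W.pG ^ c) = W.dG ^ b * (W.pG ^ c * W.dG ^ b) * W.pG ^ c by
        group, hm, ← mul_assoc (W.dG ^ b), ← (Commute.pow_left (W.zG_comm _) m).eq, two_mul, two_mul,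
        pow_add, pow_add]
      group
    rw [e] at h2
    have h3 := h2.zpow_mul h (2 * m)
    rwa [← mul_assoc, ← pow_add, show 2 * m + m = 3 * m by omega, pow_mul, W.z_pow_three, one_pow, one_mul] at h3
  have h21 : ToD W M (W.dG ^ 2 * W.pG ^ 1) := by
    have := hsq (b := 1) (c := 2) (by rwa [pow_one])
    rw [pow_one]
    rwa [show 2 * 1 = 2 from rfl, show 2 * 2 = 3 + 1 from rfl, pow_succ W.pG 3, W.p_pow_three, one_mul] at this
  have h11 : ToD W M (W.dG ^ 1 * W.pG ^ 1) := by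
    have := hsq h22
    rwa [show 2 * 2 = 3 + 1 from rfl, pow_succ W.dG 3, pow_succ W.pG 3, W.d_pow_three, W.p_pow_three,
      one_mul, one_mul, ← pow_one W.dG, ← pow_one W.pG] at this
  have hred : W.zG ^ k * W.dG ^ b * W.pG ^ c = W.zG ^ k * (W.dG ^ (b % 3) * W.pG ^ (c % 3)) := by
    rw [← pow_eq_pow_mod b W.d_pow_three, ← pow_eq_pow_mod c W.p_pow_three, mul_assoc]
  rw [hred]
  have hb : b % 3 < 3 := Nat.mod_lt _ (by norm_num)
  have hc : c % 3 < 3 := Nat.mod_lt _ (by norm_num)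
  interval_cases b % 3 <;> interval_cases c % 3
  · exact .inl ⟨k, by simp⟩
  · exact .inr (by simpa using hp.zpow_mul h k)
  · exact .inr (by simpa using (hp.sq h).zpow_mul h k)
  · exact .inr (by simpa using hd.zpow_mul h k)
  · exact .inr (h11.zpow_mul h k)
  · exact .inr (by simpa using h12.zpow_mul h k)
  · exact .inr (by simpa using (hd.sq h).zpow_mul h k)
  · exact .inr (h21.zpow_mul h k)
  · exact .inr (h22.zpow_mul h k)

theorem heis_pow_three (h : Hyp W M) {r : G3} (hr : r ∈ W.heis) : r ^ 3 = 1 := by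
  rcases heis_cases h hr with ⟨k, rfl⟩ | ⟨g, -, e⟩
  · rw [← pow_mul, mul_comm, pow_mul, W.z_pow_three, one_pow]
  · have : g * r ^ 3 * g⁻¹ = 1 := by rw [← conj_pow, e, W.d_pow_three]
    rwa [mul_inv_eq_one, mul_eq_left] at this

theorem isScal_iff (h : Hyp W M) {r : G3} (hr : r ∈ W.heis) :
    IsScal (r : M3) ↔ ∃ k, r = W.zG ^ k := by
  refine ⟨fun ⟨c, hc⟩ => (heis_cases h hr).resolve_right fun ⟨g, _, e⟩ => ?_, fun ⟨k, e⟩ => ⟨_, e ▸ W.z_val k⟩⟩
  have hgr : (g : M3) * (r : M3) = (r : M3) * (g : M3) := by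
    rw [hc, mul_smul_comm, smul_mul_assoc, one_mul, mul_one]
  have : r = W.dG := by
    rw [← e, show g * r = r * g from Units.ext hgr, mul_inv_cancel_right]
  rw [this] at hc
  have e0 := congrFun (congrFun hc 0) 0
  have e1 := congrFun (congrFun hc 1) 1
  simp [Omega.dG] at e0 e1
  exact W.ne_one (e1.trans e0.symm)

/-- An element of three-power order normalising the Heisenberg group lies in it. -/
theorem mem_heis_of_normalizes (h : Hyp W M) (h9 : ∀ ζ : F, ζ ^ 3 ≠ W.ω) {g : G3} (hg : g ∈ M)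
    (hgn : g ∈ Subgroup.normalizer (W.heis : Set G3)) {j : ℕ} (hgj : g ^ 3 ^ j = 1) : g ∈ W.heis := by
  haveI : Fact (Nat.Prime 3) := ⟨Nat.prime_three⟩
  -- the three-group generated by `g` and the Heisenberg group
  have hP : IsPGroup 3 W.heis := fun r => ⟨1, Subtype.ext (heis_pow_three h r.2)⟩
  have hgP : IsPGroup 3 (Subgroup.zpowers g) := by
    rintro ⟨x, hx⟩
    obtain ⟨i, rfl⟩ := Subgroup.mem_zpowers_iff.1 hx
    exact ⟨j, Subtype.ext (by
      rw [SubgroupClass.coe_pow, Subgroup.coe_one, ← zpow_natCast, ← _root_.zpow_mul, mul_comm,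
        _root_.zpow_mul, zpow_natCast, hgj, _root_.one_zpow])⟩
  set Q := Subgroup.zpowers g ⊔ W.heis
  have hQ : IsPGroup 3 Q := hgP.to_sup_of_normal_right' hP (Subgroup.zpowers_le.2 hgn)
  haveI : Group.IsNilpotent Q := hQ.isNilpotent
  set g' : Q := ⟨g, (le_sup_left : _ ≤ Q) (Subgroup.mem_zpowers g)⟩
  obtain ⟨n, hn⟩ := Subgroup.nilpotent_iff_lowerCentralSeries.1 (inferInstance : Group.IsNilpotent Q)
  -- a non-scalar element centralised by `g` modulo scalars
  obtain ⟨r, hr, hrs, hgr⟩ : ∃ r ∈ W.heis, ¬ IsScal (r : M3) ∧ ∃ k, g * r * g⁻¹ * r⁻¹ = W.zG ^ k := by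
    by_contra hall
    push Not at hall
    have step : ∀ i, ∃ r : Q, r ∈ (⊤ : Subgroup Q).lowerCentralSeries i ∧ (r : G3) ∈ W.heis ∧
        ¬ IsScal ((r : G3) : M3) := by
      intro i
      induction i with
      | zero =>
        refine ⟨⟨W.dG, (le_sup_right : _ ≤ Q) W.d_mem⟩, Subgroup.mem_top _, W.d_mem, fun ⟨c, hc⟩ => ?_⟩
        have e0 := congrFun (congrFun hc 0) 0
        have e1 := congrFun (congrFun hc 1) 1
        simp [Omega.dG] at e0 e1
        exact W.ne_one (e1.trans e0.symm)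
      | succ i ih =>
        obtain ⟨r, hri, hrh, hrs⟩ := ih
        have hmem : g * (r : G3) * g⁻¹ * (r : G3)⁻¹ ∈ W.heis :=
          mul_mem ((Subgroup.mem_normalizer_iff.1 hgn _).1 hrh) (inv_mem hrh)
        refine ⟨g' * r * g'⁻¹ * r⁻¹, ?_, hmem, fun hs => ?_⟩
        · rw [Subgroup.lowerCentralSeries_succ, Subgroup.commutator_comm]
          exact Subgroup.commutator_mem_commutator (Subgroup.mem_top g') hri
        · obtain ⟨k, hk⟩ := (isScal_iff h hmem).1 hs
          exact hall _ hrh hrs k hk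
    obtain ⟨r, hr, -, hrs⟩ := step n
    rw [hn, Subgroup.mem_bot] at hr
    exact hrs ⟨1, by rw [hr, Subgroup.coe_one, Units.val_one, one_smul]⟩
  obtain ⟨k, hk⟩ := hgr
  obtain ⟨u, hu, hur⟩ := (heis_cases h hr).resolve_left fun e => hrs ((isScal_iff h hr).2 e)
  rw [Subgroup.mem_inf] at hu
  set g1 := u * g * u⁻¹
  have hg1 : g1 * W.dG * g1⁻¹ = W.zG ^ k * W.dG := by
    rw [← hur, show g1 * (u * r * u⁻¹) * g1⁻¹ = u * (g * r * g⁻¹ * r⁻¹) * r * u⁻¹ by simp only [g1]; group, hk,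
      ← (Commute.pow_left (W.zG_comm u) k).eq]
    group
  set g2 := W.pG ^ k * g1
  have hg2n : g2 ∈ Subgroup.normalizer (W.heis : Set G3) :=
    mul_mem (pow_mem W.p_normalizer _) (mul_mem (mul_mem hu.2 hgn) (inv_mem hu.2))
  have hg2M : g2 ∈ M := mul_mem (pow_mem h.p _) (mul_mem (mul_mem hu.1 hg) (inv_mem hu.1))
  have hg2d : g2 * W.dG = W.dG * g2 := by
    rw [← mul_inv_eq_iff_eq_mul, show g2 * W.dG * g2⁻¹ = W.pG ^ k * (g1 * W.dG * g1⁻¹) * (W.pG ^ k)⁻¹ by
      simp only [g2]; group, hg1, ← mul_assoc, ← (Commute.pow_pow (W.zG_comm W.pG) k k).eq, mul_assoc (W.zG ^ k),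
      mul_assoc, Omega.p_pow_conj_d, ← mul_assoc, ← pow_add, show k + 2 * k = 3 * k by omega, pow_mul,
      W.z_pow_three, one_pow, one_mul]
  -- `g2` is diagonal
  have hd : ∀ i j, i ≠ j → (g2 : M3) i j = 0 := by
    have e := congrArg Units.val hg2d
    have hω := W.sq_ne
    intro i j hij
    have := congrFun (congrFun e i) j
    fin_cases i <;> fin_cases j <;> simp [Omega.dG, Matrix.mul_apply, Fin.sum_univ_three] at this hij ⊢ <;>
      grind [W.ne_one, W.sq_ne_one, W.sq_ne, W.ne_zero]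
  -- compare with the shift
  have hP2 := (Subgroup.mem_normalizer_iff.1 hg2n _).1 W.p_mem
  obtain ⟨m, l, c, hmlc⟩ := (W.mem_heis_iff).1 hP2
  rw [mul_inv_eq_iff_eq_mul, pow_eq_pow_mod c W.p_pow_three, pow_eq_pow_mod l W.d_pow_three] at hmlc
  have hE : (g2 : M3) * (W.pG : M3) =
      ((W.zG ^ m : G3) : M3) * ((W.dG ^ (l % 3) : G3) : M3) * ((W.pG ^ (c % 3) : G3) : M3) * (g2 : M3) := by
    have := congrArg Units.val hmlc
    simpa only [Units.val_mul] using this
  rw [Omega.z_val, Omega.d_val] at hE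
  have hdet : (g2 : M3) 0 0 * (g2 : M3) 1 1 * (g2 : M3) 2 2 = 1 := by
    have hdet : (g2 : M3).det = 1 := mem_specialLinear_iff.1 (h.sl hg2M)
    rw [det_fin_three, hd 0 1 (by decide), hd 0 2 (by decide), hd 1 0 (by decide), hd 1 2 (by decide),
      hd 2 0 (by decide), hd 2 1 (by decide)] at hdet
    linear_combination hdet
  have hne : (g2 : M3) 0 0 ≠ 0 ∧ (g2 : M3) 1 1 ≠ 0 := by
    constructor <;> intro e <;> rw [e] at hdet <;> simp at hdet
  set a := (g2 : M3) 0 0 with ha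
  obtain ⟨h10, h21⟩ : (g2 : M3) 1 1 = W.ω ^ m * W.ω ^ (l % 3) * a ∧
      (g2 : M3) 2 2 = W.ω ^ m * W.ω ^ (2 * (l % 3)) * (g2 : M3) 1 1 := by
    have e10 := congrFun (congrFun hE 1) 0
    have e21 := congrFun (congrFun hE 2) 1
    have hc3 : c % 3 < 3 := Nat.mod_lt _ (by norm_num)
    interval_cases c % 3 <;>
      simp [Omega.pG, pow_succ, Matrix.mul_apply, Fin.sum_univ_three, hd 0 1 (by decide), hd 0 2 (by decide),
        hd 1 0 (by decide), hd 1 2 (by decide), hd 2 0 (by decide), hd 2 1 (by decide), hne.2] at e10 e21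
    exact ⟨by rw [e10, ha], e21⟩
  have hl3 : l % 3 < 3 := Nat.mod_lt _ (by norm_num)
  have hω : ∀ n, W.ω ^ (3 * n) = 1 := fun n => by rw [pow_mul, W.cube, one_pow]
  have hx : a ^ 3 * W.ω ^ (l % 3) = 1 := by
    rw [h21, h10] at hdet
    have : a ^ 3 * W.ω ^ (l % 3) * (W.ω ^ (3 * m) * W.ω ^ (3 * (l % 3))) = 1 := by
      rw [← hdet]; ring
    rwa [hω, hω, mul_one, mul_one] at this
  have hg2 : g2 ∈ W.heis := by
    have hl : l % 3 = 0 := by
      interval_cases hl' : l % 3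
      · rfl
      · refine absurd ?_ (h9 (a ^ 2))
        linear_combination W.ω * (a ^ 3 * W.ω + 1) * hx - a ^ 6 * W.cube
      · refine absurd ?_ (h9 a)
        linear_combination W.ω * hx - a ^ 3 * W.cube
    rw [hl, pow_zero, mul_one] at hx h10
    rw [hl, mul_zero, pow_zero, mul_one, h10] at h21
    have hprim : IsPrimitiveRoot W.ω 3 := (IsPrimitiveRoot.iff (by norm_num)).2 ⟨W.cube, fun i hi hi3 => by
      interval_cases i
      exacts [by simpa using W.ne_one, W.sq_ne_one]⟩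
    obtain ⟨i, -, hi⟩ := hprim.eq_pow_of_pow_eq_one hx
    have : g2 = W.zG ^ i * W.dG ^ m := by
      refine Units.ext (show (g2 : M3) = _ from ?_)
      rw [Units.val_mul (W.zG ^ i), Omega.z_val, Omega.d_val, smul_mul_assoc, one_mul]
      ext u v
      fin_cases u <;> fin_cases v <;> simp [hd 0 1 (by decide), hd 0 2 (by decide), hd 1 0 (by decide),
        hd 1 2 (by decide), hd 2 0 (by decide), hd 2 1 (by decide), ← ha, hi, h10, h21, two_mul, pow_add] <;> ring
    rw [this]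
    exact mul_mem (pow_mem W.z_mem _) (pow_mem W.d_mem _)
  -- back to `g`
  have hg1' : g1 ∈ W.heis := by
    have := mul_mem (inv_mem (pow_mem W.p_mem k)) hg2
    rwa [inv_mul_cancel_left] at this
  have := (Subgroup.mem_normalizer_iff.1 hu.2 g).2 hg1'
  exact this

end CfsgLib.Classical.GeoThree.C6
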