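import Cfsg.Agent.Lib.Classical.GeoThree.C6.NinePair
import Cfsg.Agent.Lib.Classical.GeoThree.C6.Sylow

/-!
# With ninth roots of unity: the twelve homologies of the Hessian configuration
-/

set_option autoImplicit false
set_option linter.unusedSectionVars false
set_option linter.style.haveILetI false
set_option backward.isDefEq.respectTransparency false

open Matrix

namespace CfsgLib.Classical.GeoThree.C6

variable {F : Type*} [Field F] [Finite F] [Fact ((2 : F) ≠ 0)]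
  {M : Subgroup (GL (Fin 3) F)} {W : Omega F}

local notation "M3" => Matrix (Fin 3) (Fin 3) F
local notation "G3" => GL (Fin 3) F

/-- A centre of a homology of order three of `M`. -/
def Cen (W : Omega F) (M : Subgroup (GL (Fin 3) F)) (α : F) (v φ : Fin 3 → F) : Prop :=
  φ ⬝ᵥ v = 1 ∧ ∃ y ∈ M, (y : Matrix (Fin 3) (Fin 3) F) = hmat W α v φ

theorem hmat_conj (α : F) (v φ : Fin 3 → F) (g : G3) :
    (g : M3) * hmat W α v φ * ((g⁻¹ : G3) : M3) = hmat W α ((g : M3) *ᵥ v) (φ ᵥ* ((g⁻¹ : G3) : M3)) := by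
  rw [hmat, hmat, mul_smul_comm, smul_mul_assoc, mul_add, add_mul, mul_one, ← Units.val_mul, mul_inv_cancel,
    Units.val_one, mul_vecMulVec, vecMulVec_mul, smul_vecMul]

theorem Cen.map {α : F} {v φ : Fin 3 → F} (hc : Cen W M α v φ) {g : G3} (hg : g ∈ M) :
    Cen W M α ((g : M3) *ᵥ v) (φ ᵥ* ((g⁻¹ : G3) : M3)) := by
  obtain ⟨h1, y, hy, e⟩ := hc
  refine ⟨by rw [← dotProduct_mulVec, mulVec_mulVec, ← Units.val_mul, inv_mul_cancel, Units.val_one, one_mulVec, h1],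
    g * y * g⁻¹, mul_mem (mul_mem hg hy) (inv_mem hg), ?_⟩
  rw [Units.val_mul, Units.val_mul, e, hmat_conj]

theorem Cen.perp_map {v φ w ψ : Fin 3 → F} {g : G3} :
    (φ ᵥ* ((g⁻¹ : G3) : M3)) ⬝ᵥ ((g : M3) *ᵥ w) = φ ⬝ᵥ w := by
  rw [← dotProduct_mulVec, mulVec_mulVec, ← Units.val_mul, inv_mul_cancel, Units.val_one, one_mulVec]

/-- Three admissible invariants with sum three are all one. -/
theorem three_good (h2 : (2 : F) ≠ 0) (h3 : (3 : F) ≠ 0) (h5 : (5 : F) ≠ 0) {a b c : F} (ha : Good a) (hb : Good b) (hc : Good c)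
    (hs : a + b + c = 3) : a = 1 ∧ b = 1 ∧ c = 1 := by
  unfold Good at ha hb hc
  obtain rfl : c = 3 - a - b := by linear_combination hs
  rcases ha with rfl | rfl | ha <;> rcases hb with rfl | rfl | hb <;> rcases hc with e | e | e <;> first
    | grind
    | (rcases mul_eq_zero.1 (show (a - b) * (a + b - 3) = 0 by linear_combination ha - hb) with e' | e' <;> grind)

theorem nine_sum (h : W.ω * W.ω + W.ω + 1 = 0) : (1 : F) + W.ω + W.ω ^ 2 = 0 := by linear_combination h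

variable (h : Hyp W M) {ζ : F} (hζ : ζ ^ 3 = W.ω) {h0 : GL (Fin 3) F} (h0M : h0 ∈ M)
  (h0v : (h0 : Matrix (Fin 3) (Fin 3) F) = ζ • !![1, 0, 0; 0, W.ω, 0; 0, 0, W.ω])
include h hζ h0M h0v

theorem alpha_ne : ζ * W.ω ≠ 0 := mul_ne_zero (fun e => by
  have := W.ne_zero
  rw [← hζ, e] at this
  exact this (zero_pow (by norm_num))) W.ne_zero

theorem h0_hmat : (h0 : M3) = hmat W (ζ * W.ω) (Pi.single 0 1) (Pi.single 0 1) := by
  rw [h0v, hmat]
  ext i j
  fin_cases i <;> fin_cases j <;> simp [vecMulVec_apply] <;> grind [W.cube]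

theorem cen_e0 : Cen W M (ζ * W.ω) (Pi.single 0 1) (Pi.single 0 1) :=
  ⟨by simp, h0, h0M, h0_hmat h hζ h0M h0v⟩

theorem h0_normalizer : h0 ∈ Subgroup.normalizer (W.heis : Set G3) := by
  have hz := W.ne_zero
  refine W.mem_normalizer_of_gens ?_ ?_
  · have : h0 * W.dG = W.dG * h0 := by
      refine Units.ext ?_
      rw [Units.val_mul, Units.val_mul, h0v]
      ext i j; fin_cases i <;> fin_cases j <;> simp [Omega.dG, Matrix.mul_apply, Fin.sum_univ_three] <;> ring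
    rw [this, mul_inv_cancel_right]; exact W.d_mem
  · have : h0 * W.pG = W.zG ^ 2 * W.dG ^ 2 * W.pG * h0 := by
      refine Units.ext ?_
      rw [Units.val_mul, Units.val_mul, Units.val_mul, Units.val_mul, h0v, Omega.z_val, Omega.d_val]
      ext i j; fin_cases i <;> fin_cases j <;>
        simp [Omega.pG, Matrix.mul_apply, Fin.sum_univ_three] <;> grind [W.cube]
    rw [this, mul_inv_cancel_right]
    exact mul_mem (mul_mem (pow_mem W.z_mem 2) (pow_mem W.d_mem 2)) W.p_mem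

theorem nine_cen (a b : ℕ) : Cen W M (ζ * W.ω) ![1, W.ω ^ a, W.ω ^ b]
    ((3 : F)⁻¹ • ![1, (W.ω ^ a) ^ 2, (W.ω ^ b) ^ 2]) ∧
    ∃ g ∈ M ⊓ Subgroup.normalizer (W.heis : Set G3), ∃ c : F, c ≠ 0 ∧
      (g : M3) *ᵥ Pi.single 0 1 = c • ![1, W.ω ^ a, W.ω ^ b] ∧
      (Pi.single 0 1 : Fin 3 → F) ᵥ* ((g⁻¹ : G3) : M3) = c⁻¹ • ((3 : F)⁻¹ • ![1, (W.ω ^ a) ^ 2, (W.ω ^ b) ^ 2]) := by
  have hs := W.s_ne
  have hz0 : ζ ≠ 0 := fun e => alpha_ne h hζ h0M h0v (by rw [e, zero_mul])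
  obtain ⟨j, i, ha, hb⟩ : ∃ j i : ℕ, (i + j) % 3 = a % 3 ∧ (i + 2 * j) % 3 = b % 3 :=
    ⟨b + 2 * a, 2 * a + 2 * b, by omega, by omega⟩
  have hN0 : h0 ∈ M ⊓ Subgroup.normalizer (W.heis : Set G3) :=
    Subgroup.mem_inf.2 ⟨h0M, h0_normalizer h hζ h0M h0v⟩
  set g : G3 := h0 ^ i * W.dG ^ j * W.fG with hg
  have hgN : g ∈ M ⊓ Subgroup.normalizer (W.heis : Set G3) :=
    mul_mem (mul_mem (pow_mem hN0 i) (pow_mem (Subgroup.mem_inf.2 ⟨h.d, W.d_normalizer⟩) j))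
      (Subgroup.mem_inf.2 ⟨h.f, W.f_normalizer⟩)
  have h0p : ∀ n : ℕ, ((h0 ^ n : G3) : M3) = ζ ^ n • !![1, 0, 0; 0, W.ω ^ n, 0; 0, 0, W.ω ^ n] := by
    intro n
    induction n with
    | zero => ext i j; fin_cases i <;> fin_cases j <;> simp
    | succ n ih =>
      rw [pow_succ, Units.val_mul, ih, h0v]
      ext i j; fin_cases i <;> fin_cases j <;> simp [Matrix.mul_apply, Fin.sum_univ_three, pow_succ] <;> ring
  set c : F := ζ ^ i * W.s⁻¹ with hc
  have hc0 : c ≠ 0 := mul_ne_zero (pow_ne_zero _ hz0) (inv_ne_zero hs)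
  have wa : W.ω ^ i * W.ω ^ j = W.ω ^ a := by
    rw [← pow_add, pow_eq_pow_mod (i + j) W.cube, ha, ← pow_eq_pow_mod a W.cube]
  have wb : W.ω ^ i * W.ω ^ (2 * j) = W.ω ^ b := by
    rw [← pow_add, pow_eq_pow_mod (i + 2 * j) W.cube, hb, ← pow_eq_pow_mod b W.cube]
  have h1 : (g : M3) *ᵥ Pi.single 0 1 = c • ![1, W.ω ^ a, W.ω ^ b] := by
    rw [hg, Units.val_mul, Units.val_mul, h0p, Omega.d_val, mulVec_single_one, ← wa, ← wb]
    ext k
    fin_cases k <;> simp [Omega.fG, hc, Matrix.mul_apply, Fin.sum_univ_three] <;> ring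
  have wa3 : (W.ω ^ a) ^ 3 = 1 := by rw [← pow_mul, mul_comm, pow_mul, W.cube, one_pow]
  have wb3 : (W.ω ^ b) ^ 3 = 1 := by rw [← pow_mul, mul_comm, pow_mul, W.cube, one_pow]
  set ψ : Fin 3 → F := c⁻¹ • ((3 : F)⁻¹ • ![1, (W.ω ^ a) ^ 2, (W.ω ^ b) ^ 2]) with hψ
  have h2 : (Pi.single 0 1 : Fin 3 → F) ᵥ* ((g⁻¹ : G3) : M3) = ψ := by
    have e : ψ ᵥ* (g : M3) = Pi.single 0 1 := by
      have h3 := W.three
      rw [hg, Units.val_mul, Units.val_mul, h0p, Omega.d_val]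
      ext k
      fin_cases k <;>
        simp [hψ, hc, Omega.fG, Matrix.vecMul, dotProduct, Matrix.mul_apply, Fin.sum_univ_three, ← wa, ← wb] <;>
        field_simp <;> grind [W.root, Omega.s]
    rw [← e, vecMul_vecMul, ← Units.val_mul, mul_inv_cancel, Units.val_one, vecMul_one]
  refine ⟨?_, g, hgN, c, hc0, h1, h2⟩
  obtain ⟨-, y, hy, e⟩ := (cen_e0 h hζ h0M h0v).map (Subgroup.mem_inf.1 hgN).1
  refine ⟨?_, y, hy, ?_⟩
  · rw [smul_dotProduct, smul_eq_mul]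
    simp only [dotProduct, Fin.sum_univ_three, Matrix.cons_val]
    have h3 := W.three
    field_simp
    linear_combination wa3 + wb3
  · rw [e, h1, h2, hψ, hmat, hmat, smul_comm _ c⁻¹, vecMulVec_smul, smul_vecMulVec, smul_smul c⁻¹,
      inv_mul_cancel₀ hc0, one_smul]

theorem cen_e (i : Fin 3) : Cen W M (ζ * W.ω) (Pi.single i 1) (Pi.single i 1) ∧
    ∃ g ∈ M ⊓ Subgroup.normalizer (W.heis : Set G3),
      (g : M3) *ᵥ Pi.single 0 1 = Pi.single i 1 ∧
      (Pi.single 0 1 : Fin 3 → F) ᵥ* ((g⁻¹ : G3) : M3) = Pi.single i 1 := by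
  set g : G3 := W.pG ^ (i : ℕ) with hg
  have hgN : g ∈ M ⊓ Subgroup.normalizer (W.heis : Set G3) :=
    pow_mem (Subgroup.mem_inf.2 ⟨h.p, W.p_normalizer⟩) _
  have h1 : (g : M3) *ᵥ Pi.single 0 1 = Pi.single i 1 := by
    rw [mulVec_single_one]
    ext k
    fin_cases i <;> fin_cases k <;> simp [hg, Omega.pG, pow_succ, Matrix.mul_apply, Fin.sum_univ_three]
  have h2 : (Pi.single 0 1 : Fin 3 → F) ᵥ* ((g⁻¹ : G3) : M3) = Pi.single i 1 := by
    have e : (Pi.single i 1 : Fin 3 → F) ᵥ* (g : M3) = Pi.single 0 1 := by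
      rw [single_one_vecMul]
      ext k
      fin_cases i <;> fin_cases k <;> simp [hg, Omega.pG, pow_succ, Matrix.mul_apply, Fin.sum_univ_three]
    rw [← e, vecMul_vecMul, ← Units.val_mul, mul_inv_cancel, Units.val_one, vecMul_one]
  refine ⟨?_, g, hgN, h1, h2⟩
  have := (cen_e0 h hζ h0M h0v).map (Subgroup.mem_inf.1 hgN).1
  rwa [h1, h2] at this

theorem five_ne : (5 : F) ≠ 0 := by
  have := h.natCast_ne_zero (n := 5) (by norm_num) fun q hq hd => by
    have := Nat.le_of_dvd (by norm_num) hd; omega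
  exact_mod_cast this

/-- A centre orthogonal to the first coordinate vector is a coordinate vector. -/
theorem cen_in_plane {x ψ : Fin 3 → F} (hc : Cen W M (ζ * W.ω) x ψ) (hx0 : x 0 = 0) (hψ0 : ψ 0 = 0) :
    vecMulVec x ψ = vecMulVec (Pi.single 1 1) (Pi.single 1 1) ∨
      vecMulVec x ψ = vecMulVec (Pi.single 2 1) (Pi.single 2 1) := by
  obtain ⟨hxψ, y, hy, he⟩ := hc
  have hα := alpha_ne h hζ h0M h0v
  obtain ⟨⟨h1v, y1, hy1, e1⟩, -⟩ := cen_e h hζ h0M h0v 1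
  have hsum : x 1 * ψ 1 + x 2 * ψ 2 = 1 := by
    simp [dotProduct, Fin.sum_univ_three, hx0, hψ0] at hxψ
    linear_combination hxψ
  rcases nine_pair h hα hy hy1 he e1 hxψ h1v with e | ⟨ea, eb⟩ | ⟨ea, eb, hG1⟩
  · exact .inl e
  · right
    simp at ea eb
    rw [ea, eb] at hsum
    simp at hsum
    ext i j
    fin_cases i <;> fin_cases j <;> simp [vecMulVec_apply, hx0, hψ0, ea, eb, hsum]
  exfalso
  simp at ea eb hG1
  obtain ⟨⟨h2v, y2, hy2, e2⟩, -⟩ := cen_e h hζ h0M h0v 2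
  have hG2 : x 2 * ψ 2 ≠ 0 := by
    intro hz
    have hg : Good (3 : F) := by
      have : x 1 * ψ 1 = 1 := by linear_combination hsum - hz
      rwa [mul_comm (ψ 1), this, mul_one] at hG1
    have h2 := W.two
    rcases hg with e | e | e
    · exact h2 (by linear_combination e)
    · exact one_ne_zero (α := F) (by linear_combination e)
    · exact one_ne_zero (α := F) (by linear_combination e)
  have h2 := W.two
  have h3 := W.three
  have h5 := five_ne h hζ h0M h0v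
  have hval : ∀ d : ℕ, Good (1 + x 1 * ψ 2 * (W.ω ^ d) + x 2 * ψ 1 * (W.ω ^ d) ^ 2) := by
    intro d
    obtain ⟨⟨hdv, yd, hyd, ed⟩, -⟩ := nine_cen h hζ h0M h0v 0 d
    have w3 : (W.ω ^ d) ^ 3 = 1 := by rw [← pow_mul, mul_comm, pow_mul, W.cube, one_pow]
    rcases nine_pair h hα hy hyd he ed hxψ hdv with e | ⟨ea', eb'⟩ | ⟨-, -, hG⟩
    · exfalso
      have h01 := congrFun (congrFun e 0) 1
      simp [vecMulVec_apply, hx0] at h01
      exact h3 h01.symm
    · exfalso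
      simp [dotProduct, Fin.sum_univ_three, hx0, hψ0, h3] at ea' eb'
      have he12 : x 1 * ψ 1 = x 2 * ψ 2 := by
        grind
      have hhalf : Good (3 / 2 : F) := by
        have : ψ 1 * x 1 = 1 / 2 := by field_simp; linear_combination hsum + he12
        rwa [this, mul_one_div] at hG1
      rcases hhalf with e | e | e
      · field_simp at e; exact one_ne_zero (α := F) (by linear_combination e)
      · field_simp at e; exact one_ne_zero (α := F) (by linear_combination -e)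
      · field_simp at e; exact h5 (by linear_combination -e)
    · convert hG using 1
      simp [dotProduct, Fin.sum_univ_three, hx0, hψ0]
      field_simp
      grind
  have hs := nine_sum W.root
  obtain ⟨t0, t1, t2⟩ := three_good h2 h3 h5 (hval 0) (hval 1) (hval 2) (by
    simp only [pow_zero, pow_one, one_pow, mul_one]
    linear_combination (x 1 * ψ 2 + x 2 * ψ 1) * hs + x 2 * ψ 1 * W.ω * W.cube)
  simp only [pow_zero, pow_one, one_pow, mul_one] at t0 t1 t2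
  have : 3 * (x 1 * ψ 2) = 0 := by
    linear_combination t0 + W.ω ^ 2 * t1 + W.ω * t2 - (x 1 * ψ 2 * 2) * W.cube - (x 2 * ψ 1) * (W.root) -
      x 2 * ψ 1 * (W.ω ^ 2 + W.ω) * W.cube + 0 * hs
  rcases mul_eq_zero.1 ((mul_eq_zero.1 this).resolve_left h3) with e | e
  · exact eb (by grind)
  · exact hG2 (by rw [e, mul_zero])

/-- Every centre is one of the twelve. -/
theorem cen_mem_twelve {x ψ : Fin 3 → F} (hc : Cen W M (ζ * W.ω) x ψ) :
    ∃ g ∈ M ⊓ Subgroup.normalizer (W.heis : Set G3),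
      vecMulVec x ψ = vecMulVec ((g : M3) *ᵥ Pi.single 0 1) ((Pi.single 0 1 : Fin 3 → F) ᵥ* ((g⁻¹ : G3) : M3)) := by
  have hα := alpha_ne h hζ h0M h0v
  have hplane : ∀ g ∈ M ⊓ Subgroup.normalizer (W.heis : Set G3),
      ((Pi.single 0 1 : Fin 3 → F) ᵥ* ((g⁻¹ : G3) : M3)) ⬝ᵥ x = 0 → ψ ⬝ᵥ ((g : M3) *ᵥ Pi.single 0 1) = 0 →
      ∃ g' ∈ M ⊓ Subgroup.normalizer (W.heis : Set G3),
      vecMulVec x ψ = vecMulVec ((g' : M3) *ᵥ Pi.single 0 1) ((Pi.single 0 1 : Fin 3 → F) ᵥ* ((g'⁻¹ : G3) : M3)) := by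
    intro g hg ea eb
    have hc' := hc.map (inv_mem (Subgroup.mem_inf.1 hg).1)
    rw [inv_inv] at hc'
    have e0 : (((g⁻¹ : G3) : M3) *ᵥ x) 0 = 0 := by
      rw [← single_one_dotProduct (v := ((g⁻¹ : G3) : M3) *ᵥ x) (i := 0), dotProduct_mulVec]; exact ea
    have e0' : (ψ ᵥ* (g : M3)) 0 = 0 := by
      rw [← dotProduct_single_one (v := ψ ᵥ* (g : M3)) (i := 0), ← dotProduct_mulVec]; exact eb
    have main : ∀ i : Fin 3, vecMulVec (((g⁻¹ : G3) : M3) *ᵥ x) (ψ ᵥ* (g : M3)) =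
          vecMulVec (Pi.single i 1) (Pi.single i 1) →
        ∃ g' ∈ M ⊓ Subgroup.normalizer (W.heis : Set G3),
        vecMulVec x ψ = vecMulVec ((g' : M3) *ᵥ Pi.single 0 1) ((Pi.single 0 1 : Fin 3 → F) ᵥ* ((g'⁻¹ : G3) : M3)) := by
      intro i e
      obtain ⟨-, k, hk, hk1, hk2⟩ := cen_e h hζ h0M h0v i
      refine ⟨g * k, mul_mem hg hk, ?_⟩
      have := congrArg (fun Z => (g : M3) * Z * ((g⁻¹ : G3) : M3)) e
      simp only [mul_vecMulVec, vecMulVec_mul, mulVec_mulVec, vecMul_vecMul, ← Units.val_mul, mul_inv_cancel,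
        Units.val_one, one_mulVec, vecMul_one] at this
      rw [this, _root_.mul_inv_rev, Units.val_mul g k, Units.val_mul k⁻¹, ← mulVec_mulVec, hk1, ← vecMul_vecMul, hk2]
    rcases cen_in_plane h hζ h0M h0v hc' e0 e0' with e | e
    exacts [main 1 e, main 2 e]
  by_contra hcon
  obtain ⟨hxψ, y, hy, he⟩ := hc
  have coord : ∀ i, Good (3 * (x i * ψ i)) := by
    intro i
    obtain ⟨⟨hv, y', hy', e'⟩, g, hg, hg1, hg2⟩ := cen_e h hζ h0M h0v i
    rcases nine_pair h hα hy hy' he e' hxψ hv with e | ⟨ea, eb⟩ | ⟨-, -, hG⟩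
    · exact absurd ⟨g, hg, by rw [hg1, hg2]; exact e⟩ hcon
    · exact absurd (hplane g hg (by rw [hg2]; exact eb) (by rw [hg1]; exact ea)) hcon
    · convert hG using 2
      simp
      ring
  have nine : ∀ a b : ℕ, Good ((x 0 + (W.ω ^ a) ^ 2 * x 1 + (W.ω ^ b) ^ 2 * x 2) *
      (ψ 0 + W.ω ^ a * ψ 1 + W.ω ^ b * ψ 2)) := by
    intro a b
    obtain ⟨⟨hv, y', hy', e'⟩, g, hg, c, hc0, hg1, hg2⟩ := nine_cen h hζ h0M h0v a b
    rcases nine_pair h hα hy hy' he e' hxψ hv with e | ⟨ea, eb⟩ | ⟨-, -, hG⟩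
    · refine absurd ⟨g, hg, ?_⟩ hcon
      rw [hg1, hg2, e, smul_vecMulVec, vecMulVec_smul, vecMulVec_smul, vecMulVec_smul, smul_smul c, mul_inv_cancel₀ hc0, one_smul]
    · refine absurd (hplane g hg ?_ ?_) hcon
      · rw [hg2, smul_dotProduct, eb, smul_zero]
      · rw [hg1, dotProduct_smul, ea, smul_zero]
    · convert hG using 1
      have h3 := W.three
      simp [dotProduct, Fin.sum_univ_three]
      field_simp
  have h2 := W.two
  have h3 := W.three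
  have h5 := five_ne h hζ h0M h0v
  have hs := nine_sum W.root
  simp [dotProduct, Fin.sum_univ_three] at hxψ
  obtain ⟨c0, c1, c2⟩ := three_good h2 h3 h5 (coord 0) (coord 1) (coord 2) (by linear_combination 3 * hxψ)
  have hω3 := W.cube
  have frame : ∀ a b : ℕ,
      (x 0 + (W.ω ^ a) ^ 2 * x 1 + (W.ω ^ b) ^ 2 * x 2) * (ψ 0 + W.ω ^ a * ψ 1 + W.ω ^ b * ψ 2) = 1 := by
    intro a b
    refine (three_good h2 h3 h5 (nine a b) (nine (a + 1) (b + 2)) (nine (a + 2) (b + 1)) ?_).1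
    have wa : (W.ω ^ a) ^ 3 = 1 := by rw [← pow_mul, mul_comm, pow_mul, W.cube, one_pow]
    have wb : (W.ω ^ b) ^ 3 = 1 := by rw [← pow_mul, mul_comm, pow_mul, W.cube, one_pow]
    simp only [pow_add]
    grind
  have f00 := frame 0 0
  have f01 := frame 0 1
  have f02 := frame 0 2
  have f10 := frame 1 0
  have f11 := frame 1 1
  have f12 := frame 1 2
  have f20 := frame 2 0
  have f21 := frame 2 1
  have f22 := frame 2 2
  simp only [pow_zero, pow_one, one_pow, one_mul] at f00 f01 f02 f10 f11 f12 f20 f21 f22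
  have key : 9 * (x 1 * ψ 0) = 0 := by
    linear_combination f00 + f01 + f02 + W.ω * (f10 + f11 + f12) + W.ω ^ 2 * (f20 + f21 + f22) +
      ((3) + (-1) * (x 2) * (ψ 2) + (-1) * (x 2) * (ψ 1) + (-1) * (x 2) * (ψ 0) + (-1) * (x 1) * (ψ 2) + (-3) * (x 1) * (ψ 1) + (6) * (x 1) * (ψ 0) + (-1) * (x 0) * (ψ 2) + (-3) * (x 0) * (ψ 1) + (-3) * (x 0) * (ψ 0) + (1) * (W.ω) * (x 2) * (ψ 1) + (3) * (W.ω) * (x 1) * (ψ 1) + (-6) * (W.ω) * (x 1) * (ψ 0) + (-1) * (W.ω) * (x 0) * (ψ 2) + (3) * (W.ω) * (x 0) * (ψ 1) + (-2) * (W.ω) ^ 2 * (x 2) * (ψ 1) + (-1) * (W.ω) ^ 2 * (x 2) * (ψ 0) + (-1) * (W.ω) ^ 2 * (x 0) * (ψ 2) + (-3) * (W.ω) ^ 2 * (x 0) * (ψ 1) + (-1) * (W.ω) ^ 3 * (x 2) * (ψ 2) + (1) * (W.ω) ^ 3 * (x 2) * (ψ 1) + (-1) * (W.ω) ^ 3 * (x 1) * (ψ 2) + (-3) * (W.ω) ^ 3 * (x 1) * (ψ 1) + (3) * (W.ω) ^ 3 * (x 1) * (ψ 0) + (-2) * (W.ω) ^ 4 * (x 2) * (ψ 1) + (-1) * (W.ω) ^ 4 * (x 2) * (ψ 0) + (-3) * (W.ω) ^ 4 * (x 1) * (ψ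 0) + (1) * (W.ω) ^ 5 * (x 2) * (ψ 1) + (3) * (W.ω) ^ 5 * (x 1) * (ψ 1) + (-1) * (W.ω) ^ 6 * (x 2) * (ψ 2) + (-1) * (W.ω) ^ 6 * (x 2) * (ψ 1) + (-1) * (W.ω) ^ 6 * (x 1) * (ψ 2) + (-3) * (W.ω) ^ 6 * (x 1) * (ψ 1)) * W.root
  have h9 : (9 : F) ≠ 0 := by
    rw [show (9 : F) = 3 * 3 by norm_num]; exact mul_ne_zero h3 h3
  rcases mul_eq_zero.1 ((mul_eq_zero.1 key).resolve_left h9) with e | e
  · rw [e] at c1; simp at c1
  · rw [e] at c0; simp at c0

/-- With a ninth root of unity, the Heisenberg group is normal. -/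
theorem le_normalizer_of_ninth : M ≤ Subgroup.normalizer (W.heis : Set G3) := by
  classical
  set N := M ⊓ Subgroup.normalizer (W.heis : Set G3) with hN
  set E : Set G3 := {t | ∃ g ∈ N, g * h0 * g⁻¹ = t} with hE
  have hEM : ∀ t ∈ E, ∀ x ∈ M, x * t * x⁻¹ ∈ E := by
    rintro _ ⟨k, hk, rfl⟩ x hx
    have hkM := (Subgroup.mem_inf.1 hk).1
    obtain ⟨g, hg, e⟩ := cen_mem_twelve h hζ h0M h0v ((cen_e0 h hζ h0M h0v).map (mul_mem hx hkM))
    refine ⟨g, hg, ?_⟩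
    have hconj : ∀ g : G3, ((g * h0 * g⁻¹ : G3) : M3) = hmat W (ζ * W.ω) ((g : M3) *ᵥ Pi.single 0 1)
        ((Pi.single 0 1 : Fin 3 → F) ᵥ* ((g⁻¹ : G3) : M3)) := fun g => by
      rw [Units.val_mul, Units.val_mul, h0_hmat h hζ h0M h0v, hmat_conj]
    refine Units.ext ?_
    rw [hconj, show x * (k * h0 * k⁻¹) * x⁻¹ = x * k * h0 * (x * k)⁻¹ by group, hconj, hmat, hmat, vecMulVec_smul,
      vecMulVec_smul, e]
  set Δ : Set G3 := {t | ∃ y ∈ E, ∃ y' ∈ E, y * y' = y' * y ∧ t = y * y'⁻¹} with hΔ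
  have hΔM : ∀ t ∈ Δ, ∀ x ∈ M, x * t * x⁻¹ ∈ Δ := by
    rintro _ ⟨y, hy, y', hy', hc, rfl⟩ x hx
    refine ⟨_, hEM y hy x hx, _, hEM y' hy' x hx, ?_, by group⟩
    rw [show x * y * x⁻¹ * (x * y' * x⁻¹) = x * (y * y') * x⁻¹ by group, hc]; group
  have hd1 : ∀ i : Fin 3, ∀ g : G3, (g : M3) = hmat W (ζ * W.ω) (Pi.single i 1) (Pi.single i 1) →
      h0 * g⁻¹ ∈ W.heis ∧ h0 * g = g * h0 := by
    intro i g hg
    have hcm : h0 * g = g * h0 := by
      refine Units.ext ?_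
      rw [Units.val_mul, Units.val_mul, hg, h0_hmat h hζ h0M h0v]
      ext a b
      fin_cases i <;> fin_cases a <;> fin_cases b <;> simp [hmat, Matrix.mul_apply, Fin.sum_univ_three, vecMulVec_apply] <;> ring
    refine ⟨?_, hcm⟩
    have hz := W.ne_zero
    obtain ⟨k, b, hkb⟩ : ∃ k b : ℕ, (h0 : M3) = ((W.zG ^ k * W.dG ^ b : G3) : M3) * (g : M3) := by
      fin_cases i
      · exact ⟨0, 0, by rw [hg, h0_hmat h hζ h0M h0v]; simp⟩
      · refine ⟨2, 2, ?_⟩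
        rw [hg, h0v, Units.val_mul, Omega.z_val, Omega.d_val, hmat]
        ext a b
        fin_cases a <;> fin_cases b <;>
          simp [Matrix.mul_apply, Fin.sum_univ_three, vecMulVec_apply] <;> grind [W.cube, W.root]
      · refine ⟨2, 1, ?_⟩
        rw [hg, h0v, Units.val_mul, Omega.z_val, Omega.d_val, hmat]
        ext a b
        fin_cases a <;> fin_cases b <;>
          simp [Matrix.mul_apply, Fin.sum_univ_three, vecMulVec_apply] <;> grind [W.cube, W.root]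
    have e : h0 = W.zG ^ k * W.dG ^ b * g := Units.ext (by rw [hkb, Units.val_mul (W.zG ^ k * W.dG ^ b)])
    rw [e, mul_inv_cancel_right]
    exact mul_mem (pow_mem W.z_mem k) (pow_mem W.d_mem b)
  have hΔh : Δ ⊆ (W.heis : Set G3) := by
    rintro _ ⟨_, ⟨g, hg, rfl⟩, y', hy', hc, rfl⟩
    have hgn := (Subgroup.mem_inf.1 hg).2
    have hgM := (Subgroup.mem_inf.1 hg).1
    set y'' := g⁻¹ * y' * g with hy''
    have hy''E : y'' ∈ E := by
      have := hEM y' hy' g⁻¹ (inv_mem hgM)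
      rwa [inv_inv] at this
    have hcomm : y'' * h0 = h0 * y'' := by
      rw [hy'', show g⁻¹ * y' * g * h0 = g⁻¹ * (y' * (g * h0 * g⁻¹)) * g by group, ← hc]; group
    have hmem : h0 * y''⁻¹ ∈ W.heis := by
      obtain ⟨k, hk, hk'⟩ := hy''E
      have hkM := (Subgroup.mem_inf.1 hk).1
      set v := (k : M3) *ᵥ Pi.single 0 1
      set φ := (Pi.single 0 1 : Fin 3 → F) ᵥ* ((k⁻¹ : G3) : M3)
      have hCen : Cen W M (ζ * W.ω) v φ := (cen_e0 h hζ h0M h0v).map hkM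
      have hval : (y'' : M3) = hmat W (ζ * W.ω) v φ := by
        rw [← hk', Units.val_mul, Units.val_mul, h0_hmat h hζ h0M h0v, hmat_conj]
      obtain ⟨⟨he0, -⟩, -⟩ := cen_e h hζ h0M h0v 0
      obtain ⟨hvφ, -⟩ := hCen
      have hy''M : y'' ∈ M := hk' ▸ mul_mem (mul_mem hkM h0M) (inv_mem hkM)
      rcases nine_pair h (alpha_ne h hζ h0M h0v) h0M hy''M (h0_hmat h hζ h0M h0v) hval he0 hvφ with e | ⟨ea, eb⟩ | ⟨ea, eb, -⟩
      · refine (hd1 0 y'' ?_).1
        rw [hval, hmat, hmat, vecMulVec_smul, vecMulVec_smul, e]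
      · simp at ea eb
        rcases cen_in_plane h hζ h0M h0v ((cen_e0 h hζ h0M h0v).map hkM) ea eb with e | e
        · refine (hd1 1 y'' ?_).1
          rw [hval, hmat, hmat, vecMulVec_smul, vecMulVec_smul, e]
        · refine (hd1 2 y'' ?_).1
          rw [hval, hmat, hmat, vecMulVec_smul, vecMulVec_smul, e]
      · have e := congrArg Units.val hcomm
        rw [Units.val_mul y'' h0, Units.val_mul h0 y'', hval, h0v] at e
        have hω1 := W.ne_one
        have hk1 := W.sq_ne_one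
        have hα := alpha_ne h hζ h0M h0v
        simp at ea eb
        have hζ0 : ζ ≠ 0 := fun e0 => hα (by rw [e0, zero_mul])
        have e01 := congrFun (congrFun e 0) 1
        have e02 := congrFun (congrFun e 0) 2
        have e10 := congrFun (congrFun e 1) 0
        have e20 := congrFun (congrFun e 2) 0
        simp [hmat, Matrix.mul_apply, Fin.sum_univ_three, vecMulVec_apply] at e01 e02 e10 e20
        have f1 : φ 1 = 0 := by
          have : (ζ * W.ω) * ((W.ω ^ 2 - 1) * φ 1 * v 0) * ζ * (W.ω - 1) = 0 := by linear_combination e01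
          simpa [hα, hζ0, sub_eq_zero, hω1, hk1, ea] using this
        have f2 : φ 2 = 0 := by
          have : (ζ * W.ω) * ((W.ω ^ 2 - 1) * φ 2 * v 0) * ζ * (W.ω - 1) = 0 := by linear_combination e02
          simpa [hα, hζ0, sub_eq_zero, hω1, hk1, ea] using this
        have g1 : v 1 = 0 := by
          have : (ζ * W.ω) * ((W.ω ^ 2 - 1) * φ 0 * v 1) * ζ * (W.ω - 1) = 0 := by linear_combination -e10
          simpa [hα, hζ0, sub_eq_zero, hω1, hk1, eb] using this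
        have g2 : v 2 = 0 := by
          have : (ζ * W.ω) * ((W.ω ^ 2 - 1) * φ 0 * v 2) * ζ * (W.ω - 1) = 0 := by linear_combination -e20
          simpa [hα, hζ0, sub_eq_zero, hω1, hk1, eb] using this
        simp [dotProduct, Fin.sum_univ_three, f1, f2, g1, g2] at hvφ
        refine (hd1 0 y'' ?_).1
        rw [hval, hmat, hmat]
        congr 2
        ext a b
        fin_cases a <;> fin_cases b <;> simp [vecMulVec_apply, f1, f2, g1, g2]
        linear_combination (W.ω ^ 2 - 1) * hvφ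
    have : g * (h0 * y''⁻¹) * g⁻¹ = g * h0 * g⁻¹ * y'⁻¹ := by rw [hy'']; group
    rw [← this]
    exact (Subgroup.mem_normalizer_iff.1 hgn _).1 hmem
  -- the differences generate
  have hcl : Subgroup.closure Δ = W.heis := by
    refine le_antisymm ((Subgroup.closure_le _).2 hΔh) ?_
    obtain ⟨-, g1, hg1, e1, e1'⟩ := cen_e h hζ h0M h0v 1
    have hy1 : g1 * h0 * g1⁻¹ ∈ E := ⟨g1, hg1, rfl⟩
    have hv1 : ((g1 * h0 * g1⁻¹ : G3) : M3) = hmat W (ζ * W.ω) (Pi.single 1 1) (Pi.single 1 1) := by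
      rw [Units.val_mul, Units.val_mul, h0_hmat h hζ h0M h0v, hmat_conj, e1, e1']
    have hq : W.zG ^ 2 * W.dG ^ 2 ∈ Δ := by
      refine ⟨h0, ⟨1, one_mem _, by simp⟩, _, hy1, (hd1 1 _ hv1).2, ?_⟩
      rw [eq_mul_inv_iff_mul_eq]
      refine Units.ext ?_
      rw [Units.val_mul (W.zG ^ 2 * W.dG ^ 2), hv1, h0v, Units.val_mul, Omega.z_val, Omega.d_val, hmat]
      have hz := W.ne_zero
      ext a b
      fin_cases a <;> fin_cases b <;>
        simp [Matrix.mul_apply, Fin.sum_univ_three, vecMulVec_apply] <;> grind [W.cube, W.root]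
    have hq' : W.fG * (W.zG ^ 2 * W.dG ^ 2) * W.fG⁻¹ ∈ Δ := hΔM _ hq _ h.f
    have hfd : W.fG * W.dG ^ 2 * W.fG⁻¹ = W.pG := by
      rw [← conj_pow, W.fG_conj_d, mul_inv_cancel_right, ← pow_mul, pow_eq_pow_mod (2 * 2) W.p_pow_three, pow_one]
    have hfz : W.fG * (W.zG ^ 2 * W.dG ^ 2) * W.fG⁻¹ = W.zG ^ 2 * W.pG := by
      rw [← mul_assoc W.fG, ← (Commute.pow_left (W.zG_comm W.fG) 2).eq, mul_assoc (W.zG ^ 2),
        mul_assoc (W.zG ^ 2), hfd]
    set C := Subgroup.closure Δ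
    have m1 : W.zG ^ 2 * W.dG ^ 2 ∈ C := Subgroup.subset_closure hq
    have m2 : W.zG ^ 2 * W.pG ∈ C := hfz ▸ Subgroup.subset_closure hq'
    have hz : W.zG ∈ C := by
      have hcm : (W.zG ^ 2 * W.dG ^ 2) * (W.zG ^ 2 * W.pG) * ((W.zG ^ 2 * W.pG) * (W.zG ^ 2 * W.dG ^ 2))⁻¹ =
          W.zG ^ 2 := by
        rw [mul_inv_eq_iff_eq_mul]
        refine Units.ext ?_
        simp only [Units.val_mul, Omega.z_val, Omega.d_val]
        ext a b
        fin_cases a <;> fin_cases b <;>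
          simp [Omega.pG, Matrix.mul_apply, Fin.sum_univ_three] <;> grind [W.cube]
      have h2 : W.zG ^ 2 ∈ C := hcm ▸ mul_mem (mul_mem m1 m2) (inv_mem (mul_mem m2 m1))
      have := mul_mem h2 h2
      rwa [← pow_add, pow_succ, W.z_pow_three, one_mul] at this
    rw [Omega.heis, Subgroup.closure_le]
    rintro x (rfl | rfl)
    · have h2 : W.dG ^ 2 ∈ C := (mul_mem_cancel_left (pow_mem hz 2)).1 m1
      have := mul_mem h2 h2
      rwa [← pow_add, pow_succ, W.d_pow_three, one_mul] at this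
    · exact (mul_mem_cancel_left (pow_mem hz 2)).1 m2
  intro x hx
  rw [← hcl]
  have hle : ∀ x ∈ M, ∀ t ∈ Subgroup.closure Δ, x * t * x⁻¹ ∈ Subgroup.closure Δ := by
    intro x hx t ht
    have : (Subgroup.closure Δ).map (MulAut.conj x).toMonoidHom ≤ Subgroup.closure Δ := by
      rw [MonoidHom.map_closure]
      refine Subgroup.closure_mono ?_
      rintro _ ⟨s, hs, rfl⟩
      exact hΔM s hs x hx
    exact this ⟨t, ht, rfl⟩
  refine Subgroup.mem_normalizer_iff.2 fun t => ⟨hle x hx t, fun ht => ?_⟩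
  have := hle x⁻¹ (inv_mem hx) _ ht
  rwa [show x⁻¹ * (x * t * x⁻¹) * x⁻¹⁻¹ = t by group] at this

end CfsgLib.Classical.GeoThree.C6
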