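import Cfsg.Agent.Lib.Classical.GeoThree.C6.ClassEq
import Cfsg.Agent.Lib.Classical.GeoThree.C6.Nine

/-!
# Transvection-free overgroups of the normaliser of the Heisenberg group
-/

set_option autoImplicit false
set_option linter.unusedSectionVars false
set_option linter.style.haveILetI false
set_option backward.isDefEq.respectTransparency false

open Matrix

namespace CfsgLib.Classical.GeoThree.C6

variable {F : Type*} [Field F] [Finite F] {M : Subgroup (GL (Fin 3) F)} {W : Omega F}

/-- A transvection-free group containing the special normaliser of the Heisenberg group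
normalises it. -/
theorem le_normalizer_heis (h : Hyp W M)
    (hnine : ∀ ζ : F, ζ ^ 3 = W.ω →
      ∃ g ∈ M, (g : Matrix (Fin 3) (Fin 3) F) = ζ • !![1, 0, 0; 0, W.ω, 0; 0, 0, W.ω]) :
    M ≤ Subgroup.normalizer (W.heis : Set (GL (Fin 3) F)) := by
  haveI : Fact ((2 : F) ≠ 0) := ⟨W.two⟩
  by_cases h9 : ∀ ζ : F, ζ ^ 3 ≠ W.ω
  · exact le_normalizer_of_no_ninth h h9
  · push Not at h9
    obtain ⟨ζ, hζ⟩ := h9
    obtain ⟨g, hg, hgv⟩ := hnine ζ hζ
    exact le_normalizer_of_ninth h hζ hg hgv

end CfsgLib.Classical.GeoThree.C6
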