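import Cfsg.Agent.Lib.Classical.GeoThree.C6.NoHom

/-!
# Two homologies of order three
-/

set_option autoImplicit false
set_option linter.unusedSectionVars false
set_option linter.style.haveILetI false
set_option backward.isDefEq.respectTransparency false

open Matrix

namespace CfsgLib.Classical.GeoThree.C6

variable {F : Type*} [Field F] [Finite F] [Fact ((2 : F) ≠ 0)]
  {M : Subgroup (GL (Fin 3) F)} {W : Omega F}

local notation "M3" => Matrix (Fin 3) (Fin 3) F
local notation "G3" => GL (Fin 3) F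
local notation "M2" => Matrix (Fin 2) (Fin 2) F

/-- The admissible non-zero invariants (three times the cross ratio). -/
def Good (s : F) : Prop := s = 1 ∨ s = 2 ∨ s ^ 2 - 3 * s + 1 = 0

theorem good_of_orders (h3 : (3 : F) ≠ 0) (h5 : (5 : F) ≠ 0) (h2 : (2 : F) ≠ 0) {r : F}
    (e1 : r = 0 ∨ r ^ 2 = 1 ∨ r ^ 4 - 3 * r ^ 2 + 1 = 0)
    (e2 : 1 - r = 0 ∨ (1 - r) ^ 2 = 1 ∨ (1 - r) ^ 4 - 3 * (1 - r) ^ 2 + 1 = 0) :
    r = 0 ∨ r = 1 ∨ r ^ 2 - r - 1 = 0 := by
  by_contra hcon
  push Not at hcon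
  obtain ⟨r0, r1, r2⟩ := hcon
  have hr : r = -1 ∨ r ^ 2 + r - 1 = 0 := by
    rcases e1 with e | e | e
    · exact absurd e r0
    · exact .inl ((sq_eq_one_iff.1 e).resolve_left r1)
    · exact .inr ((mul_eq_zero.1 (show (r ^ 2 - r - 1) * (r ^ 2 + r - 1) = 0 by linear_combination e)).resolve_left r2)
  rcases hr with rfl | hr
  · rcases e2 with e | e | e
    · exact h2 (by linear_combination e)
    · exact h3 (by linear_combination e)
    · exact h5 (by linear_combination e)
  rcases e2 with e | e | e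
  · exact r1 (by linear_combination -e)
  · have : r * (r - 2) = 0 := by linear_combination e
    rcases mul_eq_zero.1 this with e' | e'
    · exact r0 e'
    · exact h5 (by linear_combination hr - (r + 3) * e')
  · rcases mul_eq_zero.1 (show (r ^ 2 - r - 1) * (r ^ 2 - 3 * r + 1) = 0 by linear_combination e) with e' | e'
    · exact r2 e'
    · have h : 2 * (2 * r - 1) = 0 := by linear_combination hr - e'
      have h' : 2 * r - 1 = 0 := (mul_eq_zero.1 h).resolve_left h2
      exact one_ne_zero (α := F) (by linear_combination (2 * r + 3) * h' - 4 * hr)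

/-- `α (1 + (ω² - 1) v φ)`. -/
def hmat (W : Omega F) (α : F) (v φ : Fin 3 → F) : Matrix (Fin 3) (Fin 3) F :=
  α • (1 + vecMulVec v ((W.ω ^ 2 - 1) • φ))

/-- The data of two homologies of order three. -/
theorem nine_pair (h : Hyp W M) {α : F} (hα : α ≠ 0) {y y' : G3} {u φ v ψ : Fin 3 → F}
    (hy : y ∈ M) (hy' : y' ∈ M) (hyf : (y : M3) = hmat W α u φ) (hy'f : (y' : M3) = hmat W α v ψ)
    (hu : φ ⬝ᵥ u = 1) (hv : ψ ⬝ᵥ v = 1) :
    vecMulVec u φ = vecMulVec v ψ ∨ (φ ⬝ᵥ v = 0 ∧ ψ ⬝ᵥ u = 0) ∨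
      (φ ⬝ᵥ v ≠ 0 ∧ ψ ⬝ᵥ u ≠ 0 ∧ Good (3 * ((φ ⬝ᵥ v) * (ψ ⬝ᵥ u)))) := by
  set k : F := W.ω ^ 2 - 1 with hk
  set m : F := W.ω ^ 2 with hm
  have hk0 : k ≠ 0 := sub_ne_zero.2 W.sq_ne_one
  have hm0 : m ≠ 0 := pow_ne_zero _ W.ne_zero
  have hm1 : m ≠ -1 := fun e => by
    have := W.root
    rw [hm] at e
    exact W.ne_zero (by linear_combination this - e)
  have hm2 : m * m ≠ 1 := fun e => W.ne_one (by
    rw [hm] at e
    linear_combination e - W.ω * W.cube)
  have hu0 : u ≠ 0 := fun e => by simp [e] at hu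
  have hv0 : v ≠ 0 := fun e => by simp [e] at hv
  have hφ0 : φ ≠ 0 := fun e => by simp [e] at hu
  set a := φ ⬝ᵥ v with ha
  set b := ψ ⬝ᵥ u with hb
  have hkm : k = m - 1 := rfl
  -- equal centres
  by_cases hindv : ∃ c : F, v = c • u
  · obtain ⟨c, hc⟩ := hindv
    left
    have hcb : c * b = 1 := by rw [← hv, hc, dotProduct_smul, smul_eq_mul]
    have hperp : (c • ψ - φ) ⬝ᵥ (k • u) = 0 := by
      rw [sub_dotProduct, smul_dotProduct, dotProduct_smul, dotProduct_smul, ← hb, hu, smul_eq_mul, smul_eq_mul,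
        smul_eq_mul]
      linear_combination k * hcb
    have heq : trGL (k • u) (c • ψ - φ) hperp = y' * y⁻¹ := by
      rw [eq_mul_inv_iff_mul_eq]
      refine Units.ext (Matrix.ext_iff_mulVec.2 fun x => ?_)
      rw [Units.val_mul, ← mulVec_mulVec, hy'f, hyf, trGL_mulVec, hc]
      simp only [hmat, smul_mulVec, add_mulVec, one_mulVec, vecMulVec_mulVec, op_smul_eq_smul, dotProduct_smul,
        dotProduct_add, sub_dotProduct, smul_dotProduct, smul_eq_mul, hu, ← hb, ← hk]
      match_scalars <;> first | ring1 | linear_combination (α * k * k * (φ ⬝ᵥ x)) * hcb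
    rcases h.noTr _ _ hperp (heq ▸ M.mul_mem hy' (M.inv_mem hy)) with e | e
    · exact absurd ((smul_eq_zero.1 e).resolve_left hk0) hu0
    · rw [hc, smul_vecMulVec, ← sub_eq_zero.1 e, vecMulVec_smul]
  push Not at hindv
  right
  have P : Pair M y y' α k m u v (k • φ) (k • ψ) :=
    ⟨hy, hy', hα, hyf, hy'f, by rw [smul_dotProduct, hu, smul_eq_mul, mul_one],
      by rw [smul_dotProduct, hv, smul_eq_mul, mul_one], hk0, by rw [hkm]; ring, hm0, hm1, hm2, hu0,
      smul_ne_zero hk0 hφ0, hindv⟩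
  -- proportional axes
  have hind2 : ∀ c : F, ψ ≠ c • φ := by
    intro c e
    have hca : c * a = 1 := by rw [← hv, e, smul_dotProduct, smul_eq_mul]
    have hperp : φ ⬝ᵥ ((k * m⁻¹) • (c • v - u)) = 0 := by
      rw [dotProduct_smul, dotProduct_sub, dotProduct_smul, ← ha, hu, smul_eq_mul, smul_eq_mul, hca, sub_self,
        mul_zero]
    have heq : trGL ((k * m⁻¹) • (c • v - u)) φ hperp = y' * y⁻¹ := by
      rw [eq_mul_inv_iff_mul_eq]
      refine Units.ext (Matrix.ext_iff_mulVec.2 fun x => ?_)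
      rw [Units.val_mul, ← mulVec_mulVec, hy'f, hyf, trGL_mulVec, e]
      simp only [hmat, smul_mulVec, add_mulVec, one_mulVec, vecMulVec_mulVec, op_smul_eq_smul, dotProduct_smul,
        dotProduct_add, smul_dotProduct, smul_eq_mul, hu, ← hk]
      match_scalars <;> field_simp <;> rw [hkm] <;> ring
    rcases h.noTr _ _ hperp (heq ▸ M.mul_mem hy' (M.inv_mem hy)) with e1 | e1
    · rw [smul_eq_zero, sub_eq_zero] at e1
      refine hindv a ?_
      rw [← e1.resolve_left (mul_ne_zero hk0 (inv_ne_zero hm0)), smul_smul, mul_comm, hca, one_smul]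
    · exact hφ0 e1
  have hind2' : ∀ c : F, k • ψ ≠ c • (k • φ) := fun c e =>
    hind2 c (smul_right_injective _ hk0 (by simpa only [smul_comm k c] using e))
  -- one-sided incidence
  have oneSided : ∀ {y y' : G3} {u φ v ψ : Fin 3 → F}, y ∈ M → y' ∈ M → (y : M3) = hmat W α u φ →
      (y' : M3) = hmat W α v ψ → φ ⬝ᵥ u = 1 → ψ ⬝ᵥ v = 1 → ψ ⬝ᵥ u = 0 → φ ⬝ᵥ v ≠ 0 → False := by
    intro y y' u φ v ψ hy hy' hyf hy'f hu hv hb0 ha0
    set a := φ ⬝ᵥ v with ha
    have hψ0 : ψ ≠ 0 := fun e => by simp [e] at hv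
    have hu0 : u ≠ 0 := fun e => by simp [e] at hu
    have hfv : ψ ⬝ᵥ ((k * k * a / m) • u) = 0 := by rw [dotProduct_smul, hb0, smul_zero]
    have heq : trGL ((k * k * a / m) • u) ψ hfv = y * y' * (y' * y)⁻¹ := by
      rw [eq_mul_inv_iff_mul_eq]
      refine Units.ext (Matrix.ext_iff_mulVec.2 fun x => ?_)
      simp only [Units.val_mul, ← mulVec_mulVec, hyf, hy'f, hmat, ← hk, trGL_mulVec, smul_mulVec, add_mulVec,
        one_mulVec, vecMulVec_mulVec, op_smul_eq_smul, dotProduct_smul, dotProduct_add, smul_dotProduct,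
        smul_eq_mul, hu, hv, hb0, ← ha]
      match_scalars <;> field_simp <;> (try rw [hkm]) <;> ring
    rcases h.noTr _ _ hfv (heq ▸ M.mul_mem (M.mul_mem hy hy') (M.inv_mem (M.mul_mem hy' hy))) with e1 | e1
    · rw [smul_eq_zero, div_eq_zero_iff] at e1
      rcases e1 with (e1 | e1) | e1
      exacts [mul_ne_zero (mul_ne_zero hk0 hk0) ha0 e1, hm0 e1, hu0 e1]
    · exact hψ0 e1
  by_cases ha0 : a = 0
  · by_cases hb0 : b = 0
    · exact .inl ⟨ha0, hb0⟩
    · exact (oneSided hy' hy hy'f hyf hv hu ha0 hb0).elim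
  by_cases hb0 : b = 0
  · exact (oneSided hy hy' hyf hy'f hu hv hb0 ha0).elim
  refine .inr ⟨ha0, hb0, ?_⟩
  have hA0 : k * a ≠ 0 := mul_ne_zero hk0 ha0
  have hB0 : k * b ≠ 0 := mul_ne_zero hk0 hb0
  have hAe : k * a = (k • φ) ⬝ᵥ v := by rw [smul_dotProduct, smul_eq_mul]
  have hBe : k * b = (k • ψ) ⬝ᵥ u := by rw [smul_dotProduct, smul_eq_mul]
  by_cases hab : (k * a) * (k * b) = k * k
  · exact (P.false_of_tangent h hAe hBe hA0 hB0 hab hind2').elim
  -- the plane of the centres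
  set A := k * a with hA
  set B' := k * b with hB'
  obtain ⟨w, hw1, hw2, hw0⟩ : ∃ w, φ ⬝ᵥ w = 0 ∧ ψ ⬝ᵥ w = 0 ∧ w ≠ 0 := by
    let N : Matrix (Fin 2) (Fin 3) F := Matrix.of ![φ, ψ]
    have h1 := LinearMap.finrank_range_add_finrank_ker N.mulVecLin
    have h2' := Submodule.finrank_le (LinearMap.range N.mulVecLin)
    rw [Module.finrank_pi, Fintype.card_fin] at h1 h2'
    have : LinearMap.ker N.mulVecLin ≠ ⊥ := fun e => by rw [e, finrank_bot] at h1; omega
    obtain ⟨w, hw, hw0⟩ := Submodule.exists_mem_ne_zero_of_ne_bot this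
    exact ⟨w, congrFun hw 0, congrFun hw 1, hw0⟩
  have hab1 : a * b - 1 ≠ 0 := fun e => hab (by rw [hA, hB']; linear_combination k * k * e)
  have hind3 : LinearIndependent F ![u, v, w] := by
    rw [Fintype.linearIndependent_iff]
    intro c hc
    simp only [Fin.sum_univ_three, Matrix.cons_val] at hc
    have e1 := congrArg (φ ⬝ᵥ ·) hc
    have e2 := congrArg (ψ ⬝ᵥ ·) hc
    simp [dotProduct_add, dotProduct_smul, hw1, hw2, ← ha, ← hb, hu, hv] at e1 e2
    have h1 : c 1 * (a * b - 1) = 0 := by linear_combination b * e1 - e2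
    have h1' : c 1 = 0 := (mul_eq_zero.1 h1).resolve_right hab1
    have h0 : c 0 = 0 := by simpa [h1'] using e1
    rw [h0, h1', zero_smul, zero_smul, zero_add, zero_add, smul_eq_zero] at hc
    intro i; fin_cases i
    exacts [h0, h1', hc.resolve_right hw0]
  let Bm : M3 := (Matrix.of ![u, v, w])ᵀ
  obtain ⟨B, hB⟩ : IsUnit Bm :=
    Matrix.linearIndependent_cols_iff_isUnit.1 (show LinearIndependent F Bm.col from hind3)
  have col : ∀ i, (B : M3) *ᵥ Pi.single i 1 = ![u, v, w] i := fun i => by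
    rw [hB, mulVec_single_one]; rfl
  have key : ∀ (g : G3) (G : M3), (∀ i, (g : M3) *ᵥ ![u, v, w] i = (B : M3) *ᵥ (G *ᵥ Pi.single i 1)) →
      ((B⁻¹ * g * B : G3) : M3) = G := by
    intro g G hg'
    refine Matrix.ext_of_mulVec_single fun i => ?_
    rw [Units.val_mul, Units.val_mul, ← mulVec_mulVec, ← mulVec_mulVec, col, hg', mulVec_mulVec, ← Units.val_mul,
      inv_mul_cancel, Units.val_one, one_mulVec]
  have hmk : m = 1 + k := by rw [hkm]; ring
  have hA' : A = k * a := rfl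
  have k1 : ((B⁻¹ * y * B : G3) : M3) = α • !![m, A, 0; 0, 1, 0; 0, 0, 1] := by
    refine key y _ fun i => ?_
    have hc' : ((α • !![m, A, 0; 0, 1, 0; 0, 0, 1] : M3) *ᵥ Pi.single i 1) =
        α • (![m • Pi.single 0 1, A • Pi.single 0 1 + Pi.single 1 1, Pi.single 2 1] i) := by
      fin_cases i <;> ext j <;> fin_cases j <;> simp
    rw [hc', mulVec_smul, hyf, hmat, smul_mulVec, add_mulVec, one_mulVec, vecMulVec_mulVec, op_smul_eq_smul,
      ← hk]
    fin_cases i <;> simp [col, mulVec_smul, mulVec_add, hw1, hu, ← ha, hA', hmk, add_smul, add_comm, smul_smul]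
  have k2 : ((B⁻¹ * y' * B : G3) : M3) = α • !![1, 0, 0; B', m, 0; 0, 0, 1] := by
    refine key y' _ fun i => ?_
    have hc' : ((α • !![1, 0, 0; B', m, 0; 0, 0, 1] : M3) *ᵥ Pi.single i 1) =
        α • (![Pi.single 0 1 + B' • Pi.single 1 1, m • Pi.single 1 1, Pi.single 2 1] i) := by
      fin_cases i <;> ext j <;> fin_cases j <;> simp
    rw [hc', mulVec_smul, hy'f, hmat, smul_mulVec, add_mulVec, one_mulVec, vecMulVec_mulVec, op_smul_eq_smul,
      ← hk]
    fin_cases i <;> simp [col, mulVec_smul, mulVec_add, hw2, hv, ← hb, hB', hmk, add_smul, add_comm, smul_smul]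
  have inBlock : ∀ (g : G3) (G : M3), g ∈ M → ((B⁻¹ * g * B : G3) : M3) = G → G * zMat = zMat * G →
      g ∈ blockSub M B := by
    intro g G hgM hgA hG
    have e : B⁻¹ * g * B * z0 = z0 * (B⁻¹ * g * B) :=
      Units.ext (by rw [Units.val_mul (B⁻¹ * g * B), Units.val_mul z0, hgA, z0_val, hG])
    refine mem_blockSub.2 ⟨hgM, ?_⟩
    calc g * (B * z0 * B⁻¹) = B * (B⁻¹ * g * B * z0) * B⁻¹ := by group
      _ = B * (z0 * (B⁻¹ * g * B)) * B⁻¹ := by rw [e]
      _ = B * z0 * B⁻¹ * g := by group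
  have hyb : y ∈ blockSub M B := inBlock y _ hy k1 (by
    ext i j; fin_cases i <;> fin_cases j <;> simp [zMat, Matrix.mul_apply, Fin.sum_univ_three])
  have hy'b : y' ∈ blockSub M B := inBlock y' _ hy' k2 (by
    ext i j; fin_cases i <;> fin_cases j <;> simp [zMat, Matrix.mul_apply, Fin.sum_univ_three])
  set X : blockSub M B := ⟨y, hyb⟩
  set Y : blockSub M B := ⟨y', hy'b⟩
  have hX : (toA M B X : M2) = α • !![m, A; 0, 1] := by
    rw [toA_val, blockAt]; simp only [X]; rw [k1]
    ext i j; fin_cases i <;> fin_cases j <;> simp [topBlock]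
  have hY : (toA M B Y : M2) = α • !![1, 0; B', m] := by
    rw [toA_val, blockAt]; simp only [Y]; rw [k2]
    ext i j; fin_cases i <;> fin_cases j <;> simp [topBlock]
  have hm3 : m * m + m + 1 = 0 := by rw [hm]; linear_combination W.root + W.ω * W.cube
  have hX3 : toP M B X ^ 3 = 1 := toP_pow_eq_one_iff.2 ⟨α ^ 3, by
    rw [hX, smul_pow]
    congr 1
    ext i j; fin_cases i <;> fin_cases j <;> simp [pow_succ, Matrix.mul_apply, Fin.sum_univ_two] <;> grind [W.cube]⟩
  have hY3 : toP M B Y ^ 3 = 1 := toP_pow_eq_one_iff.2 ⟨α ^ 3, by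
    rw [hY, smul_pow]
    congr 1
    ext i j; fin_cases i <;> fin_cases j <;> simp [pow_succ, Matrix.mul_apply, Fin.sum_univ_two] <;> grind [W.cube]⟩
  rcases cases_blockSub (B := B) h.noTr with hd | hsm
  · -- dihedral images would make them commute
    exfalso
    have hne : ∀ Q : blockSub M B, toP M B Q ^ 3 = 1 → toP M B Q ≠ 1 → toP M B Q ^ 2 ≠ 1 := by
      intro Q e3 e1 e2
      rw [pow_succ, e2, one_mul] at e3
      exact e1 e3
    have hX1 : toP M B X ≠ 1 := fun e => by
      obtain ⟨c, hc⟩ := toP_eq_one_iff.1 e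
      have := congrFun (congrFun (hX ▸ hc) 0) 1
      simp [hα, hA0] at this
    have hY1 : toP M B Y ≠ 1 := fun e => by
      obtain ⟨c, hc⟩ := toP_eq_one_iff.1 e
      have := congrFun (congrFun (hY ▸ hc) 1) 0
      simp [hα, hB0] at this
    have hc := hd _ (mem_range_toP X) _ (mem_range_toP Y) (hne X hX3 hX1) (hne Y hY3 hY1)
    rw [← map_mul, ← map_mul, toP_eq_iff] at hc
    obtain ⟨c, -, e⟩ := hc
    rw [map_mul, map_mul, Units.val_mul, Units.val_mul, hX, hY, smul_mul_smul_comm, smul_mul_smul_comm,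
      smul_comm c] at e
    have e' := smul_right_injective _ (mul_ne_zero hα hα) e
    have e01 := congrFun (congrFun e' 0) 1
    have e10 := congrFun (congrFun e' 1) 0
    simp [Matrix.mul_apply, Fin.sum_univ_two] at e01 e10
    have hcm : c = m⁻¹ := by
      field_simp
      exact mul_right_cancel₀ hA0 (by linear_combination -e01)
    rw [hcm] at e10
    field_simp at e10
    exact hm2 (by linear_combination e10)
  have hAB : A * B' = -3 * m * (a * b) := by
    rw [hA, hB', hkm, hm]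
    linear_combination (a * b) * (W.root + W.ω * W.cube)
  set r : F := 2 - 3 * (a * b) with hr
  have h2 := W.two
  have h5 := h.natCast_ne_zero (n := 5) (by norm_num) fun q hq hd => by
    have := Nat.le_of_dvd (by norm_num) hd; omega
  push_cast at h5
  have ord : ∀ (Q : blockSub M B) (c t : F), c ≠ 0 → (toA M B Q : M2).trace = c * (m * t) →
      (toA M B Q : M2).det = c ^ 2 * m ^ 2 → (¬ ∃ e : F, (toA M B Q : M2) = e • 1) →
      (toP M B Q ^ 2 = 1 ∨ toP M B Q ^ 3 = 1 ∨ toP M B Q ^ 5 = 1) →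
      t = 0 ∨ t ^ 2 = 1 ∨ t ^ 4 - 3 * t ^ 2 + 1 = 0 := by
    intro Q c t hc htr hdet hs hor
    have hcm : c * m ≠ 0 := mul_ne_zero hc hm0
    rcases hor with e | e | e
    · have := (pow_scalar hs).1 (toP_pow_eq_one_iff.1 e)
      rw [htr] at this
      exact .inl (mul_left_cancel₀ hcm (by rw [mul_zero]; linear_combination this))
    · have := (pow_scalar hs).2.1 (toP_pow_eq_one_iff.1 e)
      rw [htr, hdet] at this
      exact .inr (.inl (mul_left_cancel₀ (pow_ne_zero 2 hcm) (by linear_combination this)))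
    · have := (pow_scalar hs).2.2.2 (toP_pow_eq_one_iff.1 e)
      rw [htr, hdet] at this
      exact .inr (.inr (mul_left_cancel₀ (pow_ne_zero 4 hcm) (by rw [mul_zero]; linear_combination this)))
  have hXY : (toA M B (X * Y) : M2) = (α * α) • !![m + A * B', A * m; B', m] := by
    rw [map_mul, Units.val_mul, hX, hY, smul_mul_smul_comm]
    congr 1
    ext i j; fin_cases i <;> fin_cases j <;> simp [Matrix.mul_apply, Fin.sum_univ_two]
  have hαα := mul_ne_zero hα hα
  have e1 := ord (X * Y) (α * α) r hαα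
    (by rw [hXY, trace_smul, trace_fin_two]; simp; left; linear_combination hAB)
    (by rw [hXY, det_smul, det_fin_two]; simp; first | ring1 | (left; ring1))
    (fun ⟨c, e⟩ => by
      have := congrFun (congrFun (hXY ▸ e) 1) 0
      simp [hα, hB0] at this)
    (by rw [map_mul]; exact Small.two_threes hsm _ (mem_range_toP X) _ (mem_range_toP Y) hX3 hY3)
  have hXYi : (toA M B (X * (Y * Y)) : M2) =
      (α * (α * α)) • !![m + A * (B' * (1 + m)), A * (m * m); B' * (1 + m), m * m] := by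
    rw [map_mul, map_mul, Units.val_mul, Units.val_mul, hX, hY, smul_mul_smul_comm, smul_mul_smul_comm]
    congr 1
    ext i j; fin_cases i <;> fin_cases j <;> simp [Matrix.mul_apply, Fin.sum_univ_two] <;> first | ring1 | (left; ring1)
  -- the trace is `- m² (3ab - 1)` up to the scalar
  have hYY3 : toP M B (Y * Y) ^ 3 = 1 := by
    rw [map_mul, ← pow_two, ← pow_mul, mul_comm, pow_mul, hY3, one_pow]
  have hm13 : m ^ 3 = 1 := by rw [hm, ← pow_mul, show 2 * 3 = 3 * 2 from rfl, pow_mul, W.cube, one_pow]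
  have e2 := ord (X * (Y * Y)) (α * (α * α) * m ^ 2) (3 * (a * b) - 1)
    (mul_ne_zero (mul_ne_zero hα hαα) (pow_ne_zero _ hm0))
    (by
      rw [hXYi, trace_smul, trace_fin_two]
      simp
      linear_combination (α * (α * α) * (1 + m)) * hAB + (α * (α * α) * m * (1 - 3 * (a * b))) * hm3)
    (by
      rw [hXYi, det_smul, det_fin_two]
      simp
      linear_combination (-(α * (α * α)) ^ 2 * m ^ 3) * hm13)
    (fun ⟨c, e⟩ => by
      have := congrFun (congrFun (hXYi ▸ e) 0) 1
      simp [hα, hA0, hm0] at this)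
    (by rw [map_mul]; exact Small.two_threes hsm _ (mem_range_toP X) _ (mem_range_toP (Y * Y)) hX3 hYY3)
  rcases good_of_orders W.three h5 W.two e1 (by rw [show 1 - r = 3 * (a * b) - 1 by rw [hr]; ring]; exact e2) with e | e | e
  · exact .inr (.inl (by linear_combination -e))
  · exact .inl (by linear_combination -e)
  · exact .inr (.inr (by rw [hr] at e; linear_combination e))

end CfsgLib.Classical.GeoThree.C6
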