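import Cfsg.Agent.Lib.Classical.GeoThree.C6.Conj
import Cfsg.Agent.Lib.Classical.SimMaxTransv

/-!
# No homologies of order at least three
-/

set_option autoImplicit false
set_option linter.unusedSectionVars false
set_option linter.style.haveILetI false
set_option backward.isDefEq.respectTransparency false

open Matrix

namespace CfsgLib.Classical.GeoThree.C6

variable {F : Type*} [Field F]

local notation "M3" => Matrix (Fin 3) (Fin 3) F
local notation "G3" => GL (Fin 3) F

/-- An upper unitriangular element. -/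
def up (a b c : F) : GL (Fin 3) F :=
  ⟨!![1, a, c; 0, 1, b; 0, 0, 1], !![1, -a, a * b - c; 0, 1, -b; 0, 0, 1], by
    ext i j; fin_cases i <;> fin_cases j <;> simp [Matrix.mul_apply, Fin.sum_univ_three] <;> ring, by
    ext i j; fin_cases i <;> fin_cases j <;> simp [Matrix.mul_apply, Fin.sum_univ_three] <;> ring⟩

theorem up_mul (a b c a' b' c' : F) : up a b c * up a' b' c' = up (a + a') (b + b') (c + c' + a * b') := by
  ext i j; fin_cases i <;> fin_cases j <;> simp [up, Matrix.mul_apply, Fin.sum_univ_three] <;> ring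

theorem NoTransv.not_comm_zero {M : Subgroup G3} (hno : NoTransv M) (B : G3) {a b c : F}
    (hx : B * up a b c * B⁻¹ ∈ M) {a' b' c' : F} (hx' : B * up a' b' c' * B⁻¹ ∈ M) : a * b' = a' * b := by
  by_contra hne
  have hcomm : up a b c * up a' b' c' * (up a' b' c' * up a b c)⁻¹ = (up 0 0 (a * b' - a' * b) : G3) := by
    rw [mul_inv_eq_iff_eq_mul, up_mul, up_mul, up_mul]
    congr 1 <;> ring
  have hmem : B * up 0 0 (a * b' - a' * b) * B⁻¹ ∈ M := by
    rw [← hcomm]
    have := M.mul_mem (M.mul_mem hx hx') (M.inv_mem (M.mul_mem hx' hx))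
    convert this using 1
    group
  set e := a * b' - a' * b
  have he : e ≠ 0 := sub_ne_zero.2 hne
  let v : Fin 3 → F := (B : M3) *ᵥ ![e, 0, 0]
  let f : Fin 3 → F := ![0, 0, 1] ᵥ* ((B⁻¹ : G3) : M3)
  have hfv : f ⬝ᵥ v = 0 := by
    rw [← dotProduct_mulVec, mulVec_mulVec, ← Units.val_mul, inv_mul_cancel, Units.val_one, one_mulVec]
    simp [dotProduct, Fin.sum_univ_three]
  have heq : trGL v f hfv = B * up 0 0 e * B⁻¹ := by
    refine Units.ext ?_
    have h1 : ((up 0 0 e : G3) : M3) = 1 + vecMulVec ![e, 0, 0] ![0, 0, 1] := by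
      ext i j; fin_cases i <;> fin_cases j <;> simp [up, vecMulVec_apply]
    rw [Units.val_mul, Units.val_mul, h1, mul_add, add_mul, mul_one, ← Units.val_mul, mul_inv_cancel,
      Units.val_one, mul_vecMulVec, vecMulVec_mul]
    rfl
  rcases hno v f hfv (heq ▸ hmem) with h | h
  · have := congrFun (congrArg (((B⁻¹ : G3) : M3) *ᵥ ·) h) 0
    simp [v, mulVec_mulVec, ← Units.val_mul] at this
    exact he this
  · have := congrFun (congrArg (· ᵥ* (B : M3)) h) 2
    simp [f, vecMul_vecMul, ← Units.val_mul] at this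

variable [Finite F] [Fact ((2 : F) ≠ 0)] {M : Subgroup (GL (Fin 3) F)} {W : Omega F}

variable {α k m : F} {u v φ ψ : Fin 3 → F}

/-- Two conjugate homologies. -/
structure Pair (M : Subgroup (GL (Fin 3) F)) (y y' : GL (Fin 3) F) (α k m : F) (u v φ ψ : Fin 3 → F) : Prop where
  hy : y ∈ M
  hy' : y' ∈ M
  hα : α ≠ 0
  hyf : (y : Matrix (Fin 3) (Fin 3) F) = α • (1 + vecMulVec u φ)
  hy'f : (y' : Matrix (Fin 3) (Fin 3) F) = α • (1 + vecMulVec v ψ)
  hkdef : φ ⬝ᵥ u = k
  hψv' : ψ ⬝ᵥ v = k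
  hk : k ≠ 0
  hm : m = 1 + k
  hm0 : m ≠ 0
  hm1' : m ≠ -1
  hm2 : m * m ≠ 1
  hu : u ≠ 0
  hφ : φ ≠ 0
  hind : ∀ c : F, v ≠ c • u

set_option maxHeartbeats 2000000 in
/-- Conjugate homologies whose axes meet on the line of centres. -/
theorem Pair.false_of_tangent {y y' : G3} (h : Hyp W M) (P : Pair M y y' α k m u v φ ψ) {a b : F} (ha : a = φ ⬝ᵥ v)
    (hb : b = ψ ⬝ᵥ u) (ha0 : a ≠ 0) (hb0 : b ≠ 0) (hab : a * b = k * k)
    (hind2 : ∀ c : F, ψ ≠ c • φ) : False := by
  obtain ⟨hy, hy', hα, hyf, hy'f, hkdef', hψv', hk, hm, hm0, hm1', hm2, hu, hφ, hind⟩ := P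
  have hkdef : k = φ ⬝ᵥ u := hkdef'.symm
  have hN : ∀ r : Fin 2 → F, ∃ x : Fin 3 → F, φ ⬝ᵥ x = r 0 ∧ ψ ⬝ᵥ x = r 1 := by
    intro r
    have hind' : LinearIndependent F ![φ, ψ] :=
      (LinearIndependent.pair_iff' hφ).2 fun c e => hind2 c e.symm
    let N : Matrix (Fin 2) (Fin 3) F := Matrix.of ![φ, ψ]
    have hsurj : LinearMap.range N.mulVecLin = ⊤ := Submodule.eq_top_of_finrank_eq (by
      rw [Module.finrank_pi, Fintype.card_fin]
      exact (LinearIndependent.rank_matrix (M := N) hind').trans (Fintype.card_fin 2))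
    obtain ⟨x, hx⟩ := LinearMap.range_eq_top.1 hsurj r
    exact ⟨x, congrFun hx 0, congrFun hx 1⟩
  -- a common point of the two axes on the line of centres
  obtain ⟨e, he1, he2⟩ := hN ![0, 1]
  simp only [Matrix.cons_val_zero, Matrix.cons_val_one] at he1 he2
  set w : Fin 3 → F := a • u - k • v with hw
  have hφw : φ ⬝ᵥ w = 0 := by
    rw [hw, dotProduct_sub, dotProduct_smul, dotProduct_smul, ← ha, ← hkdef, smul_eq_mul, smul_eq_mul]; ring
  have hψw : ψ ⬝ᵥ w = 0 := by
    rw [hw, dotProduct_sub, dotProduct_smul, dotProduct_smul, ← hb, hψv', smul_eq_mul, smul_eq_mul, hab, sub_self]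
  have hw0 : w ≠ 0 := fun e' => hind (k⁻¹ * a) (by
    rw [mul_smul, sub_eq_zero.1 e', inv_smul_smul₀ hk])
  have hind3 : LinearIndependent F ![w, u, e] := by
    rw [Fintype.linearIndependent_iff]
    intro c hc
    simp only [Fin.sum_univ_three, Matrix.cons_val] at hc
    have h1 : c 1 = 0 := by
      have := congrArg (φ ⬝ᵥ ·) hc
      simpa [dotProduct_add, dotProduct_smul, hφw, he1, ← hkdef, hk] using this
    have h2' : c 2 = 0 := by
      have := congrArg (ψ ⬝ᵥ ·) hc
      simpa [dotProduct_add, dotProduct_smul, hψw, he2, h1] using this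
    rw [h1, h2', zero_smul, zero_smul, add_zero, add_zero, smul_eq_zero] at hc
    intro i; fin_cases i
    exacts [hc.resolve_right hw0, h1, h2']
  let Bm : M3 := (Matrix.of ![w, u, e])ᵀ
  obtain ⟨B, hB⟩ : IsUnit Bm :=
    Matrix.linearIndependent_cols_iff_isUnit.1 (show LinearIndependent F Bm.col from hind3)
  have col : ∀ i, (B : M3) *ᵥ Pi.single i 1 = ![w, u, e] i := fun i => by
    rw [hB, mulVec_single_one]; rfl
  -- the diagonal element and the commutator
  let Y : G3 := ⟨!![1, 0, 0; 0, m, 0; 0, 0, 1], !![1, 0, 0; 0, m⁻¹, 0; 0, 0, 1],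
    by ext i j; fin_cases i <;> fin_cases j <;> simp [Matrix.mul_apply, Fin.sum_univ_three, hm0],
    by ext i j; fin_cases i <;> fin_cases j <;> simp [Matrix.mul_apply, Fin.sum_univ_three, hm0]⟩
  let Y' : G3 := ⟨!![1, -b / k, -1 / k; 0, m, a / k; 0, 0, 1],
    !![1, b / (k * m), (m - a * b / k) / (k * m); 0, m⁻¹, -a / (k * m); 0, 0, 1],
    by ext i j; fin_cases i <;> fin_cases j <;> simp [Matrix.mul_apply, Fin.sum_univ_three] <;> field_simp <;> ring,
    by ext i j; fin_cases i <;> fin_cases j <;> simp [Matrix.mul_apply, Fin.sum_univ_three] <;> field_simp <;> ring⟩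
  have hvw : v = (a / k) • u + (-1 / k) • w := by rw [hw]; match_scalars <;> field_simp <;> ring
  have coords : ∀ i, ((y : G3) : M3) *ᵥ ((B : M3) *ᵥ Pi.single i 1) =
        (B : M3) *ᵥ (α • ((Y : M3) *ᵥ Pi.single i 1)) ∧
      ((y' : G3) : M3) *ᵥ ((B : M3) *ᵥ Pi.single i 1) =
        (B : M3) *ᵥ (α • ((Y' : M3) *ᵥ Pi.single i 1)) := by
    intro i
    have hY : ∀ i, ((Y : M3) *ᵥ Pi.single i 1) =
        ![Pi.single 0 1, m • Pi.single 1 1, Pi.single 2 1] i := fun i => by
      fin_cases i <;> ext j <;> fin_cases j <;> simp [Y]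
    have hY' : ∀ i, ((Y' : M3) *ᵥ Pi.single i 1) =
        ![Pi.single 0 1, (-b / k) • Pi.single 0 1 + m • Pi.single 1 1,
          (-1 / k) • Pi.single 0 1 + (a / k) • Pi.single 1 1 + Pi.single 2 1] i := fun i => by
      fin_cases i <;> ext j <;> fin_cases j <;> simp [Y']
    rw [hY, hY', hyf, hy'f]
    constructor
    · simp only [smul_mulVec, add_mulVec, one_mulVec, vecMulVec_mulVec, op_smul_eq_smul, mulVec_smul]
      fin_cases i <;> simp [col, mulVec_smul, mulVec_add, hφw, he1, ← hkdef, hm, add_smul]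
    · simp only [smul_mulVec, add_mulVec, one_mulVec, vecMulVec_mulVec, op_smul_eq_smul, mulVec_smul,
        mulVec_add]
      fin_cases i <;> simp [col, mulVec_smul, mulVec_add, hψw, he2, ← hb]
      · rw [hvw]; match_scalars <;> field_simp <;> rw [hm] <;> linear_combination hab
      · rw [hvw]; match_scalars <;> field_simp <;> ring
  have key : ∀ (g : G3) (G : G3), (∀ i, (g : M3) *ᵥ ((B : M3) *ᵥ Pi.single i 1) =
      (B : M3) *ᵥ (α • ((G : M3) *ᵥ Pi.single i 1))) → ((B⁻¹ * g * B : G3) : M3) = α • (G : M3) := by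
    intro g G hg'
    refine Matrix.ext_of_mulVec_single fun i => ?_
    rw [Units.val_mul, Units.val_mul, ← mulVec_mulVec, ← mulVec_mulVec, hg', mulVec_mulVec, ← Units.val_mul,
      inv_mul_cancel, Units.val_one, one_mulVec, smul_mulVec]
  have k1 := key y Y fun i => (coords i).1
  have k2 := key y' Y' fun i => (coords i).2
  set x := y * y' * (y' * y)⁻¹
  have hx : x = B * up (b / (m * m)) a (-(a * b) / (k * (m * m))) * B⁻¹ := by
    rw [eq_mul_inv_iff_mul_eq]
    simp only [x]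
    rw [show y * y' * (y' * y)⁻¹ * B = B * ((B⁻¹ * y * B) * (B⁻¹ * y' * B) * ((B⁻¹ * y' * B) * (B⁻¹ * y * B))⁻¹) by
      group]
    congr 1
    rw [mul_inv_eq_iff_eq_mul]
    refine Units.ext ?_
    rw [Units.val_mul, Units.val_mul _ (B⁻¹ * y' * B * (B⁻¹ * y * B)), Units.val_mul (B⁻¹ * y' * B), k1, k2]
    ext i j
    fin_cases i <;> fin_cases j <;>
      simp [Y, Y', up, Matrix.mul_apply, Fin.sum_univ_three] <;> field_simp <;> rw [hm] <;> ring
  have hxM : x ∈ M := M.mul_mem (M.mul_mem hy hy') (M.inv_mem (M.mul_mem hy' hy))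
  have hx' : y * x * y⁻¹ =
      B * up (b / (m * m) / m) (m * a) (-(a * b) / (k * (m * m))) * B⁻¹ := by
    rw [hx, mul_inv_eq_iff_eq_mul, eq_comm]
    rw [show ∀ U : G3, y * (B * U * B⁻¹) = B * ((B⁻¹ * y * B) * U) * B⁻¹ from fun U => by group,
      show ∀ U : G3, B * U * B⁻¹ * y = B * (U * (B⁻¹ * y * B)) * B⁻¹ from fun U => by group]
    congr 2
    refine Units.ext ?_
    rw [Units.val_mul, Units.val_mul (B⁻¹ * y * B), k1]
    ext i j
    fin_cases i <;> fin_cases j <;>
      simp [Y, up, Matrix.mul_apply, Fin.sum_univ_three] <;> field_simp <;> ring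
  have := h.noTr.not_comm_zero B (hx ▸ hxM) (hx' ▸ M.mul_mem (M.mul_mem hy hxM) (M.inv_mem hy))
  field_simp at this
  exact hm2 (by linear_combination this)

set_option maxHeartbeats 2000000 in
/-- Conjugate homologies with non-degenerate plane of centres. -/
theorem Pair.false_of_plane {y y' : G3} (h : Hyp W M) (h9 : ∀ ζ : F, ζ ^ 3 ≠ W.ω) (Pr : Pair M y y' α k m u v φ ψ) {a b : F} (ha : a = φ ⬝ᵥ v)
    (hb : b = ψ ⬝ᵥ u) (ha0 : a ≠ 0) (hb0 : b ≠ 0) (hab : a * b ≠ k * k) : False := by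
  obtain ⟨hy, hy', hα, hyf, hy'f, hkdef', hψv', hk, hm, hm0, hm1', hm2, hu, hφ, hind⟩ := Pr
  have hkdef : k = φ ⬝ᵥ u := hkdef'.symm
  obtain ⟨w, hw1, hw2, hw0⟩ : ∃ w, φ ⬝ᵥ w = 0 ∧ ψ ⬝ᵥ w = 0 ∧ w ≠ 0 := by
    let N : Matrix (Fin 2) (Fin 3) F := Matrix.of ![φ, ψ]
    have h1 := LinearMap.finrank_range_add_finrank_ker N.mulVecLin
    have h2' := Submodule.finrank_le (LinearMap.range N.mulVecLin)
    rw [Module.finrank_pi, Fintype.card_fin] at h1 h2'
    have : LinearMap.ker N.mulVecLin ≠ ⊥ := fun e => by rw [e, finrank_bot] at h1; omega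
    obtain ⟨w, hw, hw0⟩ := Submodule.exists_mem_ne_zero_of_ne_bot this
    exact ⟨w, congrFun hw 0, congrFun hw 1, hw0⟩
  have hind3 : LinearIndependent F ![u, v, w] := by
    rw [Fintype.linearIndependent_iff]
    intro c hc
    simp only [Fin.sum_univ_three, Matrix.cons_val] at hc
    have e1 := congrArg (φ ⬝ᵥ ·) hc
    have e2 := congrArg (ψ ⬝ᵥ ·) hc
    simp [dotProduct_add, dotProduct_smul, hw1, hw2, ← ha, ← hb, ← hkdef, hψv'] at e1 e2
    have h1 : c 1 * (a * b - k * k) = 0 := by linear_combination b * e1 - k * e2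
    have h1' : c 1 = 0 := (mul_eq_zero.1 h1).resolve_right (sub_ne_zero.2 hab)
    have h0 : c 0 = 0 := by simpa [h1', hk] using e1
    rw [h0, h1', zero_smul, zero_smul, zero_add, zero_add, smul_eq_zero] at hc
    intro i; fin_cases i
    exacts [h0, h1', hc.resolve_right hw0]
  let Bm : M3 := (Matrix.of ![u, v, w])ᵀ
  obtain ⟨B, hB⟩ : IsUnit Bm :=
    Matrix.linearIndependent_cols_iff_isUnit.1 (show LinearIndependent F Bm.col from hind3)
  have col : ∀ i, (B : M3) *ᵥ Pi.single i 1 = ![u, v, w] i := fun i => by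
    rw [hB, mulVec_single_one]; rfl
  have k1 : ((B⁻¹ * y * B : G3) : M3) = α • !![m, a, 0; 0, 1, 0; 0, 0, 1] := by
    refine Matrix.ext_of_mulVec_single fun i => ?_
    rw [Units.val_mul, Units.val_mul, ← mulVec_mulVec, ← mulVec_mulVec, col, hyf]
    have : (α • (1 + vecMulVec u φ) : M3) *ᵥ ![u, v, w] i =
        (B : M3) *ᵥ ((α • !![m, a, 0; 0, 1, 0; 0, 0, 1] : M3) *ᵥ Pi.single i 1) := by
      have hc' : ((α • !![m, a, 0; 0, 1, 0; 0, 0, 1] : M3) *ᵥ Pi.single i 1) =
          α • (![m • Pi.single 0 1, a • Pi.single 0 1 + Pi.single 1 1, Pi.single 2 1] i) := by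
        fin_cases i <;> ext j <;> fin_cases j <;> simp
      rw [hc', mulVec_smul, smul_mulVec, add_mulVec, one_mulVec, vecMulVec_mulVec, op_smul_eq_smul]
      fin_cases i <;> simp [col, mulVec_smul, mulVec_add, hw1, ← ha, ← hkdef, hm, add_smul, add_comm]
    rw [this, mulVec_mulVec, ← Units.val_mul, inv_mul_cancel, Units.val_one, one_mulVec]
  have k2 : ((B⁻¹ * y' * B : G3) : M3) = α • !![1, 0, 0; b, m, 0; 0, 0, 1] := by
    refine Matrix.ext_of_mulVec_single fun i => ?_
    rw [Units.val_mul, Units.val_mul, ← mulVec_mulVec, ← mulVec_mulVec, col, hy'f]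
    have : (α • (1 + vecMulVec v ψ) : M3) *ᵥ ![u, v, w] i =
        (B : M3) *ᵥ ((α • !![1, 0, 0; b, m, 0; 0, 0, 1] : M3) *ᵥ Pi.single i 1) := by
      have hc' : ((α • !![1, 0, 0; b, m, 0; 0, 0, 1] : M3) *ᵥ Pi.single i 1) =
          α • (![Pi.single 0 1 + b • Pi.single 1 1, m • Pi.single 1 1, Pi.single 2 1] i) := by
        fin_cases i <;> ext j <;> fin_cases j <;> simp
      rw [hc', mulVec_smul, smul_mulVec, add_mulVec, one_mulVec, vecMulVec_mulVec, op_smul_eq_smul]
      fin_cases i <;> simp [col, mulVec_smul, mulVec_add, hw2, ← hb, hψv', hm, add_smul, add_comm]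
    rw [this, mulVec_mulVec, ← Units.val_mul, inv_mul_cancel, Units.val_one, one_mulVec]
  have inBlock : ∀ (g : G3) (A : M3), g ∈ M → ((B⁻¹ * g * B : G3) : M3) = A → A * zMat = zMat * A →
      g ∈ blockSub M B := by
    intro g A hgM hgA hA
    have e : B⁻¹ * g * B * z0 = z0 * (B⁻¹ * g * B) :=
      Units.ext (by rw [Units.val_mul (B⁻¹ * g * B), Units.val_mul z0, hgA, z0_val, hA])
    refine mem_blockSub.2 ⟨hgM, ?_⟩
    calc g * (B * z0 * B⁻¹) = B * (B⁻¹ * g * B * z0) * B⁻¹ := by group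
      _ = B * (z0 * (B⁻¹ * g * B)) * B⁻¹ := by rw [e]
      _ = B * z0 * B⁻¹ * g := by group
  have hyb : y ∈ blockSub M B := inBlock y _ hy k1 (by
    ext i j; fin_cases i <;> fin_cases j <;> simp [zMat, Matrix.mul_apply, Fin.sum_univ_three])
  have hy'b : y' ∈ blockSub M B := inBlock y' _ hy' k2 (by
    ext i j; fin_cases i <;> fin_cases j <;> simp [zMat, Matrix.mul_apply, Fin.sum_univ_three])
  set P : blockSub M B := ⟨y, hyb⟩
  set P' : blockSub M B := ⟨y', hy'b⟩
  have hP : (toA M B P : Matrix (Fin 2) (Fin 2) F) = α • !![m, a; 0, 1] := by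
    rw [toA_val, blockAt]; simp only [P]; rw [k1]
    ext i j; fin_cases i <;> fin_cases j <;> simp [topBlock]
  have hP' : (toA M B P' : Matrix (Fin 2) (Fin 2) F) = α • !![1, 0; b, m] := by
    rw [toA_val, blockAt]; simp only [P']; rw [k2]
    ext i j; fin_cases i <;> fin_cases j <;> simp [topBlock]
  have hns : ∀ Q : blockSub M B, (toA M B Q : Matrix (Fin 2) (Fin 2) F).trace = α * (m + 1) →
      (¬ ∃ c : F, (toA M B Q : Matrix (Fin 2) (Fin 2) F) = c • 1) → toP M B Q ^ 2 ≠ 1 := by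
    intro Q htr hs e
    have := (pow_scalar hs).1 (toP_pow_eq_one_iff.1 e)
    rw [htr] at this
    exact mul_ne_zero hα (fun e' => hm1' (eq_neg_of_add_eq_zero_left e')) this
  have hc := dihedralish h h9 B _ (mem_range_toP P) _ (mem_range_toP P')
    (hns P (by rw [hP, trace_fin_two]; simp; ring) fun ⟨c, e⟩ => ha0 (by
      have := congrFun (congrFun (hP ▸ e) 0) 1
      simpa [hα] using this))
    (hns P' (by rw [hP', trace_fin_two]; simp; ring) fun ⟨c, e⟩ => hb0 (by
      have := congrFun (congrFun (hP' ▸ e) 1) 0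
      simpa [hα] using this))
  rw [← map_mul, ← map_mul, toP_eq_iff] at hc
  obtain ⟨c, -, e⟩ := hc
  rw [map_mul, map_mul, Units.val_mul, Units.val_mul, hP, hP', smul_mul_smul_comm, smul_mul_smul_comm,
    smul_comm c] at e
  have e' := smul_right_injective _ (mul_ne_zero hα hα) e
  have e01 := congrFun (congrFun e' 0) 1
  have e10 := congrFun (congrFun e' 1) 0
  simp [Matrix.mul_apply, Fin.sum_univ_two] at e01 e10
  have hcm : c = m⁻¹ := by
    field_simp
    exact mul_right_cancel₀ ha0 (by linear_combination -e01)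
  rw [hcm] at e10
  field_simp at e10
  exact hm2 (by linear_combination e10)

set_option maxHeartbeats 1000000 in
/-- The centre of a conjugate lies on the axis. -/
theorem Pair.perp {y y' : G3} (h : Hyp W M) (h9 : ∀ ζ : F, ζ ^ 3 ≠ W.ω) (P : Pair M y y' α k m u v φ ψ) : φ ⬝ᵥ v = 0 := by
  have P' := P
  obtain ⟨hy, hy', hα, hyf, hy'f, hkdef', hψv', hk, hm, hm0, hm1', hm2, hu, hφ, hind⟩ := P
  have hkdef : k = φ ⬝ᵥ u := hkdef'.symm
  set a := φ ⬝ᵥ v with ha
  set b := ψ ⬝ᵥ u with hb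
  by_contra ha0
  change a ≠ 0 at ha0
  have hv0 : v ≠ 0 := fun e => hind 0 (by rw [e, zero_smul])
  -- proportional axes give an elation
  have hind2 : ∀ c : F, ψ ≠ c • φ := by
    intro c e
    have hc : c * a = k := by rw [← hψv', e, smul_dotProduct, ← ha, smul_eq_mul]
    have hk' : c ≠ 0 := fun e0 => hk (by rw [← hc, e0, zero_mul])
    have hfv : φ ⬝ᵥ (m⁻¹ • (c • v - u)) = 0 := by
      rw [dotProduct_smul, dotProduct_sub, dotProduct_smul, ← ha, ← hkdef, smul_eq_mul, smul_eq_mul, hc,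
        sub_self, mul_zero]
    have heq : trGL (m⁻¹ • (c • v - u)) φ hfv = y' * y⁻¹ := by
      rw [eq_mul_inv_iff_mul_eq]
      refine Units.ext (Matrix.ext_iff_mulVec.2 fun x => ?_)
      rw [Units.val_mul, ← mulVec_mulVec, hy'f, hyf, e, trGL_mulVec]
      simp only [smul_mulVec, add_mulVec, one_mulVec, vecMulVec_mulVec, op_smul_eq_smul, dotProduct_smul,
        dotProduct_add, smul_dotProduct, smul_eq_mul, ← hkdef]
      match_scalars <;> field_simp <;> rw [hm] <;> ring
    rcases h.noTr _ _ hfv (heq ▸ M.mul_mem hy' (M.inv_mem hy)) with e1 | e1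
    · rw [smul_eq_zero, sub_eq_zero] at e1
      refine hind c⁻¹ ?_
      rw [← e1.resolve_left (inv_ne_zero hm0), inv_smul_smul₀ hk']
    · exact hφ e1
  by_cases hb0 : b = 0
  · -- one-sided incidence gives a transvection
    have hfv : ψ ⬝ᵥ ((a / m) • u) = 0 := by rw [dotProduct_smul, ← hb, hb0, smul_zero]
    have heq : trGL ((a / m) • u) ψ hfv = y * y' * (y' * y)⁻¹ := by
      rw [eq_mul_inv_iff_mul_eq]
      refine Units.ext (Matrix.ext_iff_mulVec.2 fun x => ?_)
      simp only [Units.val_mul, ← mulVec_mulVec, hyf, hy'f, trGL_mulVec, smul_mulVec, add_mulVec, one_mulVec,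
        vecMulVec_mulVec, op_smul_eq_smul, dotProduct_smul, dotProduct_add, smul_eq_mul, hψv', ← ha,
        ← hb, hb0, ← hkdef]
      match_scalars <;> field_simp <;> (try rw [hm]) <;> ring
    rcases h.noTr _ _ hfv (heq ▸ M.mul_mem (M.mul_mem hy hy') (M.inv_mem (M.mul_mem hy' hy))) with e1 | e1
    · rw [smul_eq_zero, div_eq_zero_iff] at e1
      rcases e1 with (e1 | e1) | e1
      exacts [ha0 e1, hm0 e1, hu e1]
    · exact hind2 0 (by rw [e1, zero_smul])
  -- a vector on both axes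
  by_cases hab : a * b = k * k
  · exact P'.false_of_tangent h ha hb ha0 hb0 hab hind2
  · exact P'.false_of_plane h h9 ha hb ha0 hb0 hab

set_option maxHeartbeats 1000000 in
/-- The only homologies are involutions up to scalars. -/
theorem hom_sq (h : Hyp W M) (h9 : ∀ ζ : F, ζ ^ 3 ≠ W.ω) {y : G3} (hy : y ∈ M) {α : F}
    {u φ : Fin 3 → F} (hα : α ≠ 0) (hyf : (y : M3) = α • (1 + vecMulVec u φ)) (hk : φ ⬝ᵥ u ≠ 0) :
    1 + φ ⬝ᵥ u = -1 := by
  classical
  set k := φ ⬝ᵥ u with hkdef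
  set m := 1 + k with hm
  by_contra hm1'
  have hm1 : m ≠ 1 := fun e => hk (by linear_combination e)
  have hm0 : m ≠ 0 := fun e => by
    have hd : (y : M3).det = 1 := mem_specialLinear_iff.1 (h.sl hy)
    rw [hyf, det_smul, vecMulVec_eq Unit, det_one_add_replicateCol_mul_replicateRow, ← hkdef, ← hm, e,
      mul_zero] at hd
    exact zero_ne_one hd
  have hm2 : m * m ≠ 1 := fun e => by
    rcases mul_self_eq_one_iff.1 e with e' | e'
    exacts [hm1 e', hm1' e']
  have hu : u ≠ 0 := fun e => hk (by rw [hkdef, e, dotProduct_zero])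
  have hφ : φ ≠ 0 := fun e => hk (by rw [hkdef, e, zero_dotProduct])
  -- conjugates
  have conj : ∀ g : G3, ((g * y * g⁻¹ : G3) : M3) =
      α • (1 + vecMulVec ((g : M3) *ᵥ u) (φ ᵥ* ((g⁻¹ : G3) : M3))) := fun g => by
    rw [Units.val_mul, Units.val_mul, hyf, mul_smul_comm, smul_mul_assoc, mul_add, add_mul, mul_one,
      ← Units.val_mul, mul_inv_cancel, Units.val_one, mul_vecMulVec, vecMulVec_mul]
  have hψv : ∀ g : G3, (φ ᵥ* ((g⁻¹ : G3) : M3)) ⬝ᵥ ((g : M3) *ᵥ u) = k := fun g => by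
    rw [← dotProduct_mulVec, mulVec_mulVec, ← Units.val_mul, inv_mul_cancel, Units.val_one, one_mulVec]
  -- centres off the line are orthogonal
  have main : ∀ g ∈ M, (∀ c : F, (g : M3) *ᵥ u ≠ c • u) → φ ⬝ᵥ ((g : M3) *ᵥ u) = 0 := fun g hg hind =>
    Pair.perp (y := y) (y' := g * y * g⁻¹) (α := α) (k := k) (m := m) (ψ := φ ᵥ* ((g⁻¹ : G3) : M3)) h h9
      ⟨hy, M.mul_mem (M.mul_mem hg hy) (M.inv_mem hg), hα, hyf, conj g, hkdef.symm, hψv g, hk, hm, hm0, hm1',
        hm2, hu, hφ, hind⟩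
  -- a non-scalar element of the Heisenberg group fixing the line of `u`
  obtain ⟨r, hr, hrs, c, hrc⟩ : ∃ r ∈ W.heis, ¬ IsScal (r : M3) ∧ ∃ c : F, (r : M3) *ᵥ u = c • u := by
    have hns : ∀ {r : G3}, r = W.dG ∨ (∃ n, r = W.dG ^ n * W.pG) → ¬ IsScal (r : M3) := by
      rintro r (rfl | ⟨n, rfl⟩) ⟨c, hc⟩
      · have e0 := congrFun (congrFun hc 0) 0
        have e1 := congrFun (congrFun hc 1) 1
        simp [Omega.dG] at e0 e1
        exact W.ne_one (e1.trans e0.symm)
      · have e1 := congrFun (congrFun hc 1) 0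
        rw [Units.val_mul, Omega.d_val] at e1
        simp [Omega.pG, Matrix.mul_apply, Fin.sum_univ_three, W.ne_zero] at e1
    by_cases hd : ∃ c : F, (W.dG : M3) *ᵥ u = c • u
    · exact ⟨_, W.d_mem, hns (.inl rfl), hd⟩
    push Not at hd
    by_contra hall
    push Not at hall
    have hP : ∀ (n : ℕ) (c : F), ((W.dG ^ n : G3) : M3) *ᵥ ((W.pG : M3) *ᵥ u) ≠ c • u := fun n c => by
      rw [mulVec_mulVec, ← Units.val_mul]
      exact hall _ (mul_mem (pow_mem W.d_mem n) W.p_mem) (hns (.inr ⟨n, rfl⟩)) c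
    have hd' : ∀ c : F, ((W.dG ^ 2 : G3) : M3) *ᵥ u ≠ c • u := fun c e => by
      have := congrArg ((W.dG : M3) *ᵥ ·) e
      simp only [mulVec_mulVec, ← Units.val_mul, ← pow_succ', W.d_pow_three, Units.val_one, one_mulVec,
        mulVec_smul] at this
      rcases eq_or_ne c 0 with rfl | hc
      · exact hu (by rw [this, zero_smul])
      · exact hd c⁻¹ (by rw [eq_inv_smul_iff₀ hc, ← this])
    -- three orthogonal centres span
    set u1 := (W.dG : M3) *ᵥ u
    set u2 := ((W.dG ^ 2 : G3) : M3) *ᵥ u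
    have o1 : φ ⬝ᵥ u1 = 0 := main _ h.d hd
    have o2 : φ ⬝ᵥ u2 = 0 := main _ (pow_mem h.d 2) hd'
    have o3 : ∀ n, φ ⬝ᵥ (((W.dG ^ n : G3) : M3) *ᵥ ((W.pG : M3) *ᵥ u)) = 0 := fun n => by
      rw [mulVec_mulVec, ← Units.val_mul]
      exact main _ (M.mul_mem (pow_mem h.d n) h.p) (by
        intro c; rw [Units.val_mul, ← mulVec_mulVec]; exact hP n c)
    -- the functionals `φ D^n`
    let N : M3 := Matrix.of ![φ, φ ᵥ* ((W.dG ^ 1 : G3) : M3), φ ᵥ* ((W.dG ^ 2 : G3) : M3)]
    have hcyc : ∀ i j : ℕ, φ ⬝ᵥ (((W.dG ^ (i + j) : G3) : M3) *ᵥ u) =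
        (φ ᵥ* ((W.dG ^ i : G3) : M3)) ⬝ᵥ (((W.dG ^ j : G3) : M3) *ᵥ u) := fun i j => by
      rw [← dotProduct_mulVec, mulVec_mulVec, ← Units.val_mul, ← pow_add]
    have N0 : N 0 = φ := rfl
    have N1 : N 1 = φ ᵥ* ((W.dG ^ 1 : G3) : M3) := rfl
    have N2 : N 2 = φ ᵥ* ((W.dG ^ 2 : G3) : M3) := rfl
    have hNT : N * (Matrix.of ![u, u2, u1])ᵀ = k • 1 := by
      have e0 : ((W.dG ^ 0 : G3) : M3) *ᵥ u = u := by simp
      have e3 : ∀ n, W.dG ^ (3 + n) = W.dG ^ n := fun n => by rw [pow_add, W.d_pow_three, one_mul]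
      have o : ∀ n, n % 3 ≠ 0 → φ ⬝ᵥ (((W.dG ^ n : G3) : M3) *ᵥ u) = 0 := fun n hn => by
        rw [pow_eq_pow_mod n W.d_pow_three]
        have : n % 3 = 1 ∨ n % 3 = 2 := by omega
        rcases this with e | e <;> rw [e]
        · rwa [pow_one]
        · exact o2
      have p1 : u1 = ((W.dG ^ 1 : G3) : M3) *ᵥ u := by rw [pow_one]
      ext i j
      change (N i) ⬝ᵥ (![u, u2, u1] j) = _
      fin_cases i <;> fin_cases j <;> simp only [N0, N1, N2, Fin.zero_eta, Fin.mk_one, Fin.reduceFinMk,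
        Matrix.cons_val, Matrix.smul_apply, smul_eq_mul]
      all_goals first
        | (rw [Matrix.one_apply_ne (by decide), mul_zero]; first
            | exact o1
            | exact o2
            | (rw [← e0, ← hcyc]; exact o _ (by norm_num))
            | (rw [p1, ← hcyc]; exact o _ (by norm_num))
            | (rw [← hcyc]; exact o _ (by norm_num)))
        | (rw [Matrix.one_apply_eq, mul_one]; done)
        | (rw [Matrix.one_apply_eq, mul_one]; first
            | exact hkdef.symm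
            | (rw [← hcyc, show 1 + 2 = 3 + 0 from rfl, e3, e0])
            | (rw [p1, ← hcyc, show 2 + 1 = 3 + 0 from rfl, e3, e0]))
    have hNz : N *ᵥ ((W.pG : M3) *ᵥ u) = 0 := by
      funext i
      change (N i) ⬝ᵥ _ = 0
      fin_cases i
      · have := o3 0; rwa [pow_zero, Units.val_one, one_mulVec] at this
      · show N 1 ⬝ᵥ _ = _; rw [N1, ← dotProduct_mulVec]; exact o3 1
      · show N 2 ⬝ᵥ _ = _; rw [N2, ← dotProduct_mulVec]; exact o3 2
    have hN : IsUnit N.det := by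
      have := congrArg Matrix.det hNT
      rw [det_mul, det_smul, det_one, mul_one, Fintype.card_fin] at this
      exact (Ne.isUnit fun e => pow_ne_zero 3 hk (by rw [← this, e, zero_mul]))
    have h0 : (W.pG : M3) *ᵥ u = 0 := by
      have := congrArg (N⁻¹ *ᵥ ·) hNz
      simpa [mulVec_mulVec, ← mul_assoc, Matrix.nonsing_inv_mul _ hN] using this
    refine hu ?_
    have := congrArg (((W.pG⁻¹ : G3) : M3) *ᵥ ·) h0
    simpa [mulVec_mulVec, ← Units.val_mul] using this
  obtain ⟨g, hg, hgr⟩ := (heis_cases h hr).resolve_left fun e => hrs ((isScal_iff h hr).2 e)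
  rw [Subgroup.mem_inf] at hg
  -- the centre becomes a coordinate vector
  set v := (g : M3) *ᵥ u with hv
  set ψ := φ ᵥ* ((g⁻¹ : G3) : M3)
  have hv0 : v ≠ 0 := fun e => hu (by
    have := congrArg (((g⁻¹ : G3) : M3) *ᵥ ·) e
    simpa [hv, mulVec_mulVec, ← Units.val_mul] using this)
  have hdv : (W.dG : M3) *ᵥ v = c • v := by
    rw [← hgr, hv, mulVec_mulVec, ← Units.val_mul, inv_mul_cancel_right, Units.val_mul, ← mulVec_mulVec, hrc,
      mulVec_smul]
  have main' : ∀ x ∈ M, (∀ d : F, (x : M3) *ᵥ v ≠ d • v) → ψ ⬝ᵥ ((x : M3) *ᵥ v) = 0 := by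
    intro x hx hxv
    have e : ψ ⬝ᵥ ((x : M3) *ᵥ v) = φ ⬝ᵥ (((g⁻¹ * x * g : G3) : M3) *ᵥ u) := by
      simp only [ψ, hv]
      rw [← dotProduct_mulVec, mulVec_mulVec, mulVec_mulVec, ← Units.val_mul, ← Units.val_mul, mul_assoc]
    rw [e]
    refine main _ (M.mul_mem (M.mul_mem (M.inv_mem hg.1) hx) hg.1) fun d hd => hxv d ?_
    have := congrArg ((g : M3) *ᵥ ·) hd
    simp only [mulVec_mulVec, ← Units.val_mul, mulVec_smul, ← hv] at this
    rw [← this, hv, mulVec_mulVec, ← Units.val_mul]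
    group
  have e0 := congrFun hdv 0
  have e1 := congrFun hdv 1
  have e2 := congrFun hdv 2
  simp [Omega.dG, mulVec, dotProduct, Fin.sum_univ_three] at e0 e1 e2
  obtain ⟨i, hi⟩ : ∃ i, ∀ j, j ≠ i → v j = 0 := by
    by_cases hv' : v 0 = 0
    · by_cases hv1 : v 1 = 0
      · exact ⟨2, fun j hj => by fin_cases j <;> first | assumption | exact absurd rfl hj⟩
      · refine ⟨1, fun j hj => ?_⟩
        fin_cases j
        · exact hv'
        · exact absurd rfl hj
        · by_contra hv2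
          exact W.sq_ne ((e2.resolve_right hv2).trans (e1.resolve_right hv1).symm)
    · refine ⟨0, fun j hj => ?_⟩
      have hc : c = 1 := by grind
      fin_cases j
      · exact absurd rfl hj
      · by_contra hv1
        exact W.ne_one ((e1.resolve_right hv1).trans hc)
      · by_contra hv2
        exact W.sq_ne_one ((e2.resolve_right hv2).trans hc)
  have hvi : v i ≠ 0 := fun e => hv0 (funext fun j => by
    by_cases hj : j = i
    exacts [hj ▸ e, hi j hj])
  have hFv : ∀ d : F, (W.fG : M3) *ᵥ v ≠ d • v := by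
    intro d e
    have := congrFun e (i + 1)
    rw [Pi.smul_apply, hi (i + 1) (by simp)] at this
    fin_cases i
    · simp [Omega.fG, mulVec, dotProduct, Fin.sum_univ_three, hi 1 (by decide), hi 2 (by decide), W.s_ne,
        W.ne_zero, hvi] at this
      exact hvi this
    · simp [Omega.fG, mulVec, dotProduct, Fin.sum_univ_three, hi 0 (by decide), hi 2 (by decide), W.s_ne,
        W.ne_zero, hvi] at this
      exact hvi this
    · simp [Omega.fG, mulVec, dotProduct, Fin.sum_univ_three, hi 0 (by decide), hi 1 (by decide), W.s_ne,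
        W.ne_zero, hvi] at this
      exact hvi this
  have hPv : ∀ n, n = 1 ∨ n = 2 → ∀ d : F, ((W.pG ^ n : G3) : M3) *ᵥ v ≠ d • v := by
    intro n hn d e
    have := congrFun e i
    have h1 := hi (i + 1) (by simp)
    have h2' := hi (i + 2) (by simp)
    have e' := congrFun e (i + 1)
    have e'' := congrFun e (i + 2)
    rcases hn with rfl | rfl <;> fin_cases i <;>
      simp [Omega.pG, pow_succ, mulVec, dotProduct, Fin.sum_univ_three] at * <;> grind
  have p0 := main' _ h.f hFv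
  have p1 := main' _ (pow_mem h.p 1) (hPv 1 (.inl rfl))
  have p2 := main' _ (pow_mem h.p 2) (hPv 2 (.inr rfl))
  have pk := hψv g
  change ψ ⬝ᵥ v = k at pk
  fin_cases i <;>
    simp [Omega.fG, Omega.pG, pow_succ, mulVec, dotProduct, Fin.sum_univ_three, hi 0, hi 1, hi 2] at p0 p1 p2 pk hvi ⊢ <;>
    grind [W.s_ne, W.ne_zero, W.cube]

/-- A homology in the subgroup squares to a scalar. -/
theorem isHom_sq (h : Hyp W M) (h9 : ∀ ζ : F, ζ ^ 3 ≠ W.ω) {y : G3} (hy : y ∈ M) (hh : IsHom (y : M3)) :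
    IsScal ((y * y : G3) : M3) := by
  obtain ⟨α, u, φ, hα, hk, hyf⟩ := hh
  have hm := hom_sq h h9 hy hα hyf hk
  refine ⟨α * α, ?_⟩
  rw [Units.val_mul, hyf, smul_mul_smul_comm, mul_add, add_mul, add_mul, vecMulVec_mul_vecMulVec, one_mul,
    mul_one, one_mul, vecMulVec_smul, show φ ⬝ᵥ u = -2 by linear_combination hm]
  congr 1
  module

end CfsgLib.Classical.GeoThree.C6
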