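import Cfsg.Agent.Lib.Classical.Dickson.ModelTools
import Cfsg.Agent.Lib.Classical.Dickson.Main

/-!
# Subgroups of `PGL₂` of order prime to the characteristic
-/

set_option autoImplicit false
set_option linter.unusedSectionVars false
set_option linter.style.haveILetI false

open Matrix Equiv MulAction
open scoped MatrixGroups

namespace CfsgLib.Classical.GeoThree.C6

open CfsgLib.Classical.Dickson

variable {F : Type*} [Field F]

local notation "PG" => ProjGenLinGroup (Fin 2) F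

/-- One of the polyhedral groups. -/
inductive Small (G : Subgroup (ProjGenLinGroup (Fin 2) F)) : Prop
  | a4 (h : Nonempty (G ≃* alternatingGroup (Fin 4)))
  | s4 (h : Nonempty (G ≃* Perm (Fin 4)))
  | a5 (h : Nonempty (G ≃* alternatingGroup (Fin 5)))

/-- The elements which are not involutions commute. -/
def Dihedralish (G : Subgroup (ProjGenLinGroup (Fin 2) F)) : Prop :=
  ∀ x ∈ G, ∀ y ∈ G, x ^ 2 ≠ 1 → y ^ 2 ≠ 1 → x * y = y * x

theorem cases_prime_to_char [Finite F] (p : ℕ) [hp : Fact p.Prime] [CharP F p] (G : Subgroup PG)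
    (hG : ¬ p ∣ Nat.card G) : Dihedralish G ∨ Small G := by
  classical
  letI := Fintype.ofFinite F
  haveI : Finite PG := Finite.of_surjective _ ProjGenLinGroup.mk_surjective
  have hunip : ∀ g ∈ G, g ^ p = 1 → g = 1 := by
    intro g hg h
    by_contra h1
    refine hG ?_
    have := orderOf_dvd_natCard (⟨g, hg⟩ : G)
    rwa [← Subgroup.orderOf_coe, orderOf_eq_prime h h1] at this
  have hmap : ∀ {A : Subfield F} {h : PG} {H : Subgroup PG},
      G.map (MulAut.conj h).toMonoidHom = H → ∀ u ∈ H, u ^ p = 1 → u = 1 := by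
    rintro A h H e u hu hup
    rw [← e] at hu
    obtain ⟨g, hg, rfl⟩ := hu
    rw [← map_pow, ← map_one (MulAut.conj h).toMonoidHom] at hup
    rw [hunip g hg ((MulAut.conj h).injective hup), map_one]
  cases kind p G with
  | fixed x h =>
    refine Or.inl fun a ha b hb _ _ => ?_
    obtain ⟨k, hk⟩ := exists_to_infty x
    have hfix : ∀ g ∈ G, ∃ (u : Fˣ) (v : F), k⁻¹ * g * k = aff u v := fun g hg =>
      exists_aff (by rw [mul_smul, mul_smul, hk, h g hg, ← hk, inv_smul_smul])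
    obtain ⟨u, v, hu⟩ := hfix a ha
    obtain ⟨u', v', hu'⟩ := hfix b hb
    obtain ⟨u'', v'', hc⟩ := hfix (a * b * a⁻¹ * b⁻¹) (G.mul_mem (G.mul_mem (G.mul_mem ha hb) (G.inv_mem ha)) (G.inv_mem hb))
    have hcomm : a * b * a⁻¹ * b⁻¹ = 1 := by
      refine hunip _ (G.mul_mem (G.mul_mem (G.mul_mem ha hb) (G.inv_mem ha)) (G.inv_mem hb)) ?_
      have e : k⁻¹ * (a * b * a⁻¹ * b⁻¹) * k = (k⁻¹ * a * k) * (k⁻¹ * b * k) * (k⁻¹ * a * k)⁻¹ * (k⁻¹ * b * k)⁻¹ := by
        group
      have hu''1 : u'' = 1 := by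
        have e' : aff u'' v'' * (k⁻¹ * b * k) * (k⁻¹ * a * k) = (k⁻¹ * a * k) * (k⁻¹ * b * k) := by
          rw [← hc, e]; group
        rw [hu, hu', aff_mul, aff_mul, aff_mul] at e'
        have := (aff_injective e').1
        rw [mul_assoc, mul_comm u' u] at this
        exact mul_eq_right.1 this
      rw [hu''1] at hc
      have : (k⁻¹ * (a * b * a⁻¹ * b⁻¹) * k) ^ p = 1 := by
        rw [hc]; exact (aff_pow_char_eq_one_iff p _ _).2 rfl
      rw [show k⁻¹ * (a * b * a⁻¹ * b⁻¹) * k = MulAut.conj k⁻¹ (a * b * a⁻¹ * b⁻¹) by simp,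
        ← map_pow] at this
      exact (MulAut.conj k⁻¹).injective (this.trans (map_one _).symm)
    rw [mul_inv_eq_one, mul_inv_eq_iff_eq_mul] at hcomm
    exact hcomm
  | cyclic c hc _ =>
    refine Or.inl fun a ha b hb _ _ => ?_
    obtain ⟨i, rfl⟩ := Subgroup.mem_zpowers_iff.1 (hc ▸ ha)
    obtain ⟨j, rfl⟩ := Subgroup.mem_zpowers_iff.1 (hc ▸ hb)
    rw [← _root_.zpow_add, ← _root_.zpow_add, add_comm]
  | dihedral c _ _ _ hiso =>
    obtain ⟨e⟩ := hiso
    refine Or.inl fun a ha b hb ha2 hb2 => ?_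
    have key : ∀ d : DihedralGroup (orderOf c), d ^ 2 ≠ 1 → ∃ i, d = DihedralGroup.r i := by
      intro d hd
      cases d with
      | r i => exact ⟨i, rfl⟩
      | sr i => exact absurd (by rw [sq]; exact DihedralGroup.sr_mul_self i) hd
    have t : ∀ g : G, (g : PG) ^ 2 ≠ 1 → ∃ i, e g = DihedralGroup.r i := fun g hg =>
      key _ fun h => hg (by
        have := e.injective ((map_pow e g 2).trans (h.trans (map_one e).symm))
        exact congrArg Subtype.val this)
    obtain ⟨i, hi⟩ := t ⟨a, ha⟩ ha2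
    obtain ⟨j, hj⟩ := t ⟨b, hb⟩ hb2
    have := e.injective (show e (⟨a, ha⟩ * ⟨b, hb⟩) = e (⟨b, hb⟩ * ⟨a, ha⟩) by
      rw [map_mul, map_mul, hi, hj, DihedralGroup.r_mul_r, DihedralGroup.r_mul_r, add_comm])
    exact congrArg Subtype.val this
  | a4 h => exact Or.inr (.a4 h)
  | s4 h => exact Or.inr (.s4 h)
  | a5 h => exact Or.inr (.a5 h)
  | pgl A h e =>
    exfalso
    refine hG_false (hmap (A := A) e (aff 1 1) ?_ ((aff_pow_char_eq_one_iff p _ _).2 rfl))
    refine ⟨ProjGenLinGroup.mk (affGL 1 1), ?_⟩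
    rw [ProjGenLinGroup.map_mk, aff]
    congr 1; ext i j; fin_cases i <;> fin_cases j <;> simp [affGL]
  | psl A _ h e =>
    exfalso
    refine hG_false (hmap (A := A) e (aff 1 1) ?_ ((aff_pow_char_eq_one_iff p _ _).2 rfl))
    let U : SL(2, A) := ⟨!![1, 1; 0, 1], by simp⟩
    refine ⟨U, ?_⟩
    change ProjGenLinGroup.map A.subtype (ProjGenLinGroup.mk (SpecialLinearGroup.toGL U)) = _
    rw [ProjGenLinGroup.map_mk, aff]
    congr 1; ext i j; fin_cases i <;> fin_cases j <;> simp [affGL, U] <;> rfl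
where
  hG_false (h : aff (1 : Fˣ) (1 : F) = 1) : False := by
    classical exact one_ne_zero (aff_eq_one_iff.1 h).2

namespace Small

variable {G : Subgroup (ProjGenLinGroup (Fin 2) F)}

theorem transfer {H : Type*} [Group H] (f : G ≃* H) {P : PG → PG → Prop} (Q : H → H → Prop)
    (hPQ : ∀ a b : G, Q (f a) (f b) → P a b) (hQ : ∀ a b, Q a b) : ∀ a ∈ G, ∀ b ∈ G, P a b :=
  fun a ha b hb => hPQ ⟨a, ha⟩ ⟨b, hb⟩ (hQ _ _)

theorem exps (h : Small G) : ∀ g ∈ G, g ^ 2 = 1 ∨ g ^ 3 = 1 ∨ g ^ 4 = 1 ∨ g ^ 5 = 1 := by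
  have key : ∀ {H : Type} [Group H], (G ≃* H) → (∀ x : H, x ^ 2 = 1 ∨ x ^ 3 = 1 ∨ x ^ 4 = 1 ∨ x ^ 5 = 1) →
      ∀ g ∈ G, g ^ 2 = 1 ∨ g ^ 3 = 1 ∨ g ^ 4 = 1 ∨ g ^ 5 = 1 := by
    intro H _ f hH g hg
    have := hH (f ⟨g, hg⟩)
    simpa [← map_pow, MulEquiv.map_eq_one_iff, Subtype.ext_iff] using this
  cases h with
  | a4 h => obtain ⟨f⟩ := h; exact key f (by decide +kernel)
  | s4 h => obtain ⟨f⟩ := h; exact key f (by decide +kernel)
  | a5 h => obtain ⟨f⟩ := h; exact key f (by decide +kernel)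

theorem exists_three (h : Small G) : ∃ g ∈ G, g ^ 3 = 1 ∧ g ≠ 1 := by
  have key : ∀ {H : Type} [Group H], (G ≃* H) → (∃ x : H, x ^ 3 = 1 ∧ x ≠ 1) → ∃ g ∈ G, g ^ 3 = 1 ∧ g ≠ 1 := by
    rintro H _ f ⟨x, hx, hx1⟩
    refine ⟨f.symm x, (f.symm x).2, ?_, fun e => hx1 ?_⟩
    · rw [← SubgroupClass.coe_pow, ← map_pow, hx, map_one, Subgroup.coe_one]
    · exact f.symm.injective (by rw [map_one]; exact Subtype.ext e)
  cases h with
  | a4 h => obtain ⟨f⟩ := h; exact key f (by decide +kernel)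
  | s4 h => obtain ⟨f⟩ := h; exact key f (by decide +kernel)
  | a5 h => obtain ⟨f⟩ := h; exact key f (by decide +kernel)

theorem exists_klein (h : Small G) :
    ∃ a ∈ G, ∃ b ∈ G, a ≠ 1 ∧ b ≠ 1 ∧ a ≠ b ∧ a * a = 1 ∧ b * b = 1 ∧ a * b = b * a := by
  have key : ∀ {H : Type} [Group H], (G ≃* H) →
      (∃ a b : H, a ≠ 1 ∧ b ≠ 1 ∧ a ≠ b ∧ a * a = 1 ∧ b * b = 1 ∧ a * b = b * a) →
      ∃ a ∈ G, ∃ b ∈ G, a ≠ 1 ∧ b ≠ 1 ∧ a ≠ b ∧ a * a = 1 ∧ b * b = 1 ∧ a * b = b * a := by
    rintro H _ f ⟨a, b, ha, hb, hab, haa, hbb, hc⟩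
    refine ⟨f.symm a, (f.symm a).2, f.symm b, (f.symm b).2, fun e => ha (f.symm.injective ?_),
      fun e => hb (f.symm.injective ?_), fun e => hab (f.symm.injective (Subtype.ext e)), ?_, ?_, ?_⟩
    · rw [map_one]; exact Subtype.ext e
    · rw [map_one]; exact Subtype.ext e
    · rw [← Subgroup.coe_mul, ← map_mul, haa, map_one, Subgroup.coe_one]
    · rw [← Subgroup.coe_mul, ← map_mul, hbb, map_one, Subgroup.coe_one]
    · rw [← Subgroup.coe_mul, ← Subgroup.coe_mul, ← map_mul, ← map_mul, hc]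
  cases h with
  | a4 h => obtain ⟨f⟩ := h; exact key f (by decide +kernel)
  | s4 h => obtain ⟨f⟩ := h; exact key f (by decide +kernel)
  | a5 h => obtain ⟨f⟩ := h; exact key f (by decide +kernel)

/-- Either there are no elements of order five, or none of order four and the group is perfect. -/
theorem four_or_five (h : Small G) :
    (∀ g ∈ G, g ^ 2 = 1 ∨ g ^ 3 = 1 ∨ g ^ 4 = 1) ∨
      ((∀ g ∈ G, g ^ 2 = 1 ∨ g ^ 3 = 1 ∨ g ^ 5 = 1) ∧ ⁅G, G⁆ = G) := by
  have key : ∀ {H : Type} [Group H], (G ≃* H) → (∀ x : H, x ^ 2 = 1 ∨ x ^ 3 = 1 ∨ x ^ 4 = 1) →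
      ∀ g ∈ G, g ^ 2 = 1 ∨ g ^ 3 = 1 ∨ g ^ 4 = 1 := by
    intro H _ f hH g hg
    have := hH (f ⟨g, hg⟩)
    simpa [← map_pow, MulEquiv.map_eq_one_iff, Subtype.ext_iff] using this
  cases h with
  | a4 h => obtain ⟨f⟩ := h; exact .inl (key f (by decide +kernel))
  | s4 h => obtain ⟨f⟩ := h; exact .inl (key f (by decide +kernel))
  | a5 h =>
    obtain ⟨f⟩ := h
    refine .inr ⟨fun g hg => ?_, ?_⟩
    · have hH : ∀ x : alternatingGroup (Fin 5), x ^ 2 = 1 ∨ x ^ 3 = 1 ∨ x ^ 5 = 1 := by decide +kernel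
      have := hH (f ⟨g, hg⟩)
      simpa [← map_pow, MulEquiv.map_eq_one_iff, Subtype.ext_iff] using this
    · have h5 : commutator (alternatingGroup (Fin 5)) = ⊤ :=
        commutator_alternatingGroup_eq_top (by rw [Nat.card_eq_fintype_card, Fintype.card_fin])
      have h' : commutator G = ⊤ := by
        have := congrArg (Subgroup.map f.symm.toMonoidHom) h5
        rw [commutator_def, Subgroup.map_commutator,
          Subgroup.map_top_of_surjective _ f.symm.surjective] at this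
        rw [commutator_def]; exact this
      have := congrArg (Subgroup.map G.subtype) h'
      rw [commutator_def, Subgroup.map_commutator, ← MonoidHom.range_eq_map, Subgroup.range_subtype] at this
      exact this

/-- Products of two elements of order three. -/
theorem two_threes (h : Small G) : ∀ a ∈ G, ∀ b ∈ G, a ^ 3 = 1 → b ^ 3 = 1 →
    ((a * b) ^ 2 = 1 ∨ (a * b) ^ 3 = 1 ∨ (a * b) ^ 5 = 1) := by
  rcases h.four_or_five with h4 | ⟨h5, -⟩
  swap
  · exact fun a ha b hb _ _ => h5 _ (G.mul_mem ha hb)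
  intro a ha b hb ea eb
  rcases h4 _ (G.mul_mem ha hb) with e | e | e
  · exact .inl e
  · exact .inr (.inl e)
  -- an element of order four only occurs in `S₄`, where products of three-cycles are even
  cases h with
  | a4 h =>
    obtain ⟨f⟩ := h
    have hk : ∀ x : alternatingGroup (Fin 4), x ^ 4 = 1 → x ^ 2 = 1 := by decide +kernel
    left
    have := hk (f ⟨_, G.mul_mem ha hb⟩) (by rw [← map_pow]; simpa [Subtype.ext_iff] using e)
    simpa [← map_pow, MulEquiv.map_eq_one_iff, Subtype.ext_iff] using this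
  | s4 h =>
    obtain ⟨f⟩ := h
    have hk : ∀ x : Perm (Fin 4), x ^ 4 = 1 → Perm.sign x = 1 → x ^ 2 = 1 := by decide +kernel
    have hs : ∀ (c : G), (c : PG) ^ 3 = 1 → Perm.sign (f c) = 1 := by
      intro c hc
      rcases Int.units_eq_one_or (Perm.sign (f c)) with e' | e'
      · exact e'
      · have h3 : Perm.sign (f c) ^ 3 = 1 := by
          rw [← map_pow, ← map_pow, show c ^ 3 = 1 from Subtype.ext (by simpa using hc), map_one, map_one]
        rw [e'] at h3; exact absurd h3 (by decide)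
    left
    have := hk (f (⟨a, ha⟩ * ⟨b, hb⟩)) (by rw [← map_pow]; simpa [Subtype.ext_iff] using e)
      (by rw [map_mul, map_mul, hs ⟨a, ha⟩ ea, hs ⟨b, hb⟩ eb, one_mul])
    rw [← map_pow] at this
    simpa [MulEquiv.map_eq_one_iff, Subtype.ext_iff] using this
  | a5 h =>
    obtain ⟨f⟩ := h
    have hk : ∀ x : alternatingGroup (Fin 5), x ^ 4 = 1 → x ^ 2 = 1 := by decide +kernel
    left
    have := hk (f ⟨_, G.mul_mem ha hb⟩) (by rw [← map_pow]; simpa [Subtype.ext_iff] using e)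
    simpa [← map_pow, MulEquiv.map_eq_one_iff, Subtype.ext_iff] using this

end Small

end CfsgLib.Classical.GeoThree.C6
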