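import Cfsg.Agent.Lib.Classical.GeoThree.C6.NoHom
import Cfsg.Agent.Lib.Classical.GeoThree.C6.Count

/-!
# Elements of order prime to three
-/

set_option autoImplicit false
set_option linter.unusedSectionVars false
set_option linter.style.haveILetI false
set_option backward.isDefEq.respectTransparency false

open Matrix

namespace CfsgLib.Classical.GeoThree.C6

variable {F : Type*} [Field F] [Finite F]

local notation "M3" => Matrix (Fin 3) (Fin 3) F
local notation "G3" => GL (Fin 3) F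

/-- The elements of order prime to three. -/
def regSet (L : Subgroup (GL (Fin 3) F)) : Set (GL (Fin 3) F) := {g | g ∈ L ∧ ¬ 3 ∣ orderOf g}

theorem regSet.conj {L : Subgroup G3} {g x : G3} (hg : g ∈ L) (hx : x ∈ regSet L) :
    g * x * g⁻¹ ∈ regSet L :=
  ⟨L.mul_mem (L.mul_mem hg hx.1) (L.inv_mem hg), by
    rw [show g * x * g⁻¹ = MulAut.conj g x from rfl, MulEquiv.orderOf_eq]; exact hx.2⟩

theorem regSet.pow {L : Subgroup G3} {x : G3} (hx : x ∈ regSet L) (n : ℕ) : x ^ n ∈ regSet L :=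
  ⟨pow_mem hx.1 n, fun h => hx.2 (h.trans (orderOf_pow_dvd n))⟩

theorem regSet.mul {L : Subgroup G3} {x y : G3} (hx : x ∈ regSet L) (hy : y ∈ regSet L)
    (hc : x * y = y * x) : x * y ∈ regSet L :=
  ⟨mul_mem hx.1 hy.1, fun h =>
    ((Nat.prime_three.dvd_mul.1 (h.trans (Commute.orderOf_mul_dvd_mul_orderOf hc)))).elim hx.2 hy.2⟩

theorem regSet.one (L : Subgroup G3) : (1 : G3) ∈ regSet L := ⟨one_mem _, by simp⟩

theorem regSet.eq_one {L : Subgroup G3} {x : G3} (hx : x ∈ regSet L) {j : ℕ} (hj : x ^ 3 ^ j = 1) :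
    x = 1 := by
  obtain ⟨i, -, hi⟩ := (Nat.dvd_prime_pow Nat.prime_three).1 (orderOf_dvd_of_pow_eq_one hj)
  rcases i with _ | i
  · rwa [pow_zero, orderOf_eq_one_iff] at hi
  · exact absurd (hi ▸ dvd_pow_self 3 i.succ_ne_zero) hx.2

theorem regSet.of_pow_two {L : Subgroup G3} {x : G3} (hx : x ∈ L) {j : ℕ} (h : x ^ 2 ^ j = 1) :
    x ∈ regSet L := by
  refine ⟨hx, fun h3 => ?_⟩
  have := Nat.Prime.dvd_of_dvd_pow Nat.prime_three (h3.trans (orderOf_dvd_of_pow_eq_one h))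
  norm_num at this

theorem regSet.of_mul_self {L : Subgroup G3} {x : G3} (hx : x ∈ L) (h : x * x = 1) : x ∈ regSet L :=
  regSet.of_pow_two hx (j := 1) (by rwa [pow_one, pow_two])

/-- The decomposition into a three-element and an element of order prime to three. -/
theorem exists_decomp {L : Subgroup G3} {g : G3} (hg : g ∈ L) :
    ∃ a b j : ℕ, (g ^ a) ^ 3 ^ j = 1 ∧ g ^ b ∈ regSet L ∧ g ^ a * g ^ b = g := by
  obtain ⟨j, m, hm, hord⟩ := Nat.exists_eq_pow_mul_and_not_dvd (orderOf_pos g).ne' 3 (by norm_num)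
  have hcop : (3 ^ j).Coprime m := ((Nat.Prime.coprime_iff_not_dvd Nat.prime_three).2 hm).pow_left j
  obtain ⟨a, ha1, ha0⟩ := Nat.chineseRemainder hcop 1 0
  obtain ⟨b, hb0, hb1⟩ := Nat.chineseRemainder hcop 0 1
  have hma : m ∣ a := Nat.modEq_zero_iff_dvd.1 ha0
  have hjb : 3 ^ j ∣ b := Nat.modEq_zero_iff_dvd.1 hb0
  have hab : a + b ≡ 1 [MOD orderOf g] := by
    rw [hord]
    exact (Nat.modEq_and_modEq_iff_modEq_mul hcop).1 ⟨ha1.add hb0, ha0.add hb1⟩
  refine ⟨a, b, j, ?_, ⟨pow_mem hg b, fun h3 => hm ?_⟩, ?_⟩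
  · rw [← pow_mul, ← orderOf_dvd_iff_pow_eq_one, hord, mul_comm a]
    exact Nat.mul_dvd_mul_left _ hma
  · refine h3.trans (orderOf_dvd_of_pow_eq_one ?_)
    rw [← pow_mul, ← orderOf_dvd_iff_pow_eq_one, hord]
    exact Nat.mul_dvd_mul_right hjb m
  · conv_rhs => rw [← pow_one g]
    rw [← pow_add]
    exact pow_eq_pow_iff_modEq.2 hab

variable [Fact ((2 : F) ≠ 0)] {M : Subgroup (GL (Fin 3) F)} {W : Omega F}

theorem regSet.eq_one_of_scal (h : Hyp W M) {x : G3} (hx : x ∈ regSet M) (hs : IsScal (x : M3)) :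
    x = 1 := by
  obtain ⟨c, hc⟩ := hs
  have hdet : (x : M3).det = 1 := mem_specialLinear_iff.1 (h.sl hx.1)
  rw [hc, det_smul, Fintype.card_fin, det_one, mul_one] at hdet
  refine regSet.eq_one (j := 1) hx (Units.ext ?_)
  rw [Units.val_pow_eq_pow_val, hc, smul_pow, one_pow, pow_one, hdet, one_smul, Units.val_one]

theorem mul_self_eq_one_of_isHom (h : Hyp W M) (h9 : ∀ ζ : F, ζ ^ 3 ≠ W.ω) {x : G3} (hx : x ∈ regSet M)
    (hh : IsHom (x : M3)) : x * x = 1 :=
  regSet.eq_one_of_scal h (regSet.mul hx hx rfl) (isHom_sq h h9 hx.1 hh)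

theorem not_mul_self_of_cyclic {x : G3} {v : Fin 3 → F}
    (hv : ∀ a b c : F, a • v + b • ((x : M3) *ᵥ v) + c • ((x : M3) *ᵥ ((x : M3) *ᵥ v)) = 0 →
      a = 0 ∧ b = 0 ∧ c = 0) : x * x ≠ 1 := fun e => by
  have := (hv 1 0 (-1) (by rw [mulVec_mulVec, ← Units.val_mul, e, Units.val_one, one_mulVec]; simp)).1
  exact one_ne_zero this

theorem cyclic_of_reg (h : Hyp W M) (h9 : ∀ ζ : F, ζ ^ 3 ≠ W.ω) {x : G3} (hx : x ∈ regSet M)
    (hne : x * x ≠ 1) : ∃ v, ∀ a b c : F, a • v + b • ((x : M3) *ᵥ v) + c • ((x : M3) *ᵥ ((x : M3) *ᵥ v)) = 0 →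
      a = 0 ∧ b = 0 ∧ c = 0 := by
  rcases h.trichotomy hx.1 with hs | hs | hv
  · rw [regSet.eq_one_of_scal h hx hs, mul_one] at hne; exact absurd rfl hne
  · exact absurd (mul_self_eq_one_of_isHom h h9 hx hs) hne
  · exact hv

/-- The centraliser of a regular element is abelian. -/
theorem comm_of_reg (h : Hyp W M) (h9 : ∀ ζ : F, ζ ^ 3 ≠ W.ω) {x a b : G3} (hx : x ∈ regSet M)
    (hne : x * x ≠ 1) (ha : a * x = x * a) (hb : b * x = x * b) : a * b = b * a := by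
  obtain ⟨v, hv⟩ := cyclic_of_reg h h9 hx hne
  exact Units.ext (commute_of_cyclic hv (congrArg Units.val ha) (congrArg Units.val hb))

theorem zd_injective : Function.Injective fun p : Fin 3 × Fin 3 => W.zG ^ (p.1 : ℕ) * W.dG ^ (p.2 : ℕ) := by
  have hprim : IsPrimitiveRoot W.ω 3 := (IsPrimitiveRoot.iff (by norm_num)).2 ⟨W.cube, fun i hi hi3 => by
    interval_cases i
    exacts [by simpa using W.ne_one, W.sq_ne_one]⟩
  rintro ⟨i, k⟩ ⟨i', k'⟩ e
  have e0 := congrArg (fun u : G3 => (u : M3) 0 0) e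
  have e1 := congrArg (fun u : G3 => (u : M3) 1 1) e
  simp only [Units.val_mul, Omega.z_val, Omega.d_val, smul_mul_assoc, one_mul, Matrix.smul_apply,
    Matrix.of_apply, Matrix.cons_val, smul_eq_mul, mul_one] at e0 e1
  obtain rfl := Fin.ext (hprim.pow_inj i.2 i'.2 e0)
  obtain rfl := Fin.ext (hprim.pow_inj k.2 k'.2 (mul_left_cancel₀ (pow_ne_zero _ W.ne_zero) e1))
  rfl

/-- The centraliser of `diag(1,ω,ω²)`. -/
theorem cent_d_eq (h : Hyp W M) (h9 : ∀ ζ : F, ζ ^ 3 ≠ W.ω) :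
    ((M ⊓ Subgroup.centralizer {W.dG} : Subgroup G3) : Set G3) =
      Set.range fun p : Fin 3 × Fin 3 => W.zG ^ (p.1 : ℕ) * W.dG ^ (p.2 : ℕ) := by
  ext g
  rw [SetLike.mem_coe, Subgroup.mem_inf, Subgroup.mem_centralizer_singleton_iff]
  constructor
  swap
  · rintro ⟨⟨i, k⟩, rfl⟩
    refine ⟨mul_mem (pow_mem (h.heis_le W.z_mem) _) (pow_mem h.d _), ?_⟩
    exact ((Commute.pow_left (W.zG_comm W.dG) _).mul_left (Commute.pow_left (Commute.refl _) _)).eq
  rintro ⟨hg, hgd⟩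
  -- sixth powers are trivial
  have key : ∀ a ∈ M, a * W.dG = W.dG * a → (a : M3) 0 0 ^ 6 = 1 := by
    intro a ha had
    have hd := diag_of_comm_d had
    set b := a * (W.sG * a * W.sG⁻¹) with hb
    have hbM : b ∈ M := mul_mem ha (mul_mem (mul_mem h.sigma ha) (inv_mem h.sigma))
    have hbval : (b : M3) = !![(a : M3) 0 0 ^ 2, 0, 0; 0, (a : M3) 1 1 * (a : M3) 2 2, 0;
        0, 0, (a : M3) 1 1 * (a : M3) 2 2] := by
      rw [hb, Units.val_mul, Units.val_mul, Units.val_mul]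
      ext i j
      fin_cases i <;> fin_cases j <;>
        simp [Omega.sG, Matrix.mul_apply, Matrix.vecMul, dotProduct, Fin.sum_univ_three, hd 0 1 (by decide), hd 0 2 (by decide),
          hd 1 0 (by decide), hd 1 2 (by decide), hd 2 0 (by decide), hd 2 1 (by decide)] <;> ring
    have hdet : (a : M3) 0 0 * ((a : M3) 1 1 * (a : M3) 2 2) = 1 := by
      have e : (a : M3).det = 1 := mem_specialLinear_iff.1 (h.sl ha)
      rw [det_fin_three, hd 0 1 (by decide), hd 0 2 (by decide), hd 1 0 (by decide), hd 1 2 (by decide),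
        hd 2 0 (by decide), hd 2 1 (by decide)] at e
      linear_combination e
    set p := (a : M3) 0 0 with hp
    set q := (a : M3) 1 1 * (a : M3) 2 2 with hq
    by_cases hpq : p ^ 2 = q
    · have : p ^ 3 = 1 := by rw [← hdet, ← hpq]; ring
      rw [show 6 = 3 * 2 from rfl, pow_mul, this, one_pow]
    have hq0 : q ≠ 0 := fun e => by simp [e] at hdet
    have hhom : IsHom (b : M3) := by
      refine ⟨q, Pi.single 0 ((p ^ 2 - q) / q), Pi.single 0 1, hq0, ?_, ?_⟩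
      · rw [single_dotProduct, Pi.single_eq_same, one_mul]
        exact div_ne_zero (sub_ne_zero.2 hpq) hq0
      · rw [hbval]
        ext i j
        fin_cases i <;> fin_cases j <;> simp [vecMulVec_apply] <;> field_simp <;> ring
    obtain ⟨c, hc⟩ := isHom_sq h h9 hbM hhom
    have e0 := congrFun (congrFun hc 0) 0
    have e1 := congrFun (congrFun hc 1) 1
    rw [Units.val_mul, hbval] at e0 e1
    simp [Matrix.mul_apply, Fin.sum_univ_three] at e0 e1
    have : p ^ 4 = q ^ 2 := by linear_combination e0 - e1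
    calc p ^ 6 = p ^ 4 * p ^ 2 := by ring
      _ = (p * q) ^ 2 := by rw [this]; ring
      _ = 1 := by rw [hdet, one_pow]
  have hd := diag_of_comm_d hgd
  have hP : ∀ n, (W.pG ^ n * g * (W.pG ^ n)⁻¹) * W.dG = W.dG * (W.pG ^ n * g * (W.pG ^ n)⁻¹) := by
    intro n
    have hc : Commute (W.pG ^ n * g * (W.pG ^ n)⁻¹) (W.zG ^ (2 * n) * W.dG) := by
      rw [← Omega.p_pow_conj_d]
      exact congrArg (fun x => W.pG ^ n * x * (W.pG ^ n)⁻¹) hgd |> fun e => by
        change W.pG ^ n * (g * W.dG) * (W.pG ^ n)⁻¹ = W.pG ^ n * (W.dG * g) * (W.pG ^ n)⁻¹ at e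
        refine Eq.trans ?_ (e.trans ?_) <;> group
    have hz : ∀ x, Commute (W.zG ^ (2 * n)) x := fun x => Commute.pow_left (W.zG_comm x) _
    have := ((hz (W.pG ^ n * g * (W.pG ^ n)⁻¹)).symm.inv_right).mul_right hc
    rwa [inv_mul_cancel_left] at this
  have h6 : g ^ 6 = 1 := by
    have k0 := key g hg hgd
    have k1 := key _ (mul_mem (mul_mem (pow_mem h.p 1) hg) (inv_mem (pow_mem h.p 1))) (hP 1)
    have k2 := key _ (mul_mem (mul_mem (pow_mem h.p 2) hg) (inv_mem (pow_mem h.p 2))) (hP 2)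
    have a1 : ((W.pG ^ 1 * g * (W.pG ^ 1)⁻¹ : G3) : M3) 0 0 = (g : M3) 2 2 := by
      simp [Omega.pG, Matrix.mul_apply, Matrix.vecMul, dotProduct, Fin.sum_univ_three]
    have a2 : ((W.pG ^ 2 * g * (W.pG ^ 2)⁻¹ : G3) : M3) 0 0 = (g : M3) 1 1 := by
      simp [Omega.pG, pow_succ, Matrix.mul_apply, Matrix.vecMul, dotProduct, Fin.sum_univ_three]
    rw [a1] at k1
    rw [a2] at k2
    have hg' : (g : M3) = Matrix.diagonal fun i => (g : M3) i i := by
      ext i j; rcases eq_or_ne i j with rfl | hij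
      · simp
      · rw [Matrix.diagonal_apply_ne _ hij, hd i j hij]
    refine Units.ext ?_
    rw [Units.val_pow_eq_pow_val, hg', diagonal_pow, Units.val_one, ← diagonal_one]
    congr 1
    funext i
    fin_cases i
    exacts [k0, k2, k1]
  have h3 : g ^ 3 = 1 := by
    by_contra hne
    refine three_no_inv h h9 h.d (j := 1) W.d_pow_three ?_ (z := g ^ 3) (pow_mem hg 3)
      (by rw [← pow_add]; exact h6) hne ((Commute.pow_right (Commute.symm hgd) 3).eq)
    rintro ⟨c, hc⟩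
    have e0 := congrFun (congrFun hc 0) 0
    have e1 := congrFun (congrFun hc 1) 1
    simp [Omega.dG] at e0 e1
    exact W.ne_one (e1.trans e0.symm)
  have hprim : IsPrimitiveRoot W.ω 3 := (IsPrimitiveRoot.iff (by norm_num)).2 ⟨W.cube, fun i hi hi3 => by
    interval_cases i
    exacts [by simpa using W.ne_one, W.sq_ne_one]⟩
  have hroot : ∀ i : Fin 3, ∃ k : Fin 3, W.ω ^ (k : ℕ) = (g : M3) i i := by
    intro i
    have hg' : (g : M3) = Matrix.diagonal fun i => (g : M3) i i := by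
      ext a b; rcases eq_or_ne a b with rfl | hab
      · simp
      · rw [Matrix.diagonal_apply_ne _ hab, hd a b hab]
    have e := congrArg Units.val h3
    rw [Units.val_pow_eq_pow_val, hg', diagonal_pow, Units.val_one, ← diagonal_one] at e
    have e' : (g : M3) i i ^ 3 = 1 := congrFun (diagonal_injective e) i
    obtain ⟨k, hk, hk'⟩ := hprim.eq_pow_of_pow_eq_one e'
    exact ⟨⟨k, hk⟩, hk'⟩
  obtain ⟨i, hi⟩ := hroot 0
  obtain ⟨k, hk⟩ := hroot 1
  have hdet : (g : M3) 0 0 * (g : M3) 1 1 * (g : M3) 2 2 = 1 := by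
    have e : (g : M3).det = 1 := mem_specialLinear_iff.1 (h.sl hg)
    rw [det_fin_three, hd 0 1 (by decide), hd 0 2 (by decide), hd 1 0 (by decide), hd 1 2 (by decide),
      hd 2 0 (by decide), hd 2 1 (by decide)] at e
    linear_combination e
  refine ⟨⟨i, k + 2 * i⟩, Units.ext ?_⟩
  have hω : W.ω ^ (((k + 2 * i : Fin 3) : ℕ)) = W.ω ^ ((k : ℕ) + 2 * i) := by
    rw [pow_eq_pow_mod ((k : ℕ) + 2 * i) W.cube]
    congr 1
    exact (show ∀ i k : Fin 3, ((k + 2 * i : Fin 3) : ℕ) = ((k : ℕ) + 2 * i) % 3 by decide) i k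
  have hω2 : W.ω ^ (2 * ((k + 2 * i : Fin 3) : ℕ)) = (W.ω ^ ((k : ℕ) + 2 * i)) ^ 2 := by
    rw [mul_comm, pow_mul, hω]
  rw [Units.val_mul, Omega.z_val, Omega.d_val, hω, hω2, smul_mul_assoc, one_mul]
  have c3 : ∀ n : ℕ, W.ω ^ (3 * n) = 1 := fun n => by rw [pow_mul, W.cube, one_pow]
  ext a b
  fin_cases a <;> fin_cases b <;>
    simp [hd 0 1 (by decide), hd 0 2 (by decide), hd 1 0 (by decide), hd 1 2 (by decide), hd 2 0 (by decide),
      hd 2 1 (by decide), ← hi, ← hk]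
  · rw [← pow_add, show (i : ℕ) + ((k : ℕ) + 2 * i) = k + 3 * i by omega, pow_add, c3, mul_one]
  · rw [← hi, ← hk] at hdet
    calc W.ω ^ (i : ℕ) * (W.ω ^ ((k : ℕ) + 2 * i)) ^ 2
        = W.ω ^ (i : ℕ) * (W.ω ^ ((k : ℕ) + 2 * i)) ^ 2 * (W.ω ^ (i : ℕ) * W.ω ^ (k : ℕ) * (g : M3) 2 2) := by
          rw [hdet, mul_one]
      _ = W.ω ^ (3 * (2 * (i : ℕ) + k)) * (g : M3) 2 2 := by ring
      _ = (g : M3) 2 2 := by rw [c3, one_mul]

theorem card_cent_d (h : Hyp W M) (h9 : ∀ ζ : F, ζ ^ 3 ≠ W.ω) :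
    Nat.card (M ⊓ Subgroup.centralizer {W.dG} : Subgroup G3) = 9 := by
  refine (Nat.card_congr (Equiv.setCongr (cent_d_eq h h9))).trans ?_
  rw [Nat.card_range_of_injective zd_injective]
  simp

theorem dG_not_scal : ¬ IsScal (W.dG : M3) := by
  rintro ⟨c, hc⟩
  have e0 := congrFun (congrFun hc 0) 0
  have e1 := congrFun (congrFun hc 1) 1
  simp [Omega.dG] at e0 e1
  exact W.ne_one (e1.trans e0.symm)

/-- Whatever commutes with a non-scalar three-element has order dividing three. -/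
theorem pow_three_of_comm (h : Hyp W M) (h9 : ∀ ζ : F, ζ ^ 3 ≠ W.ω) {r x : G3} (hr : r ∈ M) {j : ℕ}
    (hrj : r ^ 3 ^ j = 1) (hrs : ¬ IsScal (r : M3)) (hx : x ∈ M) (hc : x * r = r * x) : x ^ 3 = 1 := by
  obtain ⟨g, hg, hgr⟩ := (three_conj h h9 hr hrj).resolve_left fun ⟨k, e⟩ => hrs ⟨_, e ▸ W.z_val k⟩
  have hmem : g * x * g⁻¹ ∈ ((M ⊓ Subgroup.centralizer {W.dG} : Subgroup G3) : Set G3) := by
    refine Subgroup.mem_inf.2 ⟨mul_mem (mul_mem hg hx) (inv_mem hg), Subgroup.mem_centralizer_singleton_iff.2 ?_⟩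
    rw [← hgr, show g * x * g⁻¹ * (g * r * g⁻¹) = g * (x * r) * g⁻¹ by group, hc]; group
  rw [cent_d_eq h h9] at hmem
  obtain ⟨p, hp⟩ := hmem
  have : (g * x * g⁻¹) ^ 3 = 1 := by
    rw [← hp, Commute.mul_pow (Commute.pow_left (W.zG_comm _) _), ← pow_mul,
      ← pow_mul, mul_comm, mul_comm (p.2 : ℕ), pow_mul, pow_mul, W.z_pow_three, W.d_pow_three]
    simp
  rwa [conj_pow, mul_inv_eq_one, mul_eq_left] at this

/-- The elements with scalar three-part. -/
theorem card_scalar_mul (S : Set G3) (hS : S ⊆ regSet M) (h : Hyp W M) :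
    {g | ∃ k : Fin 3, ∃ x ∈ S, g = W.zG ^ (k : ℕ) * x}.ncard = 3 * S.ncard := by
  rw [← Nat.card_coe_set_eq, ← Nat.card_coe_set_eq,
    show ∀ n, 3 * n = Nat.card (Fin 3) * n from fun n => by simp, ← Nat.card_prod]
  refine (Nat.card_congr (Equiv.ofBijective (fun p : Fin 3 × S =>
    (⟨W.zG ^ (p.1 : ℕ) * p.2, p.1, p.2, p.2.2, rfl⟩ :
      {g | ∃ k : Fin 3, ∃ x ∈ S, g = W.zG ^ (k : ℕ) * x})) ⟨?_, ?_⟩)).symm
  · rintro ⟨k, x, hx⟩ ⟨k', x', hx'⟩ e
    simp only [Subtype.mk.injEq] at e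
    have hz : ∀ n : ℕ, (W.zG ^ n) ^ 3 = 1 := fun n => by
      rw [← pow_mul, mul_comm, pow_mul, W.z_pow_three, one_pow]
    have hc : ∀ (n : ℕ) (g : G3), Commute (W.zG ^ n) g := fun n g => Commute.pow_left (W.zG_comm g) n
    obtain rfl : x = x' := by
      have hx1 : x⁻¹ * x' = W.zG ^ (k : ℕ) * (W.zG ^ (k' : ℕ))⁻¹ := by
        rw [inv_mul_eq_iff_eq_mul, eq_inv_mul_iff_mul_eq.2 e.symm, ← mul_assoc,
          ((hc k' x).inv_left.mul_left (hc k x)).eq, ((hc k' (W.zG ^ (k : ℕ))).inv_left).eq]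
      have hcx : x * x' = x' * x := by
        have : x' = x * (W.zG ^ (k : ℕ) * (W.zG ^ (k' : ℕ))⁻¹) := by rw [← hx1, mul_inv_cancel_left]
        rw [this, mul_assoc, ((hc k x).mul_left (hc k' x).inv_left).eq]
      have hreg : x⁻¹ * x' ∈ regSet M :=
        regSet.mul (x := x⁻¹) ⟨inv_mem (hS hx).1, by rw [orderOf_inv]; exact (hS hx).2⟩ (hS hx')
          (Commute.inv_left hcx).eq
      have := regSet.eq_one (j := 1) hreg (by rw [hx1, pow_one, Commute.mul_pow (hc _ _), inv_pow, hz, hz]; simp)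
      exact (inv_mul_eq_one.1 this)
    have h9' : W.zG ^ (k : ℕ) * W.dG ^ ((0 : Fin 3) : ℕ) = W.zG ^ (k' : ℕ) * W.dG ^ ((0 : Fin 3) : ℕ) := by
      rw [mul_right_cancel e]
    have := zd_injective (W := W) (a₁ := (k, 0)) (a₂ := (k', 0)) h9'
    simp only [Prod.mk.injEq] at this
    exact Prod.ext this.1 rfl
  · rintro ⟨g, k, x, hx, rfl⟩
    exact ⟨(k, ⟨x, hx⟩), rfl⟩

theorem card_scalar_mul_reg (L : Subgroup G3) (hL : L ≤ M) (h : Hyp W M) :
    {g | ∃ k : Fin 3, ∃ x ∈ regSet L, g = W.zG ^ (k : ℕ) * x}.ncard = 3 * (regSet L).ncard :=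
  card_scalar_mul (regSet L) (fun _ hx => ⟨hL hx.1, hx.2⟩) h

theorem mem_scalar_mul_reg (h : Hyp W M) {L : Subgroup G3} {g : G3} (hg : g ∈ L) {a b j : ℕ}
    (haj : (g ^ a) ^ 3 ^ j = 1) (hgb : g ^ b ∈ regSet L) (he : g ^ a * g ^ b = g) (hL : L ≤ M)
    (hs : IsScal ((g ^ a : G3) : M3)) : g ∈ {g | ∃ k : Fin 3, ∃ x ∈ regSet L, g = W.zG ^ (k : ℕ) * x} := by
  obtain ⟨c, hc⟩ := hs
  have hdet : ((g ^ a : G3) : M3).det = 1 := mem_specialLinear_iff.1 (h.sl (pow_mem (hL hg) a))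
  rw [hc, det_smul, Fintype.card_fin, det_one, mul_one] at hdet
  have hprim : IsPrimitiveRoot W.ω 3 := (IsPrimitiveRoot.iff (by norm_num)).2 ⟨W.cube, fun i hi hi3 => by
    interval_cases i
    exacts [by simpa using W.ne_one, W.sq_ne_one]⟩
  obtain ⟨k, hk, hk'⟩ := hprim.eq_pow_of_pow_eq_one hdet
  refine ⟨⟨k, hk⟩, g ^ b, hgb, ?_⟩
  conv_lhs => rw [← he]
  congr 1
  exact Units.ext (by rw [hc, ← hk', Omega.z_val])

/-- The order of `M` in terms of its elements of order prime to three. -/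
theorem card_eq_regSet (h : Hyp W M) (h9 : ∀ ζ : F, ζ ^ 3 ≠ W.ω) :
    27 * (regSet M).ncard = 8 * Nat.card M ∧
      9 * (conjSet M {W.dG}).ncard = Nat.card M := by
  have hT : (conjSet M {W.dG}).ncard * 9 = Nat.card M := by
    have := card_conjSet (M := M) (H := M ⊓ Subgroup.centralizer {W.dG}) (S := {W.dG}) inf_le_left
      (fun g hg s hs => by
        rw [Set.mem_singleton_iff] at hs ⊢
        rw [hs, Subgroup.mem_centralizer_singleton_iff.1 hg.2, mul_inv_cancel_right])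
      (fun g hg s hs e => by
        rw [Set.mem_singleton_iff] at hs e
        rw [hs] at e
        exact ⟨hg, Subgroup.mem_centralizer_singleton_iff.2 (mul_inv_eq_iff_eq_mul.1 e)⟩)
    rwa [card_cent_d h h9, Set.ncard_singleton, mul_one] at this
  set S := {g | ∃ k : Fin 3, ∃ x ∈ regSet M, g = W.zG ^ (k : ℕ) * x} with hS
  have hun : (M : Set G3) = conjSet M {W.dG} ∪ S := by
    refine Set.Subset.antisymm (fun g hg => ?_) (Set.union_subset ?_ ?_)
    · obtain ⟨a, b, j, haj, hgb, he⟩ := exists_decomp (L := M) hg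
      by_cases hs : IsScal ((g ^ a : G3) : M3)
      · exact .inr (mem_scalar_mul_reg h hg haj hgb he le_rfl hs)
      · refine .inl ?_
        have hb : g ^ b = 1 := regSet.eq_one (j := 1) hgb (by
          rw [pow_one]
          exact pow_three_of_comm h h9 (pow_mem hg a) haj hs hgb.1 (Commute.pow_pow (Commute.refl g) b a).eq)
        rw [hb, mul_one] at he
        rw [he] at haj hs
        obtain ⟨x, hx, hxg⟩ := (three_conj h h9 hg haj).resolve_left fun ⟨k, e⟩ => hs ⟨_, e ▸ W.z_val k⟩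
        exact ⟨x⁻¹, inv_mem hx, W.dG, rfl, by rw [← hxg]; group⟩
    · rintro _ ⟨x, hx, s, rfl, rfl⟩; exact mul_mem (mul_mem hx h.d) (inv_mem hx)
    · rintro _ ⟨k, x, hx, rfl⟩; exact mul_mem (pow_mem (h.heis_le W.z_mem) _) hx.1
  have hdisj : Disjoint (conjSet M {W.dG}) S := by
    rw [Set.disjoint_left]
    rintro _ ⟨g, hg, s, rfl, rfl⟩ ⟨k, x, hx, e⟩
    have hx' : g⁻¹ * x * g ∈ regSet M := by simpa using regSet.conj (L := M) (inv_mem hg) hx
    have e' : W.dG = W.zG ^ (k : ℕ) * (g⁻¹ * x * g) := by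
      rw [← mul_assoc, ← mul_assoc, (Commute.pow_left (W.zG_comm g⁻¹) (k : ℕ)).eq, mul_assoc g⁻¹, ← e]
      group
    have h1 : g⁻¹ * x * g = 1 := regSet.eq_one (j := 1) hx' (by
      rw [pow_one]
      have := congrArg (· ^ 3) e'

      rwa [W.d_pow_three, Commute.mul_pow (Commute.pow_left (W.zG_comm _) _), ← pow_mul, mul_comm _ 3, pow_mul,
        W.z_pow_three, one_pow, one_mul, eq_comm] at this)
    rw [h1, mul_one] at e'
    exact dG_not_scal (W := W) ⟨_, by rw [e']; exact W.z_val k⟩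
  have hcard : Nat.card M = (conjSet M {W.dG}).ncard + 3 * (regSet M).ncard := by
    rw [← card_scalar_mul_reg M le_rfl h, ← hS,
      ← Set.ncard_union_eq hdisj (Set.toFinite _) (Set.toFinite _), ← hun]
    exact Nat.card_coe_set_eq _
  omega

end CfsgLib.Classical.GeoThree.C6
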