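import Cfsg.Agent.Lib.Classical.GeoThree.C6.Reg

/-!
# The centraliser of the central involution of the quaternion group
-/

set_option autoImplicit false
set_option linter.unusedSectionVars false
set_option linter.style.haveILetI false
set_option backward.isDefEq.respectTransparency false

open Matrix

namespace CfsgLib.Classical.GeoThree.C6

variable {F : Type*} [Field F] [Finite F] [Fact ((2 : F) ≠ 0)]
  {M : Subgroup (GL (Fin 3) F)} {W : Omega F}

local notation "M3" => Matrix (Fin 3) (Fin 3) F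
local notation "G3" => GL (Fin 3) F
local notation "M2" => Matrix (Fin 2) (Fin 2) F

theorem mem_sigma {g : G3} (hg : g ∈ M) (hc : g * W.sG = W.sG * g) : g ∈ blockSub M W.bG :=
  mem_blockSub.2 ⟨hg, by rw [← W.sG_eq]; exact hc⟩

theorem comm_sigma {g : G3} (hg : g ∈ blockSub M W.bG) : g * W.sG = W.sG * g := by
  rw [W.sG_eq]; exact (mem_blockSub.1 hg).2

theorem fG_mem_sigma (h : Hyp W M) : W.fG ∈ blockSub M W.bG :=
  mem_sigma h.f (by rw [← W.fG_sq, mul_assoc])

theorem jG_sq : W.jG * W.jG = W.sG := by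
  have hs := W.s_ne
  have h2 := W.s_sq
  have hr := W.root
  ext i j; fin_cases i <;> fin_cases j <;>
    simp [Omega.jG, Omega.sG, Matrix.mul_apply, Fin.sum_univ_three] <;> field_simp <;> grind

theorem jG_mem_sigma (h : Hyp W M) : W.jG ∈ blockSub M W.bG :=
  mem_sigma h.j (by rw [← jG_sq, mul_assoc])

theorem fG_toA (h : Hyp W M) :
    (toA M W.bG ⟨W.fG, fG_mem_sigma h⟩ : M2) = W.s⁻¹ • !![1, 2; 1, -1] ∧
      toC M W.bG ⟨W.fG, fG_mem_sigma h⟩ = 1 := by
  have hs := W.s_ne
  have h2 := W.two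
  have hs2 := W.s_sq
  have hr := W.root
  refine ⟨?_, ?_⟩
  · rw [toA_val]; ext i j
    fin_cases i <;> fin_cases j <;>
      simp [topBlock, blockAt, Omega.fG, Omega.bG, Matrix.mul_apply, Fin.sum_univ_three] <;>
      field_simp <;> grind
  · show blockAt W.bG W.fG 2 2 = 1
    simp [blockAt, Omega.fG, Omega.bG, Matrix.mul_apply, Fin.sum_univ_three]
    field_simp
    grind [Omega.s]

theorem jG_toA (h : Hyp W M) :
    (toA M W.bG ⟨W.jG, jG_mem_sigma h⟩ : M2) = W.s⁻¹ • !![1, 2 * W.ω ^ 2; W.ω, -1] ∧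
      toC M W.bG ⟨W.jG, jG_mem_sigma h⟩ = 1 := by
  have hs := W.s_ne
  have h2 := W.two
  have hs2 := W.s_sq
  have hr := W.root
  refine ⟨?_, ?_⟩
  · rw [toA_val]; ext i j
    fin_cases i <;> fin_cases j <;>
      simp [topBlock, blockAt, Omega.jG, Omega.bG, Matrix.mul_apply, Fin.sum_univ_three] <;>
      field_simp <;> grind
  · show blockAt W.bG W.jG 2 2 = 1
    simp [blockAt, Omega.jG, Omega.bG, Matrix.mul_apply, Fin.sum_univ_three]
    field_simp
    grind [Omega.s]

/-- One of the three images of the quaternion generators pairs with a given traceless matrix. -/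
theorem exists_pairing (h : Hyp W M) {A : M2} (htr : A.trace = 0) (hA : A ≠ 0) :
    ∃ v : blockSub M W.bG, toC M W.bG v = 1 ∧ (toA M W.bG v : M2).trace = 0 ∧
      (∃ c : F, (toA M W.bG v : M2) ^ 2 = c • 1) ∧ (A * (toA M W.bG v : M2)).trace ≠ 0 := by
  by_contra hall
  push Not at hall
  obtain ⟨fA, fC⟩ := fG_toA h
  obtain ⟨jA, jC⟩ := jG_toA h
  have hs := W.s_ne
  have h2 := W.two
  have hsq : ∀ {X : M2}, X.trace = 0 → ∃ c : F, X ^ 2 = c • 1 := fun {X} e => ⟨-X.det, by
    rw [trace_fin_two] at e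
    rw [det_fin_two]
    ext i j; fin_cases i <;> fin_cases j <;> simp [sq, Matrix.mul_apply, Fin.sum_univ_two] <;> grind⟩
  have tf : (toA M W.bG ⟨W.fG, fG_mem_sigma h⟩ : M2).trace = 0 := by
    rw [fA]; simp [trace_fin_two]
  have tj : (toA M W.bG ⟨W.jG, jG_mem_sigma h⟩ : M2).trace = 0 := by
    rw [jA]; simp [trace_fin_two]
  have tfj : (toA M W.bG (⟨W.fG, fG_mem_sigma h⟩ * ⟨W.jG, jG_mem_sigma h⟩) : M2).trace = 0 := by
    rw [map_mul, Units.val_mul, fA, jA]
    simp [trace_fin_two, Matrix.mul_apply, Fin.sum_univ_two]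
    field_simp
    grind [W.root]
  obtain ⟨cf, hcf⟩ := hsq tf
  obtain ⟨cj, hcj⟩ := hsq tj
  obtain ⟨cfj, hcfj⟩ := hsq tfj
  have e1 := hall _ fC tf ⟨_, hcf⟩
  have e2 := hall _ jC tj ⟨_, hcj⟩
  have e3 := hall _ (by rw [map_mul, fC, jC, one_mul]) tfj ⟨_, hcfj⟩
  rw [fA] at e1
  rw [jA] at e2
  rw [map_mul, Units.val_mul, fA, jA] at e3
  rw [trace_fin_two] at htr
  simp [trace_fin_two, Matrix.mul_apply, Fin.sum_univ_two] at e1 e2 e3
  field_simp at e1 e2 e3
  have hr := W.root
  have hω := W.ne_one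
  have hω2 := W.sq_ne_one
  have h3 := W.three
  refine hA ?_
  have hb : A 0 1 = 0 := by grind
  have hc : A 1 0 = 0 := by grind
  have ha : A 0 0 = 0 := by grind
  ext i j; fin_cases i <;> fin_cases j <;> simp [ha, hb, hc]
  linear_combination htr - ha

/-- A matrix commuting with a non-scalar `2 × 2` matrix. -/
theorem eq_of_commute_two {A X : M2} (hA : ¬ ∃ c : F, A = c • 1) (hc : X * A = A * X) :
    ∃ a b : F, X = a • 1 + b • A := by
  have e00 := congrFun (congrFun hc 0) 0
  have e01 := congrFun (congrFun hc 0) 1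
  have e10 := congrFun (congrFun hc 1) 0
  simp [Matrix.mul_apply, Fin.sum_univ_two] at e00 e01 e10
  by_cases h01 : A 0 1 = 0
  · by_cases h10 : A 1 0 = 0
    · have hne : A 0 0 - A 1 1 ≠ 0 := fun e => hA ⟨A 0 0, by
        ext i j; fin_cases i <;> fin_cases j <;> simp [h01, h10] <;> linear_combination -e⟩
      refine ⟨X 0 0 - (X 0 0 - X 1 1) / (A 0 0 - A 1 1) * A 0 0, (X 0 0 - X 1 1) / (A 0 0 - A 1 1), ?_⟩
      ext i j; fin_cases i <;> fin_cases j <;> simp [h01, h10] <;> (try field_simp) <;> grind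
    · refine ⟨X 0 0 - X 1 0 / A 1 0 * A 0 0, X 1 0 / A 1 0, ?_⟩
      ext i j; fin_cases i <;> fin_cases j <;> simp <;> field_simp <;> grind
  · refine ⟨X 0 0 - X 0 1 / A 0 1 * A 0 0, X 0 1 / A 0 1, ?_⟩
    ext i j; fin_cases i <;> fin_cases j <;> simp <;> field_simp <;> grind

/-- A regular element with scalar action on the eigenplane squares to one. -/
theorem sq_of_scalar_block (h : Hyp W M) (h9 : ∀ ζ : F, ζ ^ 3 ≠ W.ω) {g : blockSub M W.bG}
    (hg : (g : G3) ∈ regSet M) (hs : ∃ c : F, (toA M W.bG g : M2) = c • 1) : (g : G3) * g = 1 := by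
  obtain ⟨a, ha⟩ := hs
  by_contra hne
  have hcomm : ∀ x : blockSub M W.bG, g * x = x * g := fun x => ext_block (Units.ext (by
      rw [map_mul, map_mul, Units.val_mul, Units.val_mul, ha, smul_mul_assoc, mul_smul_comm, one_mul, mul_one]))
    (by rw [map_mul, map_mul, mul_comm])
  have hfj := comm_of_reg h h9 hg hne (congrArg Subtype.val (hcomm ⟨_, fG_mem_sigma h⟩).symm)
    (congrArg Subtype.val (hcomm ⟨_, jG_mem_sigma h⟩).symm)
  have e := congrArg (fun u => ((toA M W.bG u : GL (Fin 2) F) : M2))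
    (show (⟨W.fG, fG_mem_sigma h⟩ : blockSub M W.bG) * ⟨W.jG, jG_mem_sigma h⟩ =
      ⟨W.jG, jG_mem_sigma h⟩ * ⟨W.fG, fG_mem_sigma h⟩ from Subtype.ext hfj)
  simp only [map_mul, Units.val_mul, (fG_toA h).1, (jG_toA h).1] at e
  have e00 := congrFun (congrFun e 0) 0
  simp [Matrix.mul_apply, Fin.sum_univ_two] at e00
  have hs := W.s_ne
  field_simp at e00
  exact W.sq_ne (mul_left_cancel₀ W.two (by linear_combination -e00))

/-- The involutions other than `σ` in its centraliser. -/
theorem involution_block (h : Hyp W M) {ε : blockSub M W.bG} (hee : (ε : G3) * ε = 1) (he1 : (ε : G3) ≠ 1)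
    (hes : (ε : G3) ≠ W.sG) :
    (¬ ∃ c : F, (toA M W.bG ε : M2) = c • 1) ∧ (toA M W.bG ε : M2).trace = 0 ∧
      (toA M W.bG ε : M2) * (toA M W.bG ε : M2) = 1 ∧ toC M W.bG ε = -1 := by
  have h2 : (2 : F) ≠ 0 := W.two
  have hee' : ε * ε = 1 := Subtype.ext hee
  have hA : (toA M W.bG ε : M2) * (toA M W.bG ε : M2) = 1 := by
    rw [← Units.val_mul, ← map_mul, hee', map_one, Units.val_one]
  have hdc := toA_det_mul_toC (M := M) (B := W.bG) ε
  rw [show ((ε : G3) : M3).det = 1 from mem_specialLinear_iff.1 (h.sl (mem_blockSub.1 ε.2).1)] at hdc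
  have hns : ¬ ∃ c : F, (toA M W.bG ε : M2) = c • 1 := by
    rintro ⟨a, ha⟩
    rw [ha, det_smul, Fintype.card_fin, det_one, mul_one] at hdc
    rw [ha, smul_mul_smul_comm, one_mul] at hA
    have haa : a * a = 1 := by
      have := congrFun (congrFun hA 0) 0
      simpa using this
    have hC : toC M W.bG ε = 1 := by rw [sq, haa, one_mul] at hdc; exact hdc
    rcases mul_self_eq_one_iff.1 haa with rfl | rfl
    · refine he1 (congrArg Subtype.val (ext_block (h := (1 : blockSub M W.bG)) (Units.ext ?_) ?_))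
      · rw [ha, map_one, Units.val_one, one_smul]
      · rw [hC, map_one]
    · have hs : W.sG ∈ blockSub M W.bG := mem_sigma h.sigma rfl
      refine hes (congrArg Subtype.val (ext_block (h := (⟨W.sG, hs⟩ : blockSub M W.bG)) (Units.ext ?_) ?_))
      · have e : blockAt W.bG W.sG = zMat := by
          rw [blockAt, W.sG_eq, show W.bG⁻¹ * (W.bG * z0 * W.bG⁻¹) * W.bG = z0 by group, z0_val]
        rw [ha, toA_val, e]; ext i j; fin_cases i <;> fin_cases j <;> simp [topBlock, zMat]
      · rw [hC]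
        show (1 : F) = blockAt W.bG W.sG 2 2
        rw [blockAt, W.sG_eq, show W.bG⁻¹ * (W.bG * z0 * W.bG⁻¹) * W.bG = z0 by group, z0_val]
        simp [zMat]
  have htr := (pow_scalar hns).1 ⟨1, by rw [sq, hA, one_smul]⟩
  refine ⟨hns, htr, hA, ?_⟩
  have hd : (toA M W.bG ε : M2).det = -1 := by
    have e := congrFun (congrFun hA 0) 0
    simp [Matrix.mul_apply, Fin.sum_univ_two] at e
    rw [trace_fin_two] at htr
    rw [det_fin_two]
    linear_combination -e + (toA M W.bG ε : M2) 0 0 * htr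
  rw [hd] at hdc
  linear_combination -hdc

/-- A regular non-involution centralising `σ` commutes with no other involution there. -/
theorem no_second_involution (h : Hyp W M) (h9 : ∀ ζ : F, ζ ^ 3 ≠ W.ω) {y ε : blockSub M W.bG}
    (hy : (y : G3) ∈ regSet M) (hyy : (y : G3) * y ≠ 1) (hee : (ε : G3) * ε = 1) (he1 : (ε : G3) ≠ 1)
    (hc : y * ε = ε * y) : (ε : G3) = W.sG := by
  by_contra hes
  obtain ⟨hns, htr, hA, heC⟩ := involution_block h hee he1 hes
  set E : M2 := (toA M W.bG ε : M2) with hE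
  obtain ⟨a, b, hab⟩ := eq_of_commute_two hns (X := (toA M W.bG y : M2))
    (by rw [← Units.val_mul, ← Units.val_mul, ← map_mul, ← map_mul, hc])
  have hεreg : (ε : G3) ∈ regSet M := regSet.of_mul_self (mem_blockSub.1 ε.2).1 hee
  have hcg : (y : G3) * ε = ε * y := congrArg Subtype.val hc
  by_cases hb : b = 0
  · exact hyy (sq_of_scalar_block h h9 hy ⟨a, by rw [hab, hb, zero_smul, add_zero]⟩)
  by_cases ha : a = 0
  · have := sq_of_scalar_block h h9 (g := y * ε) (regSet.mul hy hεreg hcg) ⟨b, by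
      rw [map_mul, Units.val_mul, hab, ha, zero_smul, zero_add, smul_mul_assoc, hA]⟩
    refine hyy ?_
    rw [Subgroup.coe_mul, show (y : G3) * ε * (y * ε) = y * (ε * y) * ε by group, ← hcg,
      show (y : G3) * (y * ε) * ε = y * y * ((ε : G3) * ε) by group, hee, mul_one] at this
    exact this
  -- a quaternion element commuting projectively with `y`
  obtain ⟨v, hvC, hvtr, hv2, hvE⟩ := exists_pairing h htr
    (fun e => hns ⟨0, by rw [zero_smul]; exact e⟩)
  set V : M2 := (toA M W.bG v : M2)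
  have hy2 : toP M W.bG y ^ 2 ≠ 1 := fun e => by
    have hys : ¬ ∃ c : F, (toA M W.bG y : M2) = c • 1 := by
      rintro ⟨c, e'⟩
      rw [hab] at e'
      refine hns ⟨b⁻¹ * (c - a), ?_⟩
      rw [mul_smul, sub_smul, ← e', add_sub_cancel_left, inv_smul_smul₀ hb]
    have := (pow_scalar hys).1 (toP_pow_eq_one_iff.1 e)
    rw [hab, trace_add, trace_smul, trace_smul, htr, smul_zero, add_zero, trace_one, Fintype.card_fin,
      smul_eq_mul] at this
    simp [ha, W.two] at this
  have hvy2 : toP M W.bG (v * y) ^ 2 ≠ 1 := fun e => by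
    have hdet : ∀ g : blockSub M W.bG, (toA M W.bG g : M2).det ≠ 0 := fun g =>
      ((Matrix.isUnit_iff_isUnit_det _).1 (toA M W.bG g).isUnit).ne_zero
    have htr' : (toA M W.bG (v * y) : M2).trace = b * (E * V).trace := by
      rw [map_mul, Units.val_mul, hab, mul_add, mul_smul_comm, mul_smul_comm, mul_one, trace_add, trace_smul,
        trace_smul, hvtr, smul_zero, zero_add, Matrix.trace_mul_comm, smul_eq_mul]
    by_cases hsc : ∃ c : F, (toA M W.bG (v * y) : M2) = c • 1
    · have h1 : toP M W.bG v * toP M W.bG y = 1 := by rw [← map_mul]; exact toP_eq_one_iff.2 hsc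
      refine hy2 ?_
      rw [← inv_eq_of_mul_eq_one_right h1, inv_pow, inv_eq_one]
      exact toP_pow_eq_one_iff.2 hv2
    · have := (pow_scalar hsc).1 (toP_pow_eq_one_iff.1 e)
      rw [htr'] at this
      exact mul_ne_zero hb hvE this
  have hd := dihedralish h h9 W.bG _ (mem_range_toP (v * y)) _ (mem_range_toP y) hvy2 hy2
  rw [map_mul, ← mul_assoc (toP M W.bG y)] at hd
  have hvy : toP M W.bG (y * v) = toP M W.bG (v * y) := by
    rw [map_mul, map_mul]
    exact (mul_right_cancel hd).symm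
  obtain ⟨l, hl0, hl⟩ := toP_eq_iff.1 hvy
  rw [map_mul, map_mul, Units.val_mul, Units.val_mul] at hl
  have hVA : ∀ X : M2, V * X = l • (X * V) → l = 1 ∨ X.trace = 0 := by
    intro X e
    by_cases hl1 : l = 1
    · exact .inl hl1
    refine .inr ?_
    have hd := congrArg Matrix.trace (congrArg (fun Z => Z * ((toA M W.bG v)⁻¹ : GL (Fin 2) F).1) e)
    simp only [smul_mul_assoc, trace_smul, smul_eq_mul] at hd
    rw [Matrix.trace_mul_comm, ← mul_assoc, ← Units.val_mul, inv_mul_cancel, Units.val_one, one_mul,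
      mul_assoc, ← Units.val_mul, mul_inv_cancel, Units.val_one, mul_one] at hd
    exact (mul_eq_zero.1 (by linear_combination -hd : (l - 1) * X.trace = 0)).resolve_left (sub_ne_zero.2 hl1)
  rcases hVA _ hl with hl1 | htr'
  swap
  · rw [hab, trace_add, trace_smul, trace_smul, htr, smul_zero, add_zero, trace_one, Fintype.card_fin,
      smul_eq_mul] at htr'
    simp [ha, W.two] at htr'
  rw [hl1, one_smul, hab, mul_add, add_mul, mul_smul_comm, smul_mul_assoc, mul_smul_comm, smul_mul_assoc,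
    mul_one, one_mul] at hl
  have hVE : V * E = E * V := smul_right_injective _ hb (add_left_cancel hl)
  obtain ⟨a', b', hab'⟩ := eq_of_commute_two hns hVE
  have ha' : a' = 0 := by
    have : (toA M W.bG v : M2).trace = (a' • (1 : M2) + b' • E).trace := congrArg Matrix.trace hab'
    rw [hvtr, trace_add, trace_smul, trace_smul, htr, smul_zero, add_zero, trace_one, Fintype.card_fin,
      smul_eq_mul] at this
    simpa [W.two] using this.symm
  rw [ha', zero_smul, zero_add] at hab'
  have hvε : v * ε = ε * v := ext_block (Units.ext (by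
      rw [map_mul, map_mul, Units.val_mul, Units.val_mul]; exact hVE)) (by rw [map_mul, map_mul, mul_comm])
  -- `v * v` would be `1`
  obtain ⟨c2, hc2⟩ := hv2
  have hvdet : V.det = 1 := by
    have hdc := toA_det_mul_toC (M := M) (B := W.bG) v
    rwa [show ((v : G3) : M3).det = 1 from mem_specialLinear_iff.1 (h.sl (mem_blockSub.1 v.2).1), hvC,
      mul_one] at hdc
  have hb2 : b' * b' = -1 := by
    have hd : E.det = -1 := by
      have hdc := toA_det_mul_toC (M := M) (B := W.bG) ε
      rw [show ((ε : G3) : M3).det = 1 from mem_specialLinear_iff.1 (h.sl (mem_blockSub.1 ε.2).1), heC] at hdc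
      linear_combination -hdc
    have : (b' • E).det = 1 := hab' ▸ hvdet
    rw [det_smul, Fintype.card_fin, hd] at this
    linear_combination -this
  set v' := v * ε
  have hv'A : (toA M W.bG v' : M2) = b' • 1 := by
    rw [map_mul, Units.val_mul]
    change V * E = _
    rw [hab', smul_mul_assoc, hA]
  have hv'reg : (v' : G3) ∈ regSet M := by
    refine regSet.of_pow_two (mem_blockSub.1 v'.2).1 (j := 2) ?_
    have h4 : v' ^ 2 ^ 2 = 1 := ext_block (Units.ext (by
      rw [map_pow, map_one, Units.val_pow_eq_pow_val, hv'A, smul_pow, one_pow, Units.val_one,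
        show b' ^ 2 ^ 2 = (b' * b') * (b' * b') by ring, hb2, neg_one_mul, neg_neg, one_smul])) (by
      rw [map_pow, map_one, map_mul, hvC, heC]; norm_num)
    exact congrArg Subtype.val h4
  have := sq_of_scalar_block h h9 hv'reg ⟨b', hv'A⟩
  have hv'' : v' * v' = 1 := Subtype.ext this
  have e := congrArg (fun u => ((toA M W.bG u : GL (Fin 2) F) : M2) 0 0) hv''
  simp only [map_mul, Units.val_mul, hv'A, map_one, Units.val_one, smul_mul_smul_comm, one_mul, hb2] at e
  simp at e
  exact W.two (by linear_combination -e)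

end CfsgLib.Classical.GeoThree.C6
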