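import Cfsg.Agent.Lib.Classical.GeoThree.C6.Invol

/-!
# Counting inside the centraliser of `σ`
-/

set_option autoImplicit false
set_option linter.unusedSectionVars false
set_option linter.style.haveILetI false
set_option backward.isDefEq.respectTransparency false

open Matrix

namespace CfsgLib.Classical.GeoThree.C6

variable {F : Type*} [Field F] [Finite F] [Fact ((2 : F) ≠ 0)]
  {M : Subgroup (GL (Fin 3) F)} {W : Omega F}

local notation "M3" => Matrix (Fin 3) (Fin 3) F
local notation "G3" => GL (Fin 3) F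
local notation "M2" => Matrix (Fin 2) (Fin 2) F

theorem toC_sG (h : Hyp W M) : toC M W.bG ⟨W.sG, mem_sigma h.sigma rfl⟩ = 1 := by
  show blockAt W.bG W.sG 2 2 = 1
  rw [blockAt, W.sG_eq, show W.bG⁻¹ * (W.bG * z0 * W.bG⁻¹) * W.bG = z0 by group, z0_val]
  simp [zMat]

theorem fj_ne (h : Hyp W M) :
    (⟨W.fG, fG_mem_sigma h⟩ : blockSub M W.bG) * ⟨W.jG, jG_mem_sigma h⟩ ≠
      ⟨W.jG, jG_mem_sigma h⟩ * ⟨W.fG, fG_mem_sigma h⟩ := by
  intro e
  have e' := congrArg (fun u => ((toA M W.bG u : GL (Fin 2) F) : M2) 0 0) e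
  simp only [map_mul, Units.val_mul, (fG_toA h).1, (jG_toA h).1] at e'
  simp [Matrix.mul_apply, Fin.sum_univ_two] at e'
  have hs := W.s_ne
  field_simp at e'
  exact W.sq_ne (mul_left_cancel₀ W.two (by linear_combination -e'))

/-- The splitting into the scalar and the regular part. -/
theorem split_sigma (h : Hyp W M) (h9 : ∀ ζ : F, ζ ^ 3 ≠ W.ω) (g : blockSub M W.bG) :
    ∃ (k : ℕ) (x : blockSub M W.bG), (x : G3) ∈ regSet M ∧ (g : G3) = W.zG ^ k * x ∧
      (toA M W.bG g : M2) = W.ω ^ k • (toA M W.bG x : M2) ∧ toC M W.bG g = W.ω ^ k * toC M W.bG x := by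
  have hg : (g : G3) ∈ M ⊓ Subgroup.centralizer {W.sG} :=
    Subgroup.mem_inf.2 ⟨(mem_blockSub.1 g.2).1, Subgroup.mem_centralizer_singleton_iff.2 (comm_sigma g.2)⟩
  rw [← SetLike.mem_coe, (card_cent_involution h h9 h.sigma sG_mul_self sG_ne_one).1] at hg
  obtain ⟨k, x, hx, e⟩ := hg
  have hxc := (Subgroup.mem_inf.1 hx.1)
  have hxm : x ∈ blockSub M W.bG := mem_sigma hxc.1 (Subgroup.mem_centralizer_singleton_iff.1 hxc.2)
  have hb : blockAt W.bG (g : G3) = W.ω ^ (k : ℕ) • blockAt W.bG x := by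
    rw [e, blockAt_mul]
    have : blockAt W.bG (W.zG ^ (k : ℕ)) = W.ω ^ (k : ℕ) • (1 : M3) := by
      rw [blockAt, mul_assoc, (Commute.pow_left (W.zG_comm W.bG) (k : ℕ)).eq, inv_mul_cancel_left, Omega.z_val]
    rw [this, smul_mul_assoc, one_mul]
  refine ⟨k, ⟨x, hxm⟩, ⟨hxc.1, hx.2⟩, e, ?_, ?_⟩
  · rw [toA_val, toA_val, hb]
    ext i j; fin_cases i <;> fin_cases j <;> simp [topBlock]
  · show blockAt W.bG (g : G3) 2 2 = _
    rw [hb]; rfl

/-- Elements of prime-to-three order act by a sign on the fixed line. -/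
theorem toC_sq (h : Hyp W M) (h9 : ∀ ζ : F, ζ ^ 3 ≠ W.ω) {y : blockSub M W.bG}
    (hy : (y : G3) ∈ regSet M) : toC M W.bG y ^ 2 = 1 := by
  classical
  have hs : W.sG ∈ blockSub M W.bG := mem_sigma h.sigma rfl
  by_cases hy2 : toP M W.bG y ^ 2 = 1
  · obtain ⟨c, hc⟩ := toP_pow_eq_one_iff.1 hy2
    have h4 := sq_of_scalar_block h h9 (g := y * y) (regSet.mul hy hy rfl) ⟨c, by
      rw [map_mul, Units.val_mul, ← pow_two]; exact hc⟩
    have hC : toC M W.bG (y * y) = 1 := by
      by_cases hyy : (y : G3) * y = 1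
      · rw [show y * y = 1 from Subtype.ext hyy, map_one]
      · have := no_second_involution h h9 hy hyy (ε := y * y) h4 hyy (mul_assoc y y y).symm
        rw [show y * y = (⟨W.sG, hs⟩ : blockSub M W.bG) from Subtype.ext this, toC_sG h]
    rw [pow_two, ← map_mul, hC]
  have hys : ¬ ∃ c : F, (toA M W.bG y : M2) = c • 1 := fun e => hy2 (by
    rw [toP_eq_one_iff.2 e, one_pow])
  have hyt : (toA M W.bG y : M2).trace ≠ 0 := fun e => hy2 (toP_pow_eq_one_iff.2
    ⟨-(toA M W.bG y : M2).det, by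
      rw [trace_fin_two] at e
      rw [det_fin_two]
      ext i j; fin_cases i <;> fin_cases j <;> simp [sq, Matrix.mul_apply, Fin.sum_univ_two] <;> grind⟩)
  -- an inverting quaternion element
  obtain ⟨v, hv2, hvy⟩ : ∃ v : blockSub M W.bG, toP M W.bG v ^ 2 = 1 ∧
      toP M W.bG v * toP M W.bG y ≠ toP M W.bG y * toP M W.bG v := by
    have exact_comm : ∀ v : blockSub M W.bG, toP M W.bG v * toP M W.bG y = toP M W.bG y * toP M W.bG v →
        (toA M W.bG v : M2) * (toA M W.bG y : M2) = (toA M W.bG y : M2) * (toA M W.bG v : M2) := by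
      intro v e
      rw [← map_mul, ← map_mul] at e
      obtain ⟨l, -, hl⟩ := toP_eq_iff.1 e.symm
      rw [map_mul, map_mul, Units.val_mul, Units.val_mul] at hl
      have hd := congrArg Matrix.trace (congrArg (fun Z => Z * ((toA M W.bG v)⁻¹ : GL (Fin 2) F).1) hl)
      simp only [smul_mul_assoc, trace_smul, smul_eq_mul] at hd
      rw [Matrix.trace_mul_comm, ← mul_assoc, ← Units.val_mul, inv_mul_cancel, Units.val_one, one_mul,
        mul_assoc, ← Units.val_mul, mul_inv_cancel, Units.val_one, mul_one] at hd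
      have : l = 1 := mul_right_cancel₀ hyt (by linear_combination -hd)
      rwa [this, one_smul] at hl
    have sq2 : ∀ v : blockSub M W.bG, (toA M W.bG v : M2).trace = 0 → toP M W.bG v ^ 2 = 1 := fun v e =>
      toP_pow_eq_one_iff.2 ⟨-(toA M W.bG v : M2).det, by
        rw [trace_fin_two] at e
        rw [det_fin_two]
        ext i j; fin_cases i <;> fin_cases j <;> simp [sq, Matrix.mul_apply, Fin.sum_univ_two] <;> grind⟩
    by_contra hall
    push Not at hall
    have ef := exact_comm _ (hall ⟨W.fG, fG_mem_sigma h⟩ (sq2 _ (by rw [(fG_toA h).1]; simp [trace_fin_two])))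
    have ej := exact_comm _ (hall ⟨W.jG, jG_mem_sigma h⟩ (sq2 _ (by rw [(jG_toA h).1]; simp [trace_fin_two])))
    have hfs : ¬ ∃ c : F, (toA M W.bG ⟨W.fG, fG_mem_sigma h⟩ : M2) = c • 1 := by
      rintro ⟨c, e⟩
      rw [(fG_toA h).1] at e
      have := congrFun (congrFun e 1) 0
      simp [W.s_ne] at this
    obtain ⟨a, b, hab⟩ := eq_of_commute_two hfs ef.symm
    by_cases hb : b = 0
    · exact hys ⟨a, by rw [hab, hb, zero_smul, add_zero]⟩
    rw [hab, mul_add, add_mul, mul_smul_comm, smul_mul_assoc, mul_smul_comm, smul_mul_assoc, mul_one,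
      one_mul] at ej
    have hjf : (toA M W.bG ⟨W.jG, jG_mem_sigma h⟩ : M2) * (toA M W.bG ⟨W.fG, fG_mem_sigma h⟩ : M2) =
        (toA M W.bG ⟨W.fG, fG_mem_sigma h⟩ : M2) * (toA M W.bG ⟨W.jG, jG_mem_sigma h⟩ : M2) :=
      smul_right_injective _ hb (add_left_cancel ej)
    exact fj_ne h (ext_block (Units.ext (by rw [map_mul, map_mul, Units.val_mul, Units.val_mul, hjf]))
      (by rw [map_mul, map_mul, mul_comm]))
  have hinv : (toP M W.bG v * toP M W.bG y) ^ 2 = 1 := by
    by_contra hne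
    have hd := dihedralish h h9 W.bG _ (mul_mem (mem_range_toP v) (mem_range_toP y)) _ (mem_range_toP y) hne hy2
    rw [← mul_assoc (toP M W.bG y)] at hd
    exact hvy (mul_right_cancel hd)
  obtain ⟨k, x, hx, -, hxA, hxC⟩ := split_sigma h h9 (v * y * v⁻¹ * y)
  have hw : toP M W.bG (v * y * v⁻¹ * y) = 1 := by
    have e : (toP M W.bG v)⁻¹ = toP M W.bG v := inv_eq_of_mul_eq_one_left (by rw [← pow_two]; exact hv2)
    rw [map_mul, map_mul, map_mul, map_inv, e, mul_assoc (toP M W.bG v * toP M W.bG y), ← pow_two, hinv]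
  obtain ⟨c, hc⟩ := toP_eq_one_iff.1 hw
  have hxs : ∃ c : F, (toA M W.bG x : M2) = c • 1 := ⟨(W.ω ^ k)⁻¹ * c, by
    rw [mul_smul, ← hc, hxA, inv_smul_smul₀ (pow_ne_zero _ W.ne_zero)]⟩
  have hxx := sq_of_scalar_block h h9 hx hxs
  have hx1 : toC M W.bG x = 1 := by
    by_cases hx1 : (x : G3) = 1
    · rw [show x = 1 from Subtype.ext hx1, map_one]
    by_cases hxσ : (x : G3) = W.sG
    · rw [show x = (⟨W.sG, hs⟩ : blockSub M W.bG) from Subtype.ext hxσ, toC_sG h]
    exact absurd hxs (involution_block h hxx hx1 hxσ).1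
  have hC : toC M W.bG y ^ 2 = W.ω ^ k := by
    rw [hx1, mul_one, map_mul, map_mul, map_mul] at hxC
    have hvv : toC M W.bG v * toC M W.bG v⁻¹ = 1 := by rw [← map_mul, mul_inv_cancel, map_one]
    linear_combination hxC - toC M W.bG y ^ 2 * hvv
  have h6 : toC M W.bG y ^ 6 = 1 := by
    rw [show 6 = 2 * 3 from rfl, pow_mul, hC, ← pow_mul, mul_comm, pow_mul, W.cube, one_pow]
  have hord : toC M W.bG y ^ orderOf (y : G3) = 1 := by
    rw [← map_pow, show y ^ orderOf (y : G3) = 1 from Subtype.ext (by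
      rw [SubgroupClass.coe_pow, pow_orderOf_eq_one, Subgroup.coe_one]), map_one]
  have hd6 : orderOf (toC M W.bG y) ∣ 6 := orderOf_dvd_of_pow_eq_one h6
  have hdo := orderOf_dvd_of_pow_eq_one hord
  have h3 : ¬ 3 ∣ orderOf (toC M W.bG y) := fun e => hy.2 (e.trans hdo)
  refine orderOf_dvd_iff_pow_eq_one.1 ?_
  exact (((Nat.Prime.coprime_iff_not_dvd Nat.prime_three).2 h3).symm).dvd_of_dvd_mul_right
    (by rwa [show 2 * 3 = 6 from rfl])

/-- The exact count of the elements attached to `σ`. -/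
theorem phiSet_sigma (h : Hyp W M) (h9 : ∀ ζ : F, ζ ^ 3 ≠ W.ω) :
    ((phiSet M W.sG).ncard + 1 = (regSet (M ⊓ Subgroup.centralizer {W.sG})).ncard ∧
        8 ≤ (regSet (M ⊓ Subgroup.centralizer {W.sG})).ncard) ∨
      (4 * (phiSet M W.sG).ncard + 4 = 3 * (regSet (M ⊓ Subgroup.centralizer {W.sG})).ncard ∧
        16 ≤ (regSet (M ⊓ Subgroup.centralizer {W.sG})).ncard) := by
  classical
  obtain ⟨hL, hcard⟩ := card_cent_involution h h9 h.sigma sG_mul_self sG_ne_one
  set L := M ⊓ Subgroup.centralizer {W.sG} with hLdef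
  have hLb : L = blockSub M W.bG := by rw [hLdef, blockSub, ← W.sG_eq]
  have hmemL : ∀ {x}, x ∈ L → x ∈ blockSub M W.bG := fun {x} hx => hLb ▸ hx
  set R := regSet L with hR
  have hRM : R ⊆ regSet M := fun x hx => ⟨(Subgroup.mem_inf.1 hx.1).1, hx.2⟩
  have hR' : ∀ {x : blockSub M W.bG}, (x : G3) ∈ regSet M → (x : G3) ∈ R := fun {x} hx =>
    ⟨by rw [hLb]; exact x.2, hx.2⟩
  set I := {x ∈ R | x * x = 1 ∧ x ≠ 1 ∧ x ≠ W.sG} with hI
  have hσR : W.sG ∈ R := hR' (x := ⟨W.sG, mem_sigma h.sigma rfl⟩) (regSet.of_mul_self h.sigma (sG_mul_self (W := W)))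
  have h1R : (1 : G3) ∈ R := regSet.one L
  have hphi : phiSet M W.sG = R \ (insert 1 I) := by
    ext y
    constructor
    · rintro ⟨hy, hor⟩
      have hyc : y * W.sG = W.sG * y := by rcases hor with rfl | ⟨-, e⟩ <;> [rfl; exact e]
      refine ⟨hR' (x := ⟨y, mem_sigma hy.1 hyc⟩) hy, fun hmem => ?_⟩
      rcases hor with rfl | ⟨hyy, -⟩
      · rcases hmem with e | ⟨-, -, -, e⟩
        exacts [sG_ne_one e, e rfl]
      · rcases hmem with rfl | ⟨-, e, -⟩
        exacts [hyy (one_mul 1), hyy e]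
    · rintro ⟨hy, hn⟩
      refine ⟨hRM hy, ?_⟩
      by_cases hyy : y * y = 1
      · by_contra hne
        exact hn (if h1 : y = 1 then .inl h1 else .inr ⟨hy, hyy, h1, fun e => hne (.inl e)⟩)
      · exact .inr ⟨hyy, comm_sigma (hmemL hy.1)⟩
  have hins : insert (1 : G3) I ⊆ R := Set.insert_subset h1R (Set.sep_subset R _)
  have hphic : (phiSet M W.sG).ncard + (I.ncard + 1) = R.ncard := by
    rw [hphi, ← Set.ncard_insert_of_notMem (a := (1 : G3)) (s := I) (fun e => e.2.2.1 rfl) (Set.toFinite _)]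
    exact Set.ncard_diff_add_ncard_of_subset hins (Set.toFinite _)
  have hCsq : ∀ g : blockSub M W.bG, toC M W.bG g ^ 6 = 1 := fun g => by
    obtain ⟨k, x, hx, -, -, hC⟩ := split_sigma h h9 g
    rw [hC, mul_pow, show 6 = 3 * 2 from rfl, ← pow_mul, mul_comm k, mul_assoc, pow_mul, W.cube, one_pow,
      one_mul, mul_comm, pow_mul, toC_sq h h9 hx, one_pow]
  let χ : blockSub M W.bG →* F :=
    { toFun := fun g => toC M W.bG g ^ 3
      map_one' := by simp
      map_mul' := fun a b => by simp [mul_pow] }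
  have hχ : ∀ g, χ g = 1 ∨ χ g = -1 := fun g => mul_self_eq_one_iff.1 (by
    show toC M W.bG g ^ 3 * toC M W.bG g ^ 3 = 1
    rw [← pow_add]; exact hCsq g)
  have h2 : (2 : F) ≠ 0 := W.two
  have hneg : (-1 : F) ≠ 1 := fun e => h2 (by linear_combination -e)
  have hωc : ∀ k : ℕ, (W.ω ^ k) ^ 3 = 1 := fun k => by rw [← pow_mul, mul_comm, pow_mul, W.cube, one_pow]
  have hχreg : ∀ {x : blockSub M W.bG}, (x : G3) ∈ regSet M → χ x = toC M W.bG x := fun {x} hx => by
    show toC M W.bG x ^ 3 = _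
    rw [pow_succ, toC_sq h h9 hx, one_mul]
  set C1 : Subgroup (blockSub M W.bG) := χ.ker
  -- a group of order at least twenty-four inside the kernel
  have h24 : 24 ≤ Nat.card C1 := by
    set f : blockSub M W.bG := ⟨W.fG, fG_mem_sigma h⟩ with hf
    set j : blockSub M W.bG := ⟨W.jG, jG_mem_sigma h⟩ with hj
    have hzm : W.zG ∈ blockSub M W.bG := mem_sigma (h.heis_le W.z_mem) (W.zG_comm _)
    set z : blockSub M W.bG := ⟨W.zG, hzm⟩ with hz
    have hf1 : f ∈ C1 := by show χ f = 1; rw [hχreg (fG_reg h), (fG_toA h).2]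
    have hj1 : j ∈ C1 := by
      show χ j = 1
      show toC M W.bG j ^ 3 = 1
      rw [(jG_toA h).2, one_pow]
    have hz1 : z ∈ C1 := by
      show toC M W.bG z ^ 3 = 1
      rw [← map_pow, show z ^ 3 = 1 from Subtype.ext (by rw [SubgroupClass.coe_pow, hz, W.z_pow_three]; rfl), map_one]
    have hzf : Commute z f := Subtype.ext (W.zG_comm W.fG)
    have hoz : orderOf z = 3 := by
      rw [← Subgroup.orderOf_coe]
      haveI : Fact (Nat.Prime 3) := ⟨Nat.prime_three⟩
      refine orderOf_eq_prime W.z_pow_three fun e => W.ne_one ?_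
      have := congrArg (fun u : G3 => (u : M3) 0 0) e
      simpa [hz, Omega.zG] using this
    have hof : orderOf f = 4 := by
      rw [← Subgroup.orderOf_coe, show (4 : ℕ) = 2 ^ (1 + 1) from rfl]
      haveI : Fact (Nat.Prime 2) := ⟨Nat.prime_two⟩
      refine orderOf_eq_prime_pow ?_ ?_
      · rw [pow_one, pow_two]; show ¬ W.fG * W.fG = 1; rw [W.fG_sq]; exact sG_ne_one
      · rw [show (2 : ℕ) ^ (1 + 1) = 2 * 2 from rfl, pow_mul, pow_two, pow_two]
        show W.fG * W.fG * (W.fG * W.fG) = 1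
        rw [W.fG_sq, sG_mul_self]
    have hozf : orderOf (z * f) = 12 := by
      rw [hzf.orderOf_mul_eq_mul_orderOf_of_coprime (by rw [hoz, hof]; norm_num), hoz, hof]
    have hle : Subgroup.zpowers (z * f) ≤ C1 := Subgroup.zpowers_le.2 (mul_mem hz1 hf1)
    obtain ⟨t, ht⟩ := Subgroup.card_dvd_of_le hle
    rw [Nat.card_zpowers, hozf] at ht
    by_contra hlt
    have ht1 : t = 1 := by
      have : Nat.card C1 ≠ 0 := Nat.card_pos.ne'
      rcases t with _ | _ | t <;> omega
    have heq : Subgroup.zpowers (z * f) = C1 :=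
      Subgroup.eq_of_le_of_card_ge hle (by rw [Nat.card_zpowers, hozf, ht, ht1])
    obtain ⟨i, hi⟩ := Subgroup.mem_zpowers_iff.1 (heq ▸ hj1)
    refine fj_ne h ?_
    rw [← hf, ← hj, ← hi]
    exact ((Commute.refl f).mul_right (hzf.symm) |> fun _ => (hzf.symm.mul_right (Commute.refl f)).zpow_right i).eq
  have hcardb : Nat.card (blockSub M W.bG) = 3 * R.ncard := by rw [← hLb, hcard]
  by_cases hA : ∀ g, χ g = 1
  · left
    have hI0 : I = ∅ := Set.eq_empty_of_forall_notMem fun x hx => by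
      have hxm : x ∈ blockSub M W.bG := hmemL hx.1.1
      obtain ⟨-, -, -, hC⟩ := involution_block h (ε := ⟨x, hxm⟩) hx.2.1 hx.2.2.1 hx.2.2.2
      have := hA ⟨x, hxm⟩
      rw [hχreg (hRM hx.1), hC] at this
      exact hneg this
    rw [hI0, Set.ncard_empty] at hphic
    refine ⟨by omega, ?_⟩
    have : Nat.card C1 ≤ Nat.card (blockSub M W.bG) := Subgroup.card_le_card_group C1
    omega
  right
  push Not at hA
  obtain ⟨g, hg1⟩ := hA
  have hg : χ g = -1 := (hχ g).resolve_left hg1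
  have hscal : ∀ x : blockSub M W.bG, (∃ c : F, (toA M W.bG x : M2) = c • 1) → χ x = 1 := by
    rintro x ⟨c, hc⟩
    obtain ⟨k, x', hx', -, hA', hC'⟩ := split_sigma h h9 x
    have hxs : ∃ c : F, (toA M W.bG x' : M2) = c • 1 := ⟨(W.ω ^ k)⁻¹ * c, by
      rw [mul_smul, ← hc, hA', inv_smul_smul₀ (pow_ne_zero _ W.ne_zero)]⟩
    have hxx := sq_of_scalar_block h h9 hx' hxs
    have : toC M W.bG x' = 1 := by
      by_cases hx1 : (x' : G3) = 1
      · rw [show x' = 1 from Subtype.ext hx1, map_one]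
      by_cases hxσ : (x' : G3) = W.sG
      · rw [show x' = (⟨W.sG, mem_sigma h.sigma rfl⟩ : blockSub M W.bG) from Subtype.ext hxσ, toC_sG h]
      exact absurd hxs (involution_block h hxx hx1 hxσ).1
    show toC M W.bG x ^ 3 = 1
    rw [hC', this, mul_one, hωc]
  have tr0 : ∀ x : blockSub M W.bG, (toA M W.bG x : M2).trace = 0 → toP M W.bG x ^ 2 = 1 := fun v e =>
    toP_pow_eq_one_iff.2 ⟨-(toA M W.bG v : M2).det, by
      rw [trace_fin_two] at e
      rw [det_fin_two]
      ext i j; fin_cases i <;> fin_cases j <;> simp [sq, Matrix.mul_apply, Fin.sum_univ_two] <;> grind⟩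
  obtain ⟨g0, hg0, hg02⟩ : ∃ g0, χ g0 = -1 ∧ toP M W.bG g0 ^ 2 ≠ 1 := by
    by_cases hg2 : toP M W.bG g ^ 2 = 1
    swap
    · exact ⟨g, hg, hg2⟩
    have hgs : ¬ ∃ c : F, (toA M W.bG g : M2) = c • 1 := fun e => hg1 (hscal g e)
    have htr := (pow_scalar hgs).1 (toP_pow_eq_one_iff.1 hg2)
    obtain ⟨v, hvC, hvt, -, hgv⟩ := exists_pairing h htr (fun e => hgs ⟨0, by rw [e, zero_smul]⟩)
    have hgv' : χ (g * v) = -1 := by
      rw [map_mul, hg]
      show -1 * toC M W.bG v ^ 3 = -1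
      rw [hvC, one_pow, mul_one]
    refine ⟨g * v, hgv', fun e => hgv ?_⟩
    have hs : ¬ ∃ c : F, (toA M W.bG (g * v) : M2) = c • 1 := fun e' => hneg (hgv'.symm.trans (hscal _ e'))
    have := (pow_scalar hs).1 (toP_pow_eq_one_iff.1 e)
    rwa [map_mul, Units.val_mul] at this
  set K : Subgroup (blockSub M W.bG) := (Subgroup.centralizer {toP M W.bG g0}).comap (toP M W.bG) with hK
  have hmemK : ∀ x, x ∈ K ↔ toP M W.bG x * toP M W.bG g0 = toP M W.bG g0 * toP M W.bG x := fun x => by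
    rw [hK, Subgroup.mem_comap, Subgroup.mem_centralizer_singleton_iff]
  have hnK : ∀ x, x ∉ K → toP M W.bG x ^ 2 = 1 := fun x hx => by
    by_contra hne
    exact hx ((hmemK x).2 (dihedralish h h9 W.bG _ (mem_range_toP x) _ (mem_range_toP g0) hne hg02))
  have hg0K : g0 ∈ K := (hmemK g0).2 rfl
  have hinvK : ∀ a b, a ∉ K → b ∉ K → a * b ∈ K := by
    intro a b ha hb
    have inv : ∀ x, x ∉ K → toP M W.bG x * toP M W.bG g0 = (toP M W.bG g0)⁻¹ * toP M W.bG x := by
      intro x hx
      have hxg : x * g0 ∉ K := fun e => hx ((mul_mem_cancel_right hg0K).1 e)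
      have e1 := inv_eq_of_mul_eq_one_left (show toP M W.bG x * toP M W.bG x = 1 by rw [← pow_two]; exact hnK x hx)
      have e2 := inv_eq_of_mul_eq_one_left (show toP M W.bG (x * g0) * toP M W.bG (x * g0) = 1 by
        rw [← pow_two]; exact hnK _ hxg)
      rw [map_mul, _root_.mul_inv_rev, e1] at e2
      exact e2.symm
    rw [hmemK, map_mul, mul_assoc, inv b hb, ← mul_assoc]
    have : toP M W.bG a * (toP M W.bG g0)⁻¹ = toP M W.bG g0 * toP M W.bG a := by
      rw [mul_inv_eq_iff_eq_mul, mul_assoc, inv a ha, ← mul_assoc, mul_inv_cancel, one_mul]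
    rw [this, mul_assoc]
  obtain ⟨v, hvK, hv1⟩ : ∃ v, v ∉ K ∧ χ v = 1 := by
    by_contra hall
    push Not at hall
    have hfK : (⟨W.fG, fG_mem_sigma h⟩ : blockSub M W.bG) ∈ K := by
      by_contra hn
      exact hall _ hn (by rw [hχreg (fG_reg h), (fG_toA h).2])
    have hjK : (⟨W.jG, jG_mem_sigma h⟩ : blockSub M W.bG) ∈ K := by
      by_contra hn
      refine hall _ hn ?_
      show toC M W.bG _ ^ 3 = 1
      rw [(jG_toA h).2, one_pow]
    have hs0 : ¬ ∃ c : F, (toA M W.bG g0 : M2) = c • 1 := fun e => hneg (hg0.symm.trans (hscal _ e))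
    have ht0 : (toA M W.bG g0 : M2).trace ≠ 0 := fun e => hg02 (tr0 _ e)
    have exact_comm : ∀ v : blockSub M W.bG, v ∈ K →
        (toA M W.bG v : M2) * (toA M W.bG g0 : M2) = (toA M W.bG g0 : M2) * (toA M W.bG v : M2) := by
      intro v hv
      rw [hmemK, ← map_mul, ← map_mul] at hv
      obtain ⟨l, -, hl⟩ := toP_eq_iff.1 hv.symm
      rw [map_mul, map_mul, Units.val_mul, Units.val_mul] at hl
      have hd := congrArg Matrix.trace (congrArg (fun Z => Z * ((toA M W.bG v)⁻¹ : GL (Fin 2) F).1) hl)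
      simp only [smul_mul_assoc, trace_smul, smul_eq_mul] at hd
      rw [Matrix.trace_mul_comm, ← mul_assoc, ← Units.val_mul, inv_mul_cancel, Units.val_one, one_mul,
        mul_assoc, ← Units.val_mul, mul_inv_cancel, Units.val_one, mul_one] at hd
      have : l = 1 := mul_right_cancel₀ ht0 (by linear_combination -hd)
      rwa [this, one_smul] at hl
    obtain ⟨a, b, hab⟩ := eq_of_commute_two hs0 (exact_comm _ hfK)
    obtain ⟨a', b', hab'⟩ := eq_of_commute_two hs0 (exact_comm _ hjK)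
    refine fj_ne h (ext_block (Units.ext ?_) (by rw [map_mul, map_mul, mul_comm]))
    rw [map_mul, map_mul, Units.val_mul, Units.val_mul, hab, hab']
    simp only [mul_add, add_mul, smul_mul_smul_comm, mul_one, one_mul]
    module
  -- four equal parts
  set T := {x : blockSub M W.bG | x ∉ K ∧ χ x = -1}
  have hT4 : 4 * T.ncard = Nat.card (blockSub M W.bG) := by
    have hKm : ∀ {x}, x ∈ K → x * v ∉ K := fun {x} hx e => hvK ((mul_mem_cancel_left hx).1 e)
    have hKg : ∀ x, (x * g0 ∈ K ↔ x ∈ K) := fun x => mul_mem_cancel_right hg0K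
    set A : Set (blockSub M W.bG) := (K : Set (blockSub M W.bG))ᶜ
    have e1 : ((· * g0) ⁻¹' T).ncard = T.ncard :=
      Set.ncard_preimage_of_injective_subset_range (mul_left_injective g0) (by
        rw [(mul_right_surjective g0).range_eq]; exact Set.subset_univ _)
    have e2 : ((· * v) ⁻¹' A).ncard = A.ncard :=
      Set.ncard_preimage_of_injective_subset_range (mul_left_injective v) (by
        rw [(mul_right_surjective v).range_eq]; exact Set.subset_univ _)
    have s1 : (· * g0) ⁻¹' T = A \ T := by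
      ext x
      simp only [T, A, Set.mem_preimage, Set.mem_setOf_eq, Set.mem_sdiff, Set.mem_compl_iff, SetLike.mem_coe,
        hKg, map_mul, hg0]
      rcases hχ x with e | e <;> simp [e, hneg, hneg.symm]
    have s2 : (· * v) ⁻¹' A = (K : Set (blockSub M W.bG)) := by
      ext x
      simp only [A, Set.mem_preimage, Set.mem_compl_iff, SetLike.mem_coe]
      exact ⟨fun e => by_contra fun hx => e (hinvK _ _ hx hvK), hKm⟩
    have t1 := Set.ncard_diff_add_ncard_of_subset (show T ⊆ A from fun x hx => hx.1) (Set.toFinite _)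
    have t2 := Set.ncard_add_ncard_compl (K : Set (blockSub M W.bG))
    rw [← s1, e1] at t1
    have hKA : (K : Set (blockSub M W.bG)).ncard = A.ncard := by rw [← s2, e2]
    change T.ncard + T.ncard = A.ncard at t1
    change _ + A.ncard = _ at t2
    omega
  have hTI : T.ncard = 3 * I.ncard := by
    rw [← card_scalar_mul I (fun x hx => hRM hx.1) h]
    refine Set.ncard_congr (fun x _ => (x : G3)) ?_ (fun a b _ _ e => Subtype.ext e) ?_
    · intro x hx
      obtain ⟨k, r, hr, e, hA', hC'⟩ := split_sigma h h9 x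
      have hrs : ¬ ∃ c : F, (toA M W.bG r : M2) = c • 1 := fun ⟨c, ec⟩ => by
        have := hscal x ⟨W.ω ^ k * c, by rw [hA', ec, mul_smul]⟩
        exact hneg (hx.2.symm.trans this)
      have hr2 : toP M W.bG r ^ 2 = 1 := by
        refine (congrArg (· ^ 2) ?_).trans (hnK x hx.1)
        exact toP_eq_iff.2 ⟨W.ω ^ k, pow_ne_zero _ W.ne_zero, hA'⟩
      obtain ⟨c, hc⟩ := toP_pow_eq_one_iff.1 hr2
      have h4 := sq_of_scalar_block h h9 (g := r * r) (regSet.mul hr hr rfl) ⟨c, by
        rw [map_mul, Units.val_mul, ← pow_two]; exact hc⟩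
      have hrC : toC M W.bG r = -1 := by
        have := hx.2
        change toC M W.bG x ^ 3 = -1 at this
        rwa [hC', mul_pow, hωc, one_mul, pow_succ, toC_sq h h9 hr, one_mul] at this
      have hrr : (r : G3) * r = 1 := by
        by_contra hne
        have hσ := no_second_involution h h9 hr hne (ε := r * r) h4 hne (mul_assoc r r r).symm
        -- then the determinant of the block would be one
        have hA2 : (toA M W.bG r : M2) * (toA M W.bG r : M2) = (-1 : F) • 1 := by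
          rw [← Units.val_mul, ← map_mul, show r * r = (⟨W.sG, mem_sigma h.sigma rfl⟩ : blockSub M W.bG) from
            Subtype.ext hσ, toA_val]
          show topBlock (blockAt W.bG W.sG) = _
          rw [blockAt, W.sG_eq, show W.bG⁻¹ * (W.bG * z0 * W.bG⁻¹) * W.bG = z0 by group, z0_val]
          ext i j; fin_cases i <;> fin_cases j <;> simp [topBlock, zMat]
        have ht := (pow_scalar hrs).1 ⟨c, hc⟩
        rw [trace_fin_two] at ht
        have e00 := congrFun (congrFun hA2 0) 0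
        simp [Matrix.mul_apply, Fin.sum_univ_two] at e00
        have hdet : (toA M W.bG r : M2).det = 1 := by
          rw [det_fin_two]; linear_combination -e00 + (toA M W.bG r : M2) 0 0 * ht
        have hdc := toA_det_mul_toC (M := M) (B := W.bG) r
        rw [hdet, hrC, show ((r : G3) : M3).det = 1 from mem_specialLinear_iff.1 (h.sl hr.1)] at hdc
        exact hneg (by linear_combination hdc)
      refine ⟨⟨k % 3, Nat.mod_lt _ (by norm_num)⟩, r, ⟨hR' hr, hrr, fun e' => ?_, fun e' => ?_⟩, ?_⟩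
      · exact hrs ⟨1, by rw [show r = 1 from Subtype.ext e', map_one, Units.val_one, one_smul]⟩
      · rw [show r = (⟨W.sG, mem_sigma h.sigma rfl⟩ : blockSub M W.bG) from Subtype.ext e', toC_sG h] at hrC
        exact hneg hrC.symm
      · show (x : G3) = _
        rw [e, ← pow_eq_pow_mod k W.z_pow_three]
    · rintro g ⟨k, r, hr, rfl⟩
      have hrm : r ∈ blockSub M W.bG := hmemL hr.1.1
      obtain ⟨hrs, hrt, hrA, hrC⟩ := involution_block h (ε := ⟨r, hrm⟩) hr.2.1 hr.2.2.1 hr.2.2.2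
      have hgm : W.zG ^ (k : ℕ) * r ∈ blockSub M W.bG :=
        mul_mem (pow_mem (mem_sigma (h.heis_le W.z_mem) (W.zG_comm _)) _) hrm
      refine ⟨⟨_, hgm⟩, ?_, rfl⟩
      set z : blockSub M W.bG := ⟨W.zG ^ (k : ℕ), pow_mem (mem_sigma (h.heis_le W.z_mem) (W.zG_comm _)) _⟩
      set x : blockSub M W.bG := ⟨r, hrm⟩
      have hzP : toP M W.bG z = 1 := toP_eq_one_iff.2 ⟨W.ω ^ (k : ℕ), by
        rw [toA_val]
        show topBlock (blockAt W.bG (W.zG ^ (k : ℕ))) = _
        rw [blockAt, mul_assoc, (Commute.pow_left (W.zG_comm W.bG) (k : ℕ)).eq, inv_mul_cancel_left, Omega.z_val]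
        ext i j; fin_cases i <;> fin_cases j <;> simp [topBlock]⟩
      show z * x ∉ K ∧ χ (z * x) = -1
      refine ⟨fun hK' => ?_, ?_⟩
      · rw [hmemK, map_mul, hzP, one_mul] at hK'
        obtain ⟨k0, g1, hg1', e0, hA0, hC0⟩ := split_sigma h h9 g0
        have hg1P : toP M W.bG g1 = toP M W.bG g0 := toP_eq_iff.2 ⟨W.ω ^ k0, pow_ne_zero _ W.ne_zero, hA0⟩
        rw [← hg1P] at hK'
        have ht1 : (toA M W.bG g1 : M2).trace ≠ 0 := fun e => hg02 (by rw [← hg1P]; exact tr0 _ e)
        have hg1g : (g1 : G3) * g1 ≠ 1 := fun e => hg02 (by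
          rw [← hg1P, pow_two, ← map_mul, show g1 * g1 = 1 from Subtype.ext e, map_one])
        have e := hK'
        rw [← map_mul, ← map_mul] at e
        obtain ⟨l, -, hl⟩ := toP_eq_iff.1 e.symm
        rw [map_mul, map_mul, Units.val_mul, Units.val_mul] at hl
        have hd := congrArg Matrix.trace (congrArg (fun Z => Z * ((toA M W.bG x)⁻¹ : GL (Fin 2) F).1) hl)
        simp only [smul_mul_assoc, trace_smul, smul_eq_mul] at hd
        rw [Matrix.trace_mul_comm, ← mul_assoc, ← Units.val_mul, inv_mul_cancel, Units.val_one, one_mul,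
          mul_assoc, ← Units.val_mul, mul_inv_cancel, Units.val_one, mul_one] at hd
        have hl1 : l = 1 := mul_right_cancel₀ ht1 (by linear_combination -hd)
        rw [hl1, one_smul] at hl
        have hcx : g1 * x = x * g1 := ext_block (Units.ext (by
          rw [map_mul, map_mul, Units.val_mul, Units.val_mul]; exact hl.symm)) (by rw [map_mul, map_mul, mul_comm])
        exact hr.2.2.2 (no_second_involution h h9 hg1' hg1g (ε := x) hr.2.1 hr.2.2.1 hcx)
      · rw [map_mul]
        have hz : χ z = 1 := hscal z (toP_eq_one_iff.1 hzP)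
        rw [hz, one_mul, hχreg (hRM hr.1), hrC]
  rw [hcardb, hTI] at hT4
  refine ⟨by omega, ?_⟩
  have hlt : 2 * Nat.card C1 ≤ Nat.card (blockSub M W.bG) := by
    rw [← C1.index_mul_card]
    refine Nat.mul_le_mul_right _ ?_
    by_contra hlt
    have h0 : C1.index ≠ 0 := Subgroup.index_ne_zero_of_finite
    have : C1 = ⊤ := Subgroup.index_eq_one.1 (by omega)
    exact hg1 (show g ∈ C1 from this.symm ▸ Subgroup.mem_top g)
  omega

end CfsgLib.Classical.GeoThree.C6
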