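import Cfsg.Agent.Lib.Classical.GeoThree.C6.Coord
import Cfsg.Agent.Lib.Classical.GeoThree.C6.Pgl

/-!
# Elements of order three in a transvection-free overgroup
-/

set_option autoImplicit false
set_option linter.unusedSectionVars false
set_option linter.style.haveILetI false
set_option backward.isDefEq.respectTransparency false

open Matrix

namespace CfsgLib.Classical.GeoThree.C6

variable {F : Type*} [Field F] [Finite F]

local notation "M3" => Matrix (Fin 3) (Fin 3) F
local notation "G3" => GL (Fin 3) F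
local notation "M2" => Matrix (Fin 2) (Fin 2) F

/-- A transvection-free subgroup of `SL₃` containing the Heisenberg group and its quaternions. -/
structure Hyp (W : Omega F) (M : Subgroup (GL (Fin 3) F)) : Prop where
  sl : M ≤ Cfsg.Geo.specialLinear (Fin 3) F
  noTr : NoTransv M
  d : W.dG ∈ M
  p : W.pG ∈ M
  f : W.fG ∈ M
  j : W.jG ∈ M
  char : 7 ≤ ringChar F

/-- Powers of a non-scalar `2 × 2` matrix which are scalar. -/
theorem pow_scalar {A : M2} (hA : ¬ ∃ c : F, A = c • 1) :
    ((∃ c : F, A ^ 2 = c • 1) → A.trace = 0) ∧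
    ((∃ c : F, A ^ 3 = c • 1) → A.trace ^ 2 - A.det = 0) ∧
    ((∃ c : F, A ^ 4 = c • 1) → A.trace * (A.trace ^ 2 - 2 * A.det) = 0) ∧
    ((∃ c : F, A ^ 5 = c • 1) → A.trace ^ 4 - 3 * A.trace ^ 2 * A.det + A.det ^ 2 = 0) := by
  set t := A.trace with ht
  set d := A.det with hd
  have hsq : A * A = t • A + (-d) • 1 := by
    rw [ht, hd, trace_fin_two, det_fin_two]
    ext i j; fin_cases i <;> fin_cases j <;> simp [Matrix.mul_apply, Fin.sum_univ_two] <;> ring
  have step : ∀ {m : ℕ} {a b : F}, A ^ m = a • A + b • 1 →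
      A ^ (m + 1) = (a * t + b) • A + (-(a * d)) • 1 := by
    intro m a b e
    rw [pow_succ, e, add_mul, smul_mul_assoc, hsq, smul_mul_assoc, one_mul]
    module
  have e2 : A ^ 2 = t • A + (-d) • 1 := by rw [sq, hsq]
  have e3 := step e2
  have e4 := step e3
  have e5 := step e4
  have key : ∀ {a b c : F}, c • (1 : M2) = a • A + b • 1 → a = 0 := by
    intro a b c e
    by_contra ha
    refine hA ⟨a⁻¹ * (c - b), ?_⟩
    rw [mul_smul, sub_smul, e, add_sub_cancel_right, inv_smul_smul₀ ha]
  refine ⟨fun ⟨c, e⟩ => key (e.symm.trans e2), fun ⟨c, e⟩ => ?_, fun ⟨c, e⟩ => ?_, fun ⟨c, e⟩ => ?_⟩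
  · linear_combination key (e.symm.trans e3)
  · linear_combination key (e.symm.trans e4)
  · linear_combination key (e.symm.trans e5)

variable [Fact ((2 : F) ≠ 0)] {M : Subgroup (GL (Fin 3) F)} {B : GL (Fin 3) F}

theorem toP_pow_eq_one_iff {g : blockSub M B} {n : ℕ} :
    toP M B g ^ n = 1 ↔ ∃ c : F, (toA M B g : M2) ^ n = c • 1 := by
  rw [← map_pow, toP_eq_one_iff, map_pow, Units.val_pow_eq_pow_val]

theorem mem_range_toP (g : blockSub M B) : toP M B g ∈ (toP M B).range := ⟨g, rfl⟩

theorem cases_blockSub (hno : NoTransv M) :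
    Dihedralish (toP M B).range ∨ Small (toP M B).range := by
  obtain ⟨p, hp⟩ := CharP.exists F
  haveI := hp
  haveI : Fact p.Prime := ⟨CharP.char_is_prime F p⟩
  exact cases_prime_to_char p _ (not_dvd_card_image p hno)

theorem Hyp.natCast_ne_zero {W : Omega F} (h : Hyp W M) {n : ℕ} (hn : n ≠ 0)
    (hlt : ∀ q : ℕ, q.Prime → q ∣ n → q < 7) : (n : F) ≠ 0 := fun e => by
  have hd : ringChar F ∣ n := ringChar.dvd e
  have := hlt _ (CharP.char_is_prime F (ringChar F)) hd
  exact absurd h.char (by omega)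

theorem Hyp.sigma {W : Omega F} (h : Hyp W M) : W.sG ∈ M := W.fG_sq ▸ M.mul_mem h.f h.f

theorem Hyp.heis_le {W : Omega F} (h : Hyp W M) : W.heis ≤ M := by
  rw [Omega.heis, Subgroup.closure_le]
  rintro x (rfl | rfl)
  exacts [h.d, h.p]

theorem Hyp.scalar_mem {W : Omega F} (h : Hyp W M) (c : F) (g : G3) (hc : c ^ 3 = 1)
    (hg : (g : M3) = c • 1) : g ∈ M := by
  have hz : W.zG ∈ M := h.heis_le W.z_mem
  have : (c - 1) * ((c - W.ω) * (c - W.ω ^ 2)) = 0 := by
    linear_combination hc + (c - c ^ 2) * W.root + (c - 1) * W.cube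
  rcases mul_eq_zero.1 this with e | e
  · obtain rfl : g = 1 := Units.ext (by rw [hg, sub_eq_zero.1 e, one_smul, Units.val_one])
    exact M.one_mem
  rcases mul_eq_zero.1 e with e | e
  · obtain rfl : g = W.zG := Units.ext (by rw [hg, sub_eq_zero.1 e]; rfl)
    exact hz
  · obtain rfl : g = W.zG * W.zG := Units.ext (by
      rw [hg, sub_eq_zero.1 e, sq]; simp [Omega.zG, smul_smul])
    exact M.mul_mem hz hz

theorem Hyp.trichotomy {W : Omega F} (h : Hyp W M) {y : G3} (hy : y ∈ M) :
    IsScal (y : M3) ∨ IsHom (y : M3) ∨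
      ∃ v, ∀ a b c : F, a • v + b • ((y : M3) *ᵥ v) + c • ((y : M3) *ᵥ ((y : M3) *ᵥ v)) = 0 →
        a = 0 ∧ b = 0 ∧ c = 0 :=
  C6.trichotomy h.sl h.noTr h.scalar_mem hy

/-- The permuted identity, putting the first coordinate last. -/
def cG : GL (Fin 3) F :=
  ⟨!![0, 0, 1; 1, 0, 0; 0, 1, 0], !![0, 1, 0; 0, 0, 1; 1, 0, 0], by
    ext i j; fin_cases i <;> fin_cases j <;> simp [Matrix.mul_apply, Fin.sum_univ_three], by
    ext i j; fin_cases i <;> fin_cases j <;> simp [Matrix.mul_apply, Fin.sum_univ_three]⟩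

/-- `diag(1,-1,-1)`. -/
def tG : GL (Fin 3) F :=
  ⟨!![1, 0, 0; 0, -1, 0; 0, 0, -1], !![1, 0, 0; 0, -1, 0; 0, 0, -1], by
    ext i j; fin_cases i <;> fin_cases j <;> simp [Matrix.mul_apply, Fin.sum_univ_three], by
    ext i j; fin_cases i <;> fin_cases j <;> simp [Matrix.mul_apply, Fin.sum_univ_three]⟩

theorem tG_eq : (tG : G3) = cG * z0 * cG⁻¹ := by
  ext i j; fin_cases i <;> fin_cases j <;>
    simp [tG, cG, z0, zMat, Matrix.mul_apply, Fin.sum_univ_three]

set_option maxHeartbeats 2000000 in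
/-- The involution `diag(1,-1,-1)` does not lie in a transvection-free overgroup. -/
theorem Hyp.tG_notMem {W : Omega F} (h : Hyp W M) : (tG : G3) ∉ M := by
  intro ht
  have h2 : (2 : F) ≠ 0 := W.two
  have h3 : (3 : F) ≠ 0 := W.three
  have hs := W.s_ne
  have hs2 := W.s_sq
  have hr := W.root
  have mem : ∀ {g : G3}, g ∈ M → g * W.sG = W.sG * g → g ∈ blockSub M W.bG := fun hg hc =>
    mem_blockSub.2 ⟨hg, by rw [← W.sG_eq]; exact hc⟩
  have ht' : (tG : G3) ∈ blockSub M W.bG := mem ht (by
    ext i j; fin_cases i <;> fin_cases j <;> simp [tG, Omega.sG, Matrix.mul_apply, Fin.sum_univ_three])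
  have hf' : W.fG ∈ blockSub M W.bG := mem h.f (by rw [← W.fG_sq, mul_assoc])
  have hjj : W.jG * W.jG = W.sG := by
    ext i j; fin_cases i <;> fin_cases j <;>
      simp [Omega.jG, Omega.sG, Matrix.mul_apply, Fin.sum_univ_three] <;> field_simp <;> grind
  have hj' : W.jG ∈ blockSub M W.bG := mem h.j (by rw [← hjj, mul_assoc])
  set t : blockSub M W.bG := ⟨tG, ht'⟩ with ht0
  set x : blockSub M W.bG := ⟨W.fG, hf'⟩ * t with hx0
  set y : blockSub M W.bG := ⟨W.jG, hj'⟩ * t with hy0
  have hT : (toA M W.bG t : M2) = !![1, 0; 0, -1] := by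
    rw [toA_val]; ext i j
    fin_cases i <;> fin_cases j <;>
      simp [topBlock, blockAt, ht0, tG, Omega.bG, Matrix.mul_apply, Fin.sum_univ_three] <;> grind
  have hTC : toC M W.bG t = -1 := by
    show blockAt W.bG (tG : G3) 2 2 = -1
    simp [blockAt, tG, Omega.bG, Matrix.mul_apply, Fin.sum_univ_three] <;> grind
  have hX : (toA M W.bG x : M2) = W.s⁻¹ • !![1, -2; 1, 1] := by
    rw [hx0, map_mul, Units.val_mul, hT, toA_val]; ext i j
    fin_cases i <;> fin_cases j <;>
      simp [topBlock, blockAt, Omega.fG, Omega.bG, Matrix.mul_apply, Fin.sum_univ_three, Fin.sum_univ_two] <;>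
      field_simp <;> grind
  have hY : (toA M W.bG y : M2) = W.s⁻¹ • !![1, -2 * W.ω ^ 2; W.ω, 1] := by
    rw [hy0, map_mul, Units.val_mul, hT, toA_val]; ext i j
    fin_cases i <;> fin_cases j <;>
      simp [topBlock, blockAt, Omega.jG, Omega.bG, Matrix.mul_apply, Fin.sum_univ_three, Fin.sum_univ_two] <;>
      field_simp <;> grind
  have hXs : ¬ ∃ c : F, (toA M W.bG x : M2) = c • 1 := by
    rintro ⟨c, e⟩
    have := congrFun (congrFun e 1) 0
    simp [hX, hs] at this
  have hYs : ¬ ∃ c : F, (toA M W.bG y : M2) = c • 1 := by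
    rintro ⟨c, e⟩
    have := congrFun (congrFun e 1) 0
    simp [hY, hs, W.ne_zero] at this
  have trX : (toA M W.bG x : M2).trace = 2 / W.s := by
    rw [hX]; simp [trace_fin_two]; field_simp; ring
  have detX : (toA M W.bG x : M2).det = -1 := by
    rw [hX, det_smul, det_fin_two]; simp; field_simp; grind
  have hx2 : toP M W.bG x ^ 2 ≠ 1 := fun e => by
    have := (pow_scalar hXs).1 (toP_pow_eq_one_iff.1 e)
    rw [trX] at this
    simp [h2, hs] at this
  have hy2 : toP M W.bG y ^ 2 ≠ 1 := fun e => by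
    have := (pow_scalar hYs).1 (toP_pow_eq_one_iff.1 e)
    rw [hY] at this
    simp [trace_fin_two] at this
    field_simp at this
    exact h2 (by linear_combination this)
  clear_value x y
  rcases cases_blockSub (B := W.bG) h.noTr with hd | hsm
  · have hc := hd _ (mem_range_toP x) _ (mem_range_toP y) hx2 hy2
    rw [← map_mul, ← map_mul, toP_eq_iff] at hc
    obtain ⟨c, -, e⟩ := hc
    rw [map_mul, map_mul, Units.val_mul, Units.val_mul, hX, hY, smul_mul_smul_comm, smul_mul_smul_comm,
      smul_comm c] at e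
    have e' := smul_right_injective M2 (mul_ne_zero (inv_ne_zero hs) (inv_ne_zero hs)) e
    have e00 := congrFun (congrFun e' 0) 0
    have e10 := congrFun (congrFun e' 1) 0
    simp [Matrix.mul_apply, Fin.sum_univ_two] at e00 e10
    have : c = 1 := by
      have h1 : (1 + W.ω) ≠ 0 := fun e => W.ne_zero (by
        have := W.root
        linear_combination e + 0 * this - (by linear_combination W.root - W.ω * e : (1 : F) = 0))
      refine mul_right_cancel₀ h1 ?_
      linear_combination -e10
    subst this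
    exact W.sq_ne (mul_left_cancel₀ h2 (by linear_combination -e00))
  have hxm := hsm.exps _ (mem_range_toP x)
  have hx5 : toP M W.bG x ^ 5 = 1 := by
    rcases hxm with e | e | e | e
    · exact absurd e hx2
    · have := (pow_scalar hXs).2.1 (toP_pow_eq_one_iff.1 e)
      rw [trX, detX] at this
      field_simp at this
      exact absurd (show (1 : F) = 0 by grind) one_ne_zero
    · have := (pow_scalar hXs).2.2.1 (toP_pow_eq_one_iff.1 e)
      rw [trX, detX] at this
      field_simp at this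
      exact absurd (show (2 : F) ^ 2 = 0 by linear_combination -this + 4 * hs2) (pow_ne_zero _ h2)
    · exact e
  rcases hsm.four_or_five with h4 | ⟨-, hperf⟩
  · rcases h4 _ (mem_range_toP x) with e | e | e
    · exact hx2 e
    · exact hx2 (by
        have e1 : toP M W.bG x ^ 1 = 1 := by
          have := (pow_gcd_eq_one (a := toP M W.bG x)).2 ⟨e, hx5⟩
          simpa using this
        rw [pow_one] at e1; rw [e1, one_pow])
    · exact hx2 (by
        have e1 : toP M W.bG x ^ 1 = 1 := by
          have := (pow_gcd_eq_one (a := toP M W.bG x)).2 ⟨e, hx5⟩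
          simpa using this
        rw [pow_one] at e1; rw [e1, one_pow])
  -- a lift of the image of `t` in the derived group
  obtain ⟨g, hg, hgt⟩ : ∃ g ∈ commutator (blockSub M W.bG), toP M W.bG g = toP M W.bG t := by
    have : toP M W.bG t ∈ (commutator (blockSub M W.bG)).map (toP M W.bG) := by
      rw [commutator_def, Subgroup.map_commutator, ← MonoidHom.range_eq_map, hperf]
      exact mem_range_toP t
    exact this
  have hkill : ∀ {N : Type _} [CommMonoid N] (φ : blockSub M W.bG →* N), φ g = 1 := by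
    intro N _ φ
    have hle : commutator (blockSub M W.bG) ≤ φ.toHomUnits.ker := Abelianization.commutator_subset_ker _
    simpa [MonoidHom.mem_ker, Units.ext_iff] using hle hg
  have hgdet : (toA M W.bG g : M2).det = 1 :=
    hkill (Matrix.detMonoidHom.comp ((Units.coeHom M2).comp (toA M W.bG)))
  have hgC : toC M W.bG g = 1 := hkill (toC M W.bG)
  obtain ⟨l, hl0, hl⟩ := toP_eq_iff.1 hgt
  have hl2 : l * l = -1 := by
    have := congrArg Matrix.det hl
    rw [hT, det_smul, hgdet, det_fin_two] at this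
    simp at this
    linear_combination -this
  set k : blockSub M W.bG := g⁻¹ * t with hk0
  have hkA : (toA M W.bG k : M2) = l • 1 := by
    rw [hk0, map_mul, Units.val_mul, hl, mul_smul_comm, ← Units.val_mul, map_inv, inv_mul_cancel, Units.val_one]
  have hkC : toC M W.bG k = -1 := by
    rw [hk0, map_mul, hTC]
    have : toC M W.bG g⁻¹ = 1 := by
      have := map_mul (toC M W.bG) g⁻¹ g
      rw [inv_mul_cancel, map_one, hgC, mul_one] at this
      exact this.symm
    rw [this, one_mul]
  -- the matrix of this homology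
  obtain ⟨q0, q1, q2, q3⟩ := block_zero k.2
  have hk : blockAt W.bG k.1 = !![l, 0, 0; 0, l, 0; 0, 0, -1] := by
    have e := fun i j => congrFun (congrFun (toA_val k ▸ hkA : topBlock (blockAt W.bG k.1) = l • 1) i) j
    have e00 := e 0 0
    have e01 := e 0 1
    have e10 := e 1 0
    have e11 := e 1 1
    simp [topBlock] at e00 e01 e10 e11
    have e22 : blockAt W.bG k.1 2 2 = -1 := hkC
    ext i j; fin_cases i <;> fin_cases j <;> simp [e00, e01, e10, e11, e22, q0, q1, q2, q3]
  have hkM : ((k.1 : G3) : M3) =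
      !![l, 0, 0; 0, (l - 1) / 2, (l + 1) / 2; 0, (l + 1) / 2, (l - 1) / 2] := by
    have : ((k.1 : G3) : M3) = (W.bG : M3) * blockAt W.bG k.1 * ((W.bG⁻¹ : G3) : M3) := by
      rw [blockAt, ← Units.val_mul, ← Units.val_mul]; congr 1; group
    rw [this, hk]
    ext i j; fin_cases i <;> fin_cases j <;>
      simp [Omega.bG, Matrix.mul_apply, Fin.sum_univ_three] <;> field_simp <;> ring
  set k' := W.dG * k.1 * W.dG⁻¹
  have hkk : k.1 ∈ M := (mem_blockSub.1 k.2).1
  have hck : k.1 ∈ blockSub M cG := mem_blockSub.2 ⟨hkk, by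
    rw [← tG_eq]; ext i j
    rw [Units.val_mul, Units.val_mul, hkM]
    fin_cases i <;> fin_cases j <;> simp [tG, Matrix.mul_apply, Fin.sum_univ_three]⟩
  have hck' : k' ∈ blockSub M cG := mem_blockSub.2 ⟨M.mul_mem (M.mul_mem h.d hkk) (M.inv_mem h.d), by
    rw [← tG_eq]; ext i j
    simp only [k', Units.val_mul, hkM]
    fin_cases i <;> fin_cases j <;> simp [tG, Omega.dG, Matrix.mul_apply, Fin.sum_univ_three]⟩
  set a : blockSub M cG := ⟨k.1, hck⟩ with ha0
  set b : blockSub M cG := ⟨k', hck'⟩ with hb0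
  have hA : (toA M cG a : M2) = !![(l - 1) / 2, (l + 1) / 2; (l + 1) / 2, (l - 1) / 2] := by
    rw [toA_val, ha0]; ext i j
    simp only [topBlock, blockAt, Units.val_mul, hkM]
    fin_cases i <;> fin_cases j <;> simp [cG, Matrix.mul_apply, Fin.sum_univ_three]
  have hB : (toA M cG b : M2) =
      !![(l - 1) / 2, W.ω ^ 2 * ((l + 1) / 2); W.ω * ((l + 1) / 2), (l - 1) / 2] := by
    rw [toA_val, hb0]; ext i j
    simp only [topBlock, blockAt, k', Units.val_mul, hkM]
    fin_cases i <;> fin_cases j <;>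
      simp [cG, Omega.dG, Matrix.mul_apply, Fin.sum_univ_three] <;> grind [W.cube]
  have hl1 : l + 1 ≠ 0 := fun e => h2 (by grind)
  have hl1' : l - 1 ≠ 0 := fun e => h2 (by grind)
  have hns : ∀ c : F, c ≠ 0 → ¬ ∃ e : F, !![(l - 1) / 2, c; c⁻¹, (l - 1) / 2] = e • (1 : M2) := by
    rintro c hc ⟨e, he⟩
    have := congrFun (congrFun he 0) 1
    simp [hc] at this
  have hAs : ¬ ∃ c : F, (toA M cG a : M2) = c • 1 := by
    rintro ⟨c, e⟩
    have := congrFun (congrFun e 0) 1
    simp [hA, h2, hl1] at this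
  have hBs : ¬ ∃ c : F, (toA M cG b : M2) = c • 1 := by
    rintro ⟨c, e⟩
    have := congrFun (congrFun e 0) 1
    simp [hB, h2, hl1, W.ne_zero] at this
  have trA : (toA M cG a : M2).trace = l - 1 := by rw [hA]; simp [trace_fin_two]; field_simp; ring
  have detA : (toA M cG a : M2).det = -l := by rw [hA, det_fin_two]; simp; field_simp; ring
  have ha2 : toP M cG a ^ 2 ≠ 1 := fun e => hl1' (by
    have := (pow_scalar hAs).1 (toP_pow_eq_one_iff.1 e)
    rwa [trA] at this)
  have hb2 : toP M cG b ^ 2 ≠ 1 := fun e => by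
    have := (pow_scalar hBs).1 (toP_pow_eq_one_iff.1 e)
    rw [hB] at this
    simp [trace_fin_two] at this
    field_simp at this
    exact hl1' (by grind)
  rcases cases_blockSub (B := cG) h.noTr with hd | hsm'
  · have hc := hd _ (mem_range_toP a) _ (mem_range_toP b) ha2 hb2
    rw [← map_mul, ← map_mul, toP_eq_iff] at hc
    obtain ⟨c, -, e⟩ := hc
    rw [map_mul, map_mul, Units.val_mul, Units.val_mul, hA, hB] at e
    have e00 := congrFun (congrFun e 0) 0
    have e10 := congrFun (congrFun e 1) 0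
    simp [Matrix.mul_apply, Fin.sum_univ_two] at e00 e10
    field_simp at e00 e10
    have : c = 1 := by
      have h1 : (1 + W.ω) ≠ 0 := fun e => W.sq_ne_one (by linear_combination (W.ω - 1) * e)
      exact mul_right_cancel₀ h1 (by linear_combination -e10)
    subst this
    have : (l + 1) ^ 2 * (W.ω ^ 2 - W.ω) = 0 := by linear_combination e00
    exact mul_ne_zero (pow_ne_zero _ hl1) (sub_ne_zero.2 W.sq_ne) this
  have ha5 : toP M cG a ^ 4 = 1 ∧ toP M cG a ^ 3 ≠ 1 ∧ toP M cG a ^ 5 ≠ 1 := by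
    refine ⟨toP_pow_eq_one_iff.2 ⟨-(l ^ 2), ?_⟩, fun e => ?_, fun e => ?_⟩
    · rw [hA]; ext i j; fin_cases i <;> fin_cases j <;>
        simp [pow_succ, Matrix.mul_apply, Fin.sum_univ_two] <;> grind
    · have := (pow_scalar hAs).2.1 (toP_pow_eq_one_iff.1 e)
      rw [trA, detA] at this
      exact hl0 (by grind)
    · have := (pow_scalar hAs).2.2.2 (toP_pow_eq_one_iff.1 e)
      rw [trA, detA] at this
      exact absurd (show (1 : F) = 0 by grind) one_ne_zero
  rcases hsm'.four_or_five with h4 | ⟨h5, -⟩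
  swap
  · rcases h5 _ (mem_range_toP a) with e | e | e
    exacts [ha2 e, ha5.2.1 e, ha5.2.2 e]
  have hAB : (toA M cG (a * b) : M2) = !![(l - 1) / 2, (l + 1) / 2; (l + 1) / 2, (l - 1) / 2] *
      !![(l - 1) / 2, W.ω ^ 2 * ((l + 1) / 2); W.ω * ((l + 1) / 2), (l - 1) / 2] := by
    rw [map_mul, Units.val_mul, hA, hB]
  have trAB : (toA M cG (a * b) : M2).trace = -(3 / 2) * l := by
    rw [hAB]; simp [trace_fin_two, Matrix.mul_apply, Fin.sum_univ_two]; field_simp; grind
  have detAB : (toA M cG (a * b) : M2).det = -1 := by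
    rw [hAB, det_mul, det_fin_two, det_fin_two]; simp; field_simp; grind [W.cube]
  have hABs : ¬ ∃ c : F, (toA M cG (a * b) : M2) = c • 1 := by
    rintro ⟨c, e⟩
    rw [hAB] at e
    have := congrFun (congrFun e 1) 0
    simp [Matrix.mul_apply, Fin.sum_univ_two] at this
    field_simp at this
    have h1 : (l + 1) * (l - 1) * (1 + W.ω) = 0 := by linear_combination this
    refine mul_ne_zero (mul_ne_zero hl1 hl1') (fun e => W.sq_ne_one ?_) h1
    linear_combination (W.ω - 1) * e
  have h5' := h.natCast_ne_zero (n := 5) (by norm_num) fun q hq hd => by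
    have := Nat.le_of_dvd (by norm_num) hd; omega
  push_cast at h5'
  rcases h4 _ (mem_range_toP (a * b)) with e | e | e
  · have := (pow_scalar hABs).1 (toP_pow_eq_one_iff.1 e)
    rw [trAB] at this
    simp [h2, h3, hl0] at this
  · have := (pow_scalar hABs).2.1 (toP_pow_eq_one_iff.1 e)
    rw [trAB, detAB] at this
    field_simp at this
    exact h5' (by grind)
  · have := (pow_scalar hABs).2.2.1 (toP_pow_eq_one_iff.1 e)
    rw [trAB, detAB] at this
    field_simp at this
    exact absurd (show (1 : F) = 0 by grind) one_ne_zero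

end CfsgLib.Classical.GeoThree.C6
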