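import Cfsg.Agent.Lib.Classical.GeoThree.C6.Isolated

/-!
# Normalisers of isolated semisimple centralisers
-/

set_option autoImplicit false
set_option linter.unusedSectionVars false
set_option linter.style.haveILetI false
set_option backward.isDefEq.respectTransparency false

open Matrix Polynomial

namespace CfsgLib.Classical.GeoThree.C6

variable {F : Type*} [Field F] [Finite F] [Fact ((2 : F) ≠ 0)]
  {M : Subgroup (GL (Fin 3) F)} {W : Omega F}

local notation "M3" => Matrix (Fin 3) (Fin 3) F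
local notation "G3" => GL (Fin 3) F

theorem charpoly_eq_minpoly_of_cyclic {y : M3} {v : Fin 3 → F}
    (hv : ∀ a b c : F, a • v + b • (y *ᵥ v) + c • (y *ᵥ (y *ᵥ v)) = 0 → a = 0 ∧ b = 0 ∧ c = 0) :
    minpoly F y = y.charpoly := by
  have hint : IsIntegral F y := IsIntegral.of_finite F y
  refine (Polynomial.eq_of_monic_of_dvd_of_natDegree_le (minpoly.monic hint) (y.charpoly_monic)
    (Matrix.minpoly_dvd_charpoly y) ?_).symm
  rw [y.charpoly_natDegree_eq_dim, Fintype.card_fin]
  by_contra hlt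
  push Not at hlt
  set P := minpoly F y
  have hP : aeval y P = 0 := minpoly.aeval F y
  have hPd : P = C (P.coeff 0) + C (P.coeff 1) * X + C (P.coeff 2) * X ^ 2 := by
    conv_lhs => rw [P.as_sum_range_C_mul_X_pow' hlt]
    simp [Finset.sum_range_succ]
  rw [hPd] at hP
  simp only [map_add, map_mul, map_pow, aeval_C, aeval_X, Algebra.algebraMap_eq_smul_one, smul_mul_assoc,
    one_mul] at hP
  obtain ⟨h0, h1, h2⟩ := hv (P.coeff 0) (P.coeff 1) (P.coeff 2) (by
    have := congrArg (· *ᵥ v) hP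
    simpa [add_mulVec, smul_mulVec, pow_two, ← mulVec_mulVec] using this)
  refine (minpoly.monic hint).ne_zero ?_
  exact hPd.trans (by rw [h0, h1, h2]; simp)

/-- At most one involution acts fixed-point-freely; the normaliser is small. -/
theorem Isolated.index_le_three (h : Hyp W M) (h9 : ∀ ζ : F, ζ ^ 3 ≠ W.ω) {y : G3} (hy : Isolated M y)
    (p : ℕ) [hp : Fact p.Prime] [CharP F p] (hpy : ¬ p ∣ orderOf y) :
    Nat.card (norCen M y) ≤ 3 * Nat.card (cen M y) := by
  classical
  obtain ⟨v, hv⟩ := cyclic_of_reg h h9 hy.reg hy.ne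
  set χ : F[X] := (y : M3).charpoly with hχ
  have hmin : minpoly F (y : M3) = χ := charpoly_eq_minpoly_of_cyclic hv
  have hdeg : χ.natDegree = 3 := by rw [hχ, Matrix.charpoly_natDegree_eq_dim, Fintype.card_fin]
  have hsep : χ.Separable := by
    refine Polynomial.Separable.of_dvd (f := X ^ orderOf y - C (1 : F))
      (Polynomial.separable_X_pow_sub_C 1 ?_ one_ne_zero) ?_
    · intro e
      exact hpy ((CharP.cast_eq_zero_iff F p _).1 e)
    · rw [← hmin]
      refine minpoly.dvd F _ ?_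
      rw [map_sub, map_pow, aeval_X, aeval_C, map_one, ← Units.val_pow_eq_pow_val, pow_orderOf_eq_one,
        Units.val_one, sub_self]
  let K := AlgebraicClosure F
  set R : Finset K := (χ.aroots K).toFinset
  have hR : R.card = 3 := by
    rw [Multiset.toFinset_card_of_nodup (Polynomial.nodup_roots hsep.map), ← hdeg]
    rw [← Polynomial.natDegree_map (algebraMap F K) (p := χ)]
    exact (Polynomial.splits_iff_card_roots.1 (IsAlgClosed.splits _))
  have hχ0 : χ ≠ 0 := fun e => by rw [e] at hdeg; simp at hdeg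
  have hmemR : ∀ {x : K}, x ∈ R ↔ aeval x χ = 0 := fun {x} => by
    simp [R, Polynomial.mem_aroots, hχ0]
  -- polynomials describing the action
  have hpoly : ∀ g : norCen M y, ∃ f : F[X], f.natDegree ≤ 2 ∧
      ((g : G3) : M3) * (y : M3) * (((g : G3)⁻¹ : G3) : M3) = aeval (y : M3) f := by
    intro g
    obtain ⟨hgM, hgN⟩ := Subgroup.mem_inf.1 g.2
    have hm := mem_cen.1 ((Subgroup.mem_normalizer_iff.1 hgN y).1 (hy.mem_self h h9).1)
    obtain ⟨a, b, c, habc⟩ := eq_poly_of_commute hv (x := (((g : G3) * y * (g : G3)⁻¹ : G3) : M3))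
      (congrArg Units.val hm.2)
    refine ⟨C a + C b * X + C c * X ^ 2, by compute_degree, ?_⟩
    rw [← Units.val_mul, ← Units.val_mul, habc]
    simp [Algebra.algebraMap_eq_smul_one, pow_two]
  choose f hfdeg hf using hpoly
  have cj : ∀ (g : G3) (P : F[X]), aeval ((g : M3) * (y : M3) * ((g⁻¹ : G3) : M3)) P =
      (g : M3) * aeval (y : M3) P * ((g⁻¹ : G3) : M3) := by
    intro g P
    induction P using Polynomial.induction_on' with
    | add P Q hP hQ => rw [map_add, map_add, hP, hQ, mul_add, add_mul]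
    | monomial n a =>
      rw [aeval_monomial, aeval_monomial, Algebra.algebraMap_eq_smul_one, smul_mul_assoc, one_mul,
        smul_mul_assoc, one_mul, mul_smul_comm, smul_mul_assoc]
      congr 1
      rw [← Units.val_mul, ← Units.val_mul, ← Units.val_pow_eq_pow_val, ← Units.val_pow_eq_pow_val, conj_pow,
        Units.val_mul, Units.val_mul]
  have hcong : ∀ {P Q : F[X]}, aeval (y : M3) P = aeval (y : M3) Q → ∀ x ∈ R, aeval x P = aeval x Q := by
    intro P Q e x hx
    obtain ⟨D, hD⟩ : χ ∣ P - Q := by rw [← hmin]; exact minpoly.dvd F _ (by rw [map_sub, e, sub_self])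
    have := congrArg (aeval x) hD
    rw [map_mul, hmemR.1 hx, zero_mul, map_sub] at this
    exact sub_eq_zero.1 this
  have hmap : ∀ (g : norCen M y), ∀ x ∈ R, aeval x (f g) ∈ R := by
    intro g x hx
    rw [hmemR, ← aeval_comp]
    have : aeval (y : M3) (χ.comp (f g)) = aeval (y : M3) (0 : F[X]) := by
      rw [aeval_comp, ← hf, cj, hχ, Matrix.aeval_self_charpoly, map_zero, mul_zero, zero_mul]
    rw [hcong this x hx, map_zero]
  let π : norCen M y → R → R := fun g x => ⟨aeval (x : K) (f g), hmap g x x.2⟩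
  have hπmul : ∀ g k : norCen M y, ∀ x, π (g * k) x = π k (π g x) := by
    intro g k x
    refine Subtype.ext ?_
    change aeval (x : K) (f (g * k)) = aeval (aeval (x : K) (f g)) (f k)
    rw [← aeval_comp]
    refine hcong ?_ x x.2
    rw [aeval_comp, ← hf g, cj, ← hf k, ← hf (g * k), Subgroup.coe_mul, _root_.mul_inv_rev, Units.val_mul,
      Units.val_mul]
    simp only [mul_assoc]
  have hπone : ∀ x, π 1 x = x := by
    intro x
    refine Subtype.ext ?_
    change aeval (x : K) (f 1) = (x : K)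
    rw [hcong (Q := X) ?_ x x.2, aeval_X]
    rw [← hf 1, aeval_X]; simp
  let ψ : norCen M y →* Equiv.Perm R :=
    { toFun := fun g =>
        ⟨π g⁻¹, π g, fun x => by rw [← hπmul, inv_mul_cancel, hπone],
          fun x => by rw [← hπmul, mul_inv_cancel, hπone]⟩
      map_one' := Equiv.ext fun x => by change π 1⁻¹ x = x; rw [inv_one, hπone]
      map_mul' := fun g k => Equiv.ext fun x => by
        change π (g * k)⁻¹ x = π g⁻¹ (π k⁻¹ x)
        rw [_root_.mul_inv_rev, hπmul] }
  have hker : ψ.ker = (cen M y).subgroupOf (norCen M y) := by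
    ext g
    rw [MonoidHom.mem_ker, Subgroup.mem_subgroupOf, mem_cen]
    constructor
    · intro e
      refine ⟨(Subgroup.mem_inf.1 g.2).1, ?_⟩
      have hfix : ∀ x : R, aeval (x : K) (f g) = (x : K) := fun x => by
        have e' : π g x = x := by
          have : π g (ψ g x) = x := (ψ g).left_inv x
          rwa [e] at this
        exact congrArg Subtype.val e'
      have hfX : f g = X := by
        have hzero : (f g - X).map (algebraMap F K) = 0 := by
          refine Polynomial.eq_zero_of_natDegree_lt_card_of_eval_eq_zero' _ R (fun x hx => ?_) ?_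
          · rw [Polynomial.eval_map_algebraMap, map_sub, hfix ⟨x, hx⟩, aeval_X, sub_self]
          · rw [hR, Polynomial.natDegree_map]
            have := Polynomial.natDegree_sub_le (f g) X
            rw [natDegree_X] at this
            have := hfdeg g
            omega
        exact sub_eq_zero.1 ((Polynomial.map_eq_zero _).1 hzero)
      have := hf g
      rw [hfX, aeval_X, ← Units.val_mul, ← Units.val_mul] at this
      exact mul_inv_eq_iff_eq_mul.1 (Units.ext this)
    · rintro ⟨-, hc⟩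
      have hginv : ∀ x, π g x = x := fun x => Subtype.ext (by
        change aeval (x : K) (f g) = (x : K)
        rw [hcong (Q := X) ?_ x x.2, aeval_X]
        rw [← hf g, aeval_X, ← Units.val_mul, ← Units.val_mul, hc, mul_inv_cancel_right])
      refine Equiv.ext fun x => ?_
      have h2 : π g (ψ g x) = x := (ψ g).left_inv x
      rw [hginv] at h2
      exact h2
  -- the index divides six
  have hdvd : ((cen M y).subgroupOf (norCen M y)).index ∣ 6 := by
    rw [← hker, Subgroup.index_ker]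
    have := Subgroup.card_subgroup_dvd_card ψ.range
    rwa [Nat.card_perm, Nat.card_eq_fintype_card (α := R), Fintype.card_coe, hR] at this
  have hle : cen M y ≤ norCen M y := cen_le_norCen y
  have hmul : ((cen M y).subgroupOf (norCen M y)).index * Nat.card (cen M y) = Nat.card (norCen M y) := by
    rw [← Nat.card_congr (Subgroup.subgroupOfEquivOfLe hle).toEquiv, Subgroup.index_mul_card]
  suffices ((cen M y).subgroupOf (norCen M y)).index ≠ 6 by
    have h6 : ((cen M y).subgroupOf (norCen M y)).index ≤ 6 := Nat.le_of_dvd (by norm_num) hdvd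
    rw [← hmul]
    refine Nat.mul_le_mul_right _ ?_
    interval_cases ((cen M y).subgroupOf (norCen M y)).index <;> omega
  intro h6
  rw [h6, hy.card_cen h h9] at hmul
  -- an involution and a three-element
  obtain ⟨τ', hτ'⟩ := exists_prime_orderOf_dvd_card' (G := norCen M y) 2 (by
    rw [← hmul]; exact dvd_mul_of_dvd_left (by norm_num) _)
  set τ : G3 := (τ' : G3) with hτdef
  obtain ⟨hτM, hτN⟩ := Subgroup.mem_inf.1 τ'.2
  have hττ : τ * τ = 1 := by
    have := pow_orderOf_eq_one τ'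
    rw [hτ', pow_two] at this
    exact congrArg Subtype.val this
  have hτ1 : τ ≠ 1 := fun e => by
    rw [show τ' = 1 from Subtype.ext e, orderOf_one] at hτ'; norm_num at hτ'
  have hτinv : τ⁻¹ = τ := inv_eq_of_mul_eq_one_left hττ
  have hinv : ∀ σ ∈ M, σ * σ = 1 → σ ≠ 1 → σ ∈ Subgroup.normalizer (cen M y : Set G3) →
      ∀ a ∈ regSet (cen M y), σ * a * σ = a⁻¹ := by
    intro σ hσ hσσ hσ1 hσN a ha
    have hσinv : σ⁻¹ = σ := inv_eq_of_mul_eq_one_left hσσ
    set b := σ * a * σ with hb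
    have hbA : b ∈ regSet (cen M y) := by
      refine ⟨?_, ?_⟩
      · have := (Subgroup.mem_normalizer_iff.1 hσN a).1 ha.1
        rwa [hσinv] at this
      · rw [hb, show σ * a * σ = MulAut.conj σ a by rw [MulAut.conj_apply, hσinv], MulEquiv.orderOf_eq]
        exact ha.2
    by_contra hne
    have hab : a * b ≠ 1 := fun e => hne (by rw [eq_inv_iff_mul_eq_one, ← hy.comm h h9 ha.1 hbA.1]; exact e)
    have hc : σ * (a * b) = a * b * σ := by
      rw [hy.comm h h9 ha.1 hbA.1, hb]
      calc σ * (σ * a * σ * a) = σ * σ * (a * σ * a) := by group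
        _ = a * σ * a * (σ * σ) := by rw [hσσ, one_mul, mul_one]
        _ = a * (σ * a * σ) * σ := by group
        _ = σ * a * σ * a * σ := by rw [← hb, hy.comm h h9 ha.1 hbA.1]
    have hprod : a * b ∈ regSet (cen M y) := regSet.mul ha hbA (hy.comm h h9 ha.1 hbA.1)
    exact hσ1 ((hy.of_mem h h9 hprod hab).noInv σ hσ hσσ hc.symm)
  -- a three-element outside the scalars
  have h9' : 3 ^ 2 ∣ Nat.card (norCen M y) := by
    rw [← hmul, ← mul_assoc]; exact dvd_mul_of_dvd_left (by norm_num) _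
  haveI : Fact (Nat.Prime 3) := ⟨Nat.prime_three⟩
  obtain ⟨P, hP⟩ := Sylow.exists_subgroup_card_pow_prime 3 h9'
  obtain ⟨r', hr'P, hr's⟩ : ∃ r ∈ P, ¬ IsScal ((r : G3) : M3) := by
    by_contra hall
    push Not at hall
    have hsub : (fun r : norCen M y => (r : G3)) '' (P : Set (norCen M y)) ⊆
        Set.range (fun k : Fin 3 => W.zG ^ (k : ℕ)) := by
      rintro _ ⟨r, hr, rfl⟩
      obtain ⟨c, hc⟩ := hall r hr
      have hdet : ((r : G3) : M3).det = 1 := mem_specialLinear_iff.1 (h.sl (Subgroup.mem_inf.1 r.2).1)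
      rw [hc, det_smul, Fintype.card_fin, det_one, mul_one] at hdet
      have hprim : IsPrimitiveRoot W.ω 3 := (IsPrimitiveRoot.iff (by norm_num)).2 ⟨W.cube, fun i hi hi3 => by
        interval_cases i
        exacts [by simpa using W.ne_one, W.sq_ne_one]⟩
      obtain ⟨k, hk, hk'⟩ := hprim.eq_pow_of_pow_eq_one hdet
      exact ⟨⟨k, hk⟩, Units.ext (by rw [Omega.z_val, hk', hc])⟩
    have h1 := Set.ncard_le_ncard hsub (Set.toFinite _)
    rw [Set.ncard_image_of_injective _ Subtype.val_injective] at h1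
    have h2 : (Set.range (fun k : Fin 3 => W.zG ^ (k : ℕ))).ncard ≤ 3 := by
      rw [← Nat.card_coe_set_eq]
      exact (Finite.card_range_le _).trans (Nat.card_fin 3).le
    have h3 : (P : Set (norCen M y)).ncard = 9 := by
      rw [← Nat.card_coe_set_eq]; exact hP.trans (by norm_num)
    omega
  set r : G3 := (r' : G3)
  obtain ⟨hrM, hrN⟩ := Subgroup.mem_inf.1 r'.2
  have hr9 : r ^ 3 ^ 2 = 1 := by
    have := pow_card_eq_one' (x := (⟨r', hr'P⟩ : P))
    rw [hP] at this
    exact congrArg (fun u : P => ((u : norCen M y) : G3)) this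
  have hrn : r * y ≠ y * r := fun e => hy.ne (by
    rw [regSet.eq_one (j := 1) hy.reg (by rw [pow_one]; exact pow_three_of_comm h h9 hrM hr9 hr's hy.reg.1 e.symm),
      one_mul])
  -- the two involutions differ by an element of the centraliser
  set τ2 := r * τ * r⁻¹ with hτ2
  have hτ2τ2 : τ2 * τ2 = 1 := by
    rw [hτ2, show r * τ * r⁻¹ * (r * τ * r⁻¹) = r * (τ * τ) * r⁻¹ by group, hττ]; group
  have hτ2M : τ2 ∈ M := mul_mem (mul_mem hrM hτM) (inv_mem hrM)
  have hτ21 : τ2 ≠ 1 := fun e => hτ1 (by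
    rw [show τ = r⁻¹ * τ2 * r by rw [hτ2]; group, e]; group)
  have hi1 := hinv τ hτM hττ hτ1 hτN
  have hi2 := hinv τ2 hτ2M hτ2τ2 hτ21 (mul_mem (mul_mem hrN hτN) (inv_mem hrN))
  set x := τ * τ2 with hx
  have hxA : x ∈ cen M y := by
    refine mem_cen.2 ⟨mul_mem hτM hτ2M, ?_⟩
    have e2 : τ2 * y * τ2 = y⁻¹ := hi2 y (hy.mem_self h h9)
    have e1 : τ * y⁻¹ * τ = y := by
      have := hi1 y⁻¹ ⟨inv_mem (hy.mem_self h h9).1, by rw [orderOf_inv]; exact hy.reg.2⟩
      rwa [inv_inv] at this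
    calc x * y = τ * (τ2 * y * τ2) * τ2 := by
          rw [hx, show τ * (τ2 * y * τ2) * τ2 = τ * τ2 * y * (τ2 * τ2) by group, hτ2τ2, mul_one]
      _ = τ * y⁻¹ * τ2 := by rw [e2]
      _ = τ * y⁻¹ * (τ * τ) * τ2 := by rw [hττ, mul_one]
      _ = τ * y⁻¹ * τ * (τ * τ2) := by group
      _ = y * x := by rw [e1]
  obtain ⟨a, b, j, haj, hxb, he⟩ := exists_decomp (L := cen M y) hxA
  have has : IsScal ((x ^ a : G3) : M3) := by
    by_contra hs
    have hm := mem_cen.1 (pow_mem hxA a)
    exact hy.ne (by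
      rw [regSet.eq_one (j := 1) hy.reg (by rw [pow_one]; exact pow_three_of_comm h h9 hm.1 haj hs hy.reg.1 hm.2.symm),
        one_mul])
  obtain ⟨k, xr, hxr, hxe⟩ := mem_scalar_mul_reg h hxA haj hxb he inf_le_left has
  have hz : ∀ g, Commute (W.zG ^ (k : ℕ)) g := fun g => Commute.pow_left (W.zG_comm g) _
  have hk0 : W.zG ^ (k : ℕ) = 1 := by
    have e : τ2 = τ * x := by rw [hx, ← mul_assoc, hττ, one_mul]
    have h2 : τ * x * (τ * x) = 1 := e ▸ hτ2τ2
    rw [hxe, show τ * (W.zG ^ (k : ℕ) * xr) * (τ * (W.zG ^ (k : ℕ) * xr)) =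
      τ * W.zG ^ (k : ℕ) * xr * τ * W.zG ^ (k : ℕ) * xr by group, ← (hz τ).eq,
      show W.zG ^ (k : ℕ) * τ * xr * τ * W.zG ^ (k : ℕ) * xr = W.zG ^ (k : ℕ) * (τ * xr * τ) * W.zG ^ (k : ℕ) * xr by group,
      hi1 xr hxr, mul_assoc (W.zG ^ (k : ℕ)) _ (W.zG ^ (k : ℕ)), ← (hz xr⁻¹).eq, ← mul_assoc, mul_assoc,
      inv_mul_cancel, mul_one] at h2
    have h3 : (W.zG ^ (k : ℕ)) ^ 3 = 1 := by rw [← pow_mul, mul_comm, pow_mul, W.z_pow_three, one_pow]
    rwa [pow_three, h2, mul_one] at h3
  rw [hk0, one_mul] at hxe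
  rw [hxe] at hxA
  -- a square root
  have hodd : Odd (orderOf xr) := by
    rw [← Nat.not_even_iff_odd]
    rintro ⟨m, hm⟩
    have h2 : xr ^ m * xr ^ m = 1 := by rw [← pow_add, ← hm, pow_orderOf_eq_one]
    by_cases hm1 : xr ^ m = 1
    · have := orderOf_dvd_of_pow_eq_one hm1
      have hpos := orderOf_pos xr
      have := Nat.le_of_dvd (by omega) this
      omega
    · exact hy.sq_ne h h9 (regSet.pow hxr m) hm1 h2
  obtain ⟨m, hm⟩ := hodd
  set c := xr ^ (m + 1) with hc
  have hcA : c ∈ regSet (cen M y) := regSet.pow hxr _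
  have hcc : c * c = xr := by
    rw [hc, ← pow_add, show m + 1 + (m + 1) = (2 * m + 1) + 1 by ring, pow_succ, ← hm, pow_orderOf_eq_one, one_mul]
  set r2 := c * r with hr2
  have hr2τ : r2 * τ = τ * r2 := by
    have e : τ2 = τ * (c * c) := by rw [hcc, ← hxe, hx, ← mul_assoc, hττ, one_mul]
    have e' : τ * c = c⁻¹ * τ := by
      rw [← hi1 c hcA, mul_assoc (τ * c), hττ, mul_one]
    calc r2 * τ = c * (r * τ * r⁻¹) * r := by rw [hr2]; group
      _ = c * (τ * (c * c)) * r := by rw [← hτ2, e]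
      _ = c * (τ * c) * (c * r) := by group
      _ = τ * r2 := by rw [e', ← mul_assoc c c⁻¹, mul_inv_cancel, one_mul]
  have hr2N : r2 ∈ norCen M y := mul_mem (cen_le_norCen y hcA.1) r'.2
  obtain ⟨a2, b2, j2, ha2, hb2, he2⟩ := exists_decomp (L := norCen M y) hr2N
  have hnr : ∀ g : norCen M y, IsScal (((g : G3)) : M3) → ψ g = 1 := fun g ⟨t, ht⟩ => by
    rw [← MonoidHom.mem_ker, hker, Subgroup.mem_subgroupOf, mem_cen]
    exact ⟨(Subgroup.mem_inf.1 g.2).1, Units.ext (by rw [Units.val_mul, Units.val_mul, ht]; simp)⟩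
  by_cases hs : IsScal ((r2 ^ a2 : G3) : M3)
  · set g2 : norCen M y := ⟨r2, hr2N⟩
    have e1 : ψ (g2 ^ a2) = 1 := hnr _ (by rw [SubgroupClass.coe_pow]; exact hs)
    have e2 : ψ g2 = ψ (g2 ^ b2) := by
      have : g2 = g2 ^ a2 * g2 ^ b2 := Subtype.ext (by simp only [Subgroup.coe_mul, SubgroupClass.coe_pow]; exact he2.symm)
      conv_lhs => rw [this]
      rw [map_mul, e1, one_mul]
    have e3 : ψ r' = ψ g2 := by
      have hc1 : ψ ⟨c, cen_le_norCen y hcA.1⟩ = 1 := by
        rw [← MonoidHom.mem_ker, hker, Subgroup.mem_subgroupOf]; exact hcA.1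
      rw [show g2 = ⟨c, cen_le_norCen y hcA.1⟩ * r' from rfl, map_mul, hc1, one_mul]
    have hne : ψ r' ≠ 1 := fun e => by
      rw [← MonoidHom.mem_ker, hker, Subgroup.mem_subgroupOf, mem_cen] at e
      exact hrn e.2
    have h1 : ψ r' ^ 3 ^ 2 = 1 := by
      rw [← map_pow, show r' ^ 3 ^ 2 = 1 from Subtype.ext (by rw [SubgroupClass.coe_pow]; exact hr9), map_one]
    have h2 : ψ r' ^ orderOf (r2 ^ b2) = 1 := by
      rw [e3, e2, ← map_pow, show (g2 ^ b2) ^ orderOf (r2 ^ b2) = 1 from Subtype.ext (by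
        rw [SubgroupClass.coe_pow, SubgroupClass.coe_pow]; exact pow_orderOf_eq_one _), map_one]
    obtain ⟨i, -, hi⟩ := (Nat.dvd_prime_pow Nat.prime_three).1 (orderOf_dvd_of_pow_eq_one h1)
    rcases i with _ | i
    · exact hne (orderOf_eq_one_iff.1 (by rw [hi, pow_zero]))
    · exact hb2.2 ((hi ▸ dvd_pow_self 3 i.succ_ne_zero).trans (orderOf_dvd_of_pow_eq_one h2))
  · have hc2 : Commute (r2 ^ a2) τ := (Commute.pow_left hr2τ a2)
    exact three_no_inv h h9 (pow_mem (Subgroup.mem_inf.1 hr2N).1 a2) ha2 hs hτM hττ hτ1 hc2.eq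

end CfsgLib.Classical.GeoThree.C6
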