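import Cfsg.Agent.Lib.Classical.GeoThree.C6.Torus

/-!
# Isolated unipotent elements
-/

set_option autoImplicit false
set_option linter.unusedSectionVars false
set_option linter.style.haveILetI false
set_option backward.isDefEq.respectTransparency false

open Matrix

namespace CfsgLib.Classical.GeoThree.C6

variable {F : Type*} [Field F] [Finite F] [Fact ((2 : F) ≠ 0)]
  {M : Subgroup (GL (Fin 3) F)} {W : Omega F}

local notation "M3" => Matrix (Fin 3) (Fin 3) F
local notation "G3" => GL (Fin 3) F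

/-- The elements of `M` which are triangular in the basis `B`. -/
def triSub (M : Subgroup (GL (Fin 3) F)) (B : GL (Fin 3) F) : Subgroup (GL (Fin 3) F) where
  carrier := {g | g ∈ M ∧ blockAt B g 1 0 = 0 ∧ blockAt B g 2 0 = 0 ∧ blockAt B g 2 1 = 0}
  one_mem' := ⟨M.one_mem, by simp [blockAt_one]⟩
  mul_mem' := by
    rintro g k ⟨hg, a, b, c⟩ ⟨hk, a', b', c'⟩
    refine ⟨M.mul_mem hg hk, ?_⟩
    rw [blockAt_mul]
    simp [Matrix.mul_apply, Fin.sum_univ_three, a, b, c, a', b', c']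
  inv_mem' := by
    rintro g ⟨hg, a, b, c⟩
    have hpow : ∀ n : ℕ, g ^ n ∈ M ∧ blockAt B (g ^ n) 1 0 = 0 ∧ blockAt B (g ^ n) 2 0 = 0 ∧
        blockAt B (g ^ n) 2 1 = 0 := by
      intro n
      induction n with
      | zero => simp [blockAt_one]
      | succ n ih =>
        obtain ⟨h1, a', b', c'⟩ := ih
        refine ⟨pow_mem hg _, ?_⟩
        rw [pow_succ, blockAt_mul]
        simp [Matrix.mul_apply, Fin.sum_univ_three, a, b, c, a', b', c']
    have e : g⁻¹ = g ^ (orderOf g - 1) := by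
      rw [inv_eq_iff_mul_eq_one, ← pow_succ', Nat.sub_add_cancel (orderOf_pos g), pow_orderOf_eq_one]
    rw [e]; exact hpow _

/-- The diagonal of a triangular element. -/
def diagHom (M : Subgroup (GL (Fin 3) F)) (B : GL (Fin 3) F) (i : Fin 3) : triSub M B →* F where
  toFun g := blockAt B (g : GL (Fin 3) F) i i
  map_one' := by simp [blockAt_one]
  map_mul' g k := by
    obtain ⟨-, a, b, c⟩ := g.2
    obtain ⟨-, a', b', c'⟩ := k.2
    rw [Subgroup.coe_mul, blockAt_mul]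
    fin_cases i <;> simp [Matrix.mul_apply, Fin.sum_univ_three, a, b, c, a', b', c']

/-- The unitriangular elements of `M`. -/
def uniSub (M : Subgroup (GL (Fin 3) F)) (B : GL (Fin 3) F) : Subgroup (GL (Fin 3) F) :=
  ((diagHom M B 0).ker ⊓ (diagHom M B 1).ker ⊓ (diagHom M B 2).ker).map (triSub M B).subtype

theorem mem_uniSub {B g : G3} : g ∈ uniSub M B ↔ g ∈ triSub M B ∧ ∀ i, blockAt B g i i = 1 := by
  constructor
  · rintro ⟨k, hk, rfl⟩
    obtain ⟨⟨h0, h1⟩, h2⟩ := hk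
    refine ⟨k.2, fun i => ?_⟩
    fin_cases i
    exacts [h0, h1, h2]
  · rintro ⟨hg, hd⟩
    exact ⟨⟨g, hg⟩, ⟨⟨hd 0, hd 1⟩, hd 2⟩, rfl⟩

theorem conj_mem_uniSub {B g s : G3} (hg : g ∈ triSub M B) (hs : s ∈ uniSub M B) :
    g * s * g⁻¹ ∈ uniSub M B := by
  obtain ⟨hs1, hs2⟩ := mem_uniSub.1 hs
  refine mem_uniSub.2 ⟨mul_mem (mul_mem hg hs1) (inv_mem hg), fun i => ?_⟩
  show diagHom M B i (⟨g, hg⟩ * ⟨s, hs1⟩ * ⟨g, hg⟩⁻¹) = 1
  have e : diagHom M B i ⟨s, hs1⟩ = 1 := hs2 i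
  rw [map_mul, map_mul, e, mul_one, ← map_mul, mul_inv_cancel, map_one]

theorem isPGroup_uniSub (p : ℕ) [Fact p.Prime] [CharP F p] (hp3 : 3 ≤ p) (B : G3) :
    IsPGroup p (uniSub M B) := fun g => by
  obtain ⟨⟨-, a, b, c⟩, hd⟩ := mem_uniSub.1 g.2
  refine ⟨1, Subtype.ext (blockAt_injective (B := B) ?_)⟩
  haveI : CharP M3 p := charP_of_injective_algebraMap (algebraMap F M3).injective p
  set N : M3 := blockAt B (g : G3) - 1 with hN
  have hN3 : N ^ 3 = 0 := by
    ext i j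
    fin_cases i <;> fin_cases j <;>
      simp [hN, pow_succ, Matrix.mul_apply, Fin.sum_univ_three, a, b, c, hd 0, hd 1, hd 2]
  have hNp : N ^ p = 0 := pow_eq_zero_of_le hp3 hN3
  have hpow : ∀ n : ℕ, blockAt B ((g : G3) ^ n) = blockAt B (g : G3) ^ n := fun n => by
    induction n with
    | zero => simp [blockAt_one]
    | succ n ih => rw [pow_succ, pow_succ, blockAt_mul, ih]
  rw [SubgroupClass.coe_pow, Subgroup.coe_one, pow_one, hpow, blockAt_one]
  rw [hN, sub_pow_char_of_commute p (Commute.one_right _), one_pow] at hNp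
  exact sub_eq_zero.1 hNp

/-- The nilpotent of rank two in Jordan form. -/
def jordan : Matrix (Fin 3) (Fin 3) F := !![0, 1, 0; 0, 0, 1; 0, 0, 0]

/-- A Jordan frame. -/
theorem Isolated.exists_frame (h : Hyp W M) (h9 : ∀ ζ : F, ζ ^ 3 ≠ W.ω) {y : G3} (hy : Isolated M y)
    (p : ℕ) [hp : Fact p.Prime] [CharP F p] {j0 : ℕ} (hyp : y ^ p ^ j0 = 1) :
    ∃ B : G3, blockAt B y = 1 + jordan ∧ y ∈ uniSub M B := by
  haveI : CharP M3 p := charP_of_injective_algebraMap (algebraMap F M3).injective p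
  obtain ⟨v, hv⟩ := cyclic_of_reg h h9 hy.reg hy.ne
  set n : M3 := (y : M3) - 1 with hn
  have hnil : n ^ p ^ j0 = 0 := by
    rw [hn, sub_pow_char_pow_of_commute _ _ (Commute.one_right _), one_pow, ← Units.val_pow_eq_pow_val, hyp,
      Units.val_one, sub_self]
  have hn3 : n ^ 3 = 0 := by
    have hχ : n.charpoly = Polynomial.X ^ 3 := by
      have := Matrix.isNilpotent_charpoly_sub_pow_of_isNilpotent (show IsNilpotent n from ⟨_, hnil⟩)
      rw [Fintype.card_fin] at this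
      exact sub_eq_zero.1 this.eq_zero
    have := Matrix.aeval_self_charpoly n
    rwa [hχ, map_pow, Polynomial.aeval_X] at this
  set w1 : Fin 3 → F := n *ᵥ v with hw1
  set w0 : Fin 3 → F := n *ᵥ w1 with hw0
  have hind : LinearIndependent F ![w0, w1, v] := by
    rw [Fintype.linearIndependent_iff]
    intro g hg i
    simp only [Fin.sum_univ_three, Matrix.cons_val] at hg
    obtain ⟨h1, h2, h3⟩ := hv (g 2 - g 1 + g 0) (g 1 - 2 * g 0) (g 0) (by
      rw [← hg, hw0, hw1, hn]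
      simp only [sub_mulVec, one_mulVec, mulVec_sub]
      module)
    have e1 : g 1 = 0 := by linear_combination h2 + 2 * h3
    have e2 : g 2 = 0 := by linear_combination h1 + h2 + h3
    fin_cases i
    exacts [h3, e1, e2]
  let Bm : M3 := (Matrix.of ![w0, w1, v])ᵀ
  obtain ⟨B, hB⟩ : IsUnit Bm :=
    Matrix.linearIndependent_cols_iff_isUnit.1 (show LinearIndependent F Bm.col from hind)
  have hcol : ∀ i, (B : M3) *ᵥ Pi.single i 1 = ![w0, w1, v] i := fun i => by
    rw [hB, mulVec_single_one]; rfl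
  have hnB : n * (B : M3) = (B : M3) * jordan := by
    refine Matrix.ext_of_mulVec_single fun i => ?_
    rw [← mulVec_mulVec, ← mulVec_mulVec, hcol]
    have hJ : (jordan : M3) *ᵥ Pi.single i 1 = ![0, Pi.single 0 1, Pi.single 1 1] i := by
      fin_cases i <;> ext k <;> fin_cases k <;> simp [jordan]
    rw [hJ]
    have hz : n *ᵥ w0 = 0 := by
      rw [hw0, hw1, mulVec_mulVec, mulVec_mulVec,
        show n * n * n = n ^ 3 by rw [pow_succ, pow_two], hn3, zero_mulVec]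
    fin_cases i
    · simpa using hz
    · simp [hcol]; rfl
    · simp [hcol]; rfl
  set J : M3 := jordan with hJdef
  have hyB : blockAt B y = 1 + J := by
    rw [blockAt, Units.val_mul, Units.val_mul, show (y : M3) = 1 + n by rw [hn]; abel, mul_add, add_mul, mul_one,
      mul_assoc, hnB, ← mul_assoc, ← Units.val_mul, inv_mul_cancel, Units.val_one,
      one_mul]
  have hyT : y ∈ uniSub M B := by
    refine mem_uniSub.2 ⟨⟨hy.reg.1, ?_⟩, fun i => ?_⟩
    · rw [hyB]; simp [J, jordan]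
    · rw [hyB]; fin_cases i <;> simp [J, jordan]
  exact ⟨B, hyB, hyT⟩

/-- `p`-subgroups containing an isolated element lie in its centraliser. -/
theorem Isolated.pgroup_le (h : Hyp W M) (h9 : ∀ ζ : F, ζ ^ 3 ≠ W.ω) {y : G3} (hy : Isolated M y)
    (p : ℕ) [hp : Fact p.Prime] [CharP F p] {S : Subgroup G3} (hS : S ≤ M) (hSp : IsPGroup p S) (hyS : y ∈ S) :
    S ≤ cen M y := by
  have hp7 : 7 ≤ p := by rw [← ringChar.eq F p]; exact h.char
  intro s hs
  haveI : Nontrivial S := ⟨⟨⟨y, hyS⟩, 1, fun e => hy.ne (by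
    rw [show y = 1 from congrArg Subtype.val e, one_mul])⟩⟩
  haveI := hSp.center_nontrivial
  obtain ⟨z, hz⟩ := exists_ne (1 : Subgroup.center S)
  set ζ : G3 := ((z : S) : G3) with hζ
  have hcomm : ∀ t ∈ S, t * ζ = ζ * t := fun t ht =>
    congrArg Subtype.val (Subgroup.mem_center_iff.1 z.2 ⟨t, ht⟩)
  obtain ⟨k, hk⟩ := hSp z
  have hζk : ζ ^ p ^ k = 1 := congrArg Subtype.val hk
  have hζA : ζ ∈ regSet (cen M y) := by
    refine ⟨mem_cen.2 ⟨hS (z : S).2, (hcomm y hyS).symm⟩, fun h3 => ?_⟩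
    have := Nat.Prime.dvd_of_dvd_pow Nat.prime_three (h3.trans (orderOf_dvd_of_pow_eq_one hζk))
    have := (Nat.prime_dvd_prime_iff_eq Nat.prime_three hp.out).1 this
    omega
  refine hy.cent_le h h9 hζA (fun e => hz (Subtype.ext (Subtype.ext e))) (hS hs) (hcomm s hs)

theorem Isolated.cen_poly (h : Hyp W M) (h9 : ∀ ζ : F, ζ ^ 3 ≠ W.ω) {y : G3} (hy : Isolated M y)
    (p : ℕ) [hp : Fact p.Prime] [CharP F p] {B : G3} (hyB : blockAt B y = 1 + jordan) :
    ∀ a ∈ cen M y, ∃ c0 c1 c2 : F,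
      blockAt B a = c0 • 1 + c1 • jordan + c2 • (jordan * jordan) := by
  obtain ⟨v, hv⟩ := cyclic_of_reg h h9 hy.reg hy.ne
  intro a ha
  obtain ⟨r, s, t, hrst⟩ := eq_poly_of_commute hv (x := (a : M3)) (congrArg Units.val (mem_cen.1 ha).2)
  refine ⟨r + s + t, s + 2 * t, t, ?_⟩
  have e : blockAt B a = r • blockAt B 1 + s • blockAt B y + t • blockAt B (y * y) := by
    simp only [blockAt, Units.val_mul, hrst, Units.val_one]
    simp only [mul_add, add_mul, mul_smul_comm, smul_mul_assoc, mul_assoc, one_mul, mul_one]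
  rw [e, blockAt_one, blockAt_mul, hyB]
  simp only [mul_add, add_mul, mul_one, one_mul]
  module

/-- The regular part of the centraliser is unitriangular. -/
theorem Isolated.regSet_eq_uni (h : Hyp W M) (h9 : ∀ ζ : F, ζ ^ 3 ≠ W.ω) {y : G3} (hy : Isolated M y)
    (p : ℕ) [hp : Fact p.Prime] [CharP F p] (hss : ∀ x, Isolated M x → p ∣ orderOf x) {B : G3}
    (hyB : blockAt B y = 1 + jordan) (hyT : y ∈ uniSub M B) :
    regSet (cen M y) = (uniSub M B : Set G3) := by
  haveI : CharP M3 p := charP_of_injective_algebraMap (algebraMap F M3).injective p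
  have hp7 : 7 ≤ p := by rw [← ringChar.eq F p]; exact h.char
  set J : M3 := jordan with hJdef
  -- every regular element of the centraliser is a `p`-element
  have hAp : ∀ a ∈ regSet (cen M y), ∃ j, a ^ p ^ j = 1 := by
    intro a ha
    by_cases ha1 : a = 1
    · exact ⟨0, by rw [ha1, one_pow]⟩
    exact ((hy.of_mem h h9 ha ha1).pure h h9 p).resolve_left fun hn' => hn' (hss a (hy.of_mem h h9 ha ha1))
  have hUA : uniSub M B ≤ cen M y :=
    hy.pgroup_le h h9 p (fun g hg => (mem_uniSub.1 hg).1.1) (isPGroup_uniSub p (by omega) B) hyT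
  have hpoly := hy.cen_poly h h9 p hyB
  have hAU : ∀ a ∈ regSet (cen M y), a ∈ uniSub M B := by
    intro a ha
    obtain ⟨c0, c1, c2, hc⟩ := hpoly a ha.1
    obtain ⟨k, hk⟩ := hAp a ha
    have htri : a ∈ triSub M B := ⟨(mem_cen.1 ha.1).1, by rw [hc]; simp [J, jordan, Matrix.mul_apply, Fin.sum_univ_three]⟩
    refine mem_uniSub.2 ⟨htri, fun i => ?_⟩
    have e : diagHom M B i ⟨a, htri⟩ ^ p ^ k = 1 := by
      rw [← map_pow, show (⟨a, htri⟩ : triSub M B) ^ p ^ k = 1 from Subtype.ext (by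
        rw [SubgroupClass.coe_pow]; exact hk), map_one]
    have h' : (diagHom M B i ⟨a, htri⟩ - 1) ^ p ^ k = 0 := by rw [sub_pow_char_pow, one_pow, e, sub_self]
    exact sub_eq_zero.1 (eq_zero_of_pow_eq_zero h')
  have hregU : regSet (cen M y) = (uniSub M B : Set G3) := by
    refine Set.Subset.antisymm hAU fun g hg => ?_
    obtain ⟨k, hk⟩ := isPGroup_uniSub (M := M) p (by omega) B ⟨g, hg⟩
    refine ⟨hUA hg, fun h3 => ?_⟩
    have := Nat.Prime.dvd_of_dvd_pow Nat.prime_three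
      (h3.trans (orderOf_dvd_of_pow_eq_one (show g ^ p ^ k = 1 from congrArg Subtype.val hk)))
    have := (Nat.prime_dvd_prime_iff_eq Nat.prime_three hp.out).1 this
    omega
  exact hregU

/-- All `p`-elements are conjugate into the centraliser. -/
theorem Isolated.mem_conjSet_of_p (h : Hyp W M) (h9 : ∀ ζ : F, ζ ^ 3 ≠ W.ω) {y : G3} (hy : Isolated M y)
    (p : ℕ) [hp : Fact p.Prime] [CharP F p] {B : G3} (hyT : y ∈ uniSub M B) :
    ∀ x ∈ regSet M, (∃ j, x ^ p ^ j = 1) → x ≠ 1 → x ∈ conjSet M (regSet (cen M y) \ {1}) := by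
  have hp7 : 7 ≤ p := by rw [← ringChar.eq F p]; exact h.char
  rintro x hx ⟨k, hk⟩ hx1
  have hP : ∀ g : M, g ^ p ^ k = 1 → IsPGroup p (Subgroup.zpowers g) := by
    rintro g hg ⟨z, hz⟩
    obtain ⟨i, rfl⟩ := Subgroup.mem_zpowers_iff.1 hz
    refine ⟨k, Subtype.ext ?_⟩
    rw [SubgroupClass.coe_pow, Subgroup.coe_one, ← zpow_natCast, ← _root_.zpow_mul, mul_comm,
      _root_.zpow_mul, zpow_natCast, hg, _root_.one_zpow]
  have hPy : IsPGroup p ((uniSub M B).subgroupOf M) :=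
    (isPGroup_uniSub p (by omega) B).of_equiv
      (Subgroup.subgroupOfEquivOfLe (fun g hg => (mem_uniSub.1 hg).1.1)).symm
  obtain ⟨S, hS⟩ := hPy.exists_le_sylow
  obtain ⟨T, hT⟩ := (hP ⟨x, hx.1⟩ (Subtype.ext hk)).exists_le_sylow
  obtain ⟨g, hg⟩ := MulAction.exists_smul_eq M S T
  have hxT : (⟨x, hx.1⟩ : M) ∈ T := hT (Subgroup.mem_zpowers _)
  have hxT' : (⟨x, hx.1⟩ : M) ∈ (T : Subgroup M) := hxT
  rw [← hg, Sylow.coe_subgroup_smul] at hxT'
  obtain ⟨s, hs, e⟩ := hxT'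
  have hSA : (S : Subgroup M).map M.subtype ≤ cen M y := by
    refine hy.pgroup_le h h9 p (fun g hg => ?_) (S.isPGroup'.map M.subtype) ⟨⟨y, hy.reg.1⟩, hS hyT, rfl⟩
    obtain ⟨g', -, rfl⟩ := hg
    exact g'.2
  have hsA : (s : G3) ∈ cen M y := hSA ⟨s, hs, rfl⟩
  have he : (g : G3) * s * (g : G3)⁻¹ = x := congrArg Subtype.val e
  refine ⟨g, g.2, s, ⟨⟨hsA, ?_⟩, fun e1 => hx1 ?_⟩, he⟩
  · rw [show (s : G3) = (g : G3)⁻¹ * x * g by rw [← he]; group,
      show (g : G3)⁻¹ * x * g = MulAut.conj (g : G3)⁻¹ x by simp, MulEquiv.orderOf_eq]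
    exact hx.2
  · rw [← he, show (s : G3) = 1 from e1]; group

theorem Isolated.p_le_card (h : Hyp W M) (h9 : ∀ ζ : F, ζ ^ 3 ≠ W.ω) {y : G3} (hy : Isolated M y)
    (p : ℕ) [hp : Fact p.Prime] [CharP F p] {B : G3} (hyT : y ∈ uniSub M B)
    (hregU : regSet (cen M y) = (uniSub M B : Set G3)) : p ≤ (regSet (cen M y)).ncard := by
  have hp7 : 7 ≤ p := by rw [← ringChar.eq F p]; exact h.char
  rw [hregU, ← Nat.card_coe_set_eq]
  have h1 : 1 < Nat.card (uniSub M B) := Finite.one_lt_card_iff_nontrivial.2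
    ⟨⟨⟨y, hyT⟩, 1, fun e => hy.ne (by rw [show y = 1 from congrArg Subtype.val e, one_mul])⟩⟩
  obtain ⟨k, hk⟩ := IsPGroup.iff_card.1 (isPGroup_uniSub (M := M) p (by omega) B)
  change p ≤ Nat.card (uniSub M B)
  rw [hk] at h1 ⊢
  exact Nat.le_self_pow (fun e => by rw [e, pow_zero] at h1; omega) p

set_option maxHeartbeats 1000000 in
/-- The normaliser is triangular. -/
theorem Isolated.nor_tri (h : Hyp W M) (h9 : ∀ ζ : F, ζ ^ 3 ≠ W.ω) {y : G3} (hy : Isolated M y)
    (p : ℕ) [hp : Fact p.Prime] [CharP F p] {B : G3} (hyB : blockAt B y = 1 + jordan)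
    (hregU : regSet (cen M y) = (uniSub M B : Set G3)) {g : G3} (hg : g ∈ norCen M y) :
    g ∈ triSub M B ∧ blockAt B g 0 0 * blockAt B g 2 2 = blockAt B g 1 1 * blockAt B g 1 1 := by
  have hpoly := hy.cen_poly h h9 p hyB
  have hAU : ∀ a ∈ regSet (cen M y), a ∈ uniSub M B := fun a ha => hregU.le ha
  set J : M3 := jordan with hJdef
  obtain ⟨hgM, hgN⟩ := Subgroup.mem_inf.1 hg
  have hm : g * y * g⁻¹ ∈ regSet (cen M y) :=
    ⟨(Subgroup.mem_normalizer_iff.1 hgN y).1 (hy.mem_self h h9).1, by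
      rw [show g * y * g⁻¹ = MulAut.conj g y from rfl, MulEquiv.orderOf_eq]; exact hy.reg.2⟩
  obtain ⟨c0, c1, c2, hc⟩ := hpoly _ hm.1
  have hc0 : c0 = 1 := by
    have := (mem_uniSub.1 (hAU _ hm)).2 0
    rw [hc] at this
    simpa [J, jordan, Matrix.mul_apply, Fin.sum_univ_three] using this
  have he : blockAt B g * blockAt B y = blockAt B (g * y * g⁻¹) * blockAt B g := by
    rw [← blockAt_mul, ← blockAt_mul, inv_mul_cancel_right]
  rw [hc, hc0, hyB] at he
  have hc1 : c1 ≠ 0 := fun e1 => by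
    have hns : blockAt B (g * y * g⁻¹) = 1 + c2 • (J * J) := by rw [hc, hc0, e1]; simp
    have hsq : (blockAt B (g * y * g⁻¹) - 1) * (blockAt B (g * y * g⁻¹) - 1) = 0 := by
      rw [hns, add_sub_cancel_left, smul_mul_smul_comm]
      ext i k; fin_cases i <;> fin_cases k <;> simp [J, jordan, Matrix.mul_apply, Fin.sum_univ_three]
    have hcj : blockAt B (g * y * g⁻¹) - 1 = blockAt B g * J * blockAt B g⁻¹ := by
      rw [blockAt_mul, blockAt_mul, hyB, mul_add, add_mul, mul_one, ← blockAt_mul (B := B) g g⁻¹, mul_inv_cancel,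
        blockAt_one, add_sub_cancel_left]
    have hJ2 : blockAt B g * (J * J) * blockAt B g⁻¹ = 0 := by
      rw [← hsq, hcj, show blockAt B g * J * blockAt B g⁻¹ * (blockAt B g * J * blockAt B g⁻¹) =
        blockAt B g * J * (blockAt B g⁻¹ * blockAt B g) * J * blockAt B g⁻¹ by simp only [mul_assoc],
        ← blockAt_mul, inv_mul_cancel, blockAt_one, mul_one]
      simp only [mul_assoc]
    have h0 := congrArg (fun Z => blockAt B g⁻¹ * Z * blockAt B g) hJ2
    simp only [← mul_assoc, ← blockAt_mul, inv_mul_cancel, blockAt_one, one_mul, mul_zero, zero_mul] at h0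
    rw [mul_assoc (J * J), ← blockAt_mul, inv_mul_cancel, blockAt_one, mul_one] at h0
    have := congrFun (congrFun h0 0) 2
    simp [J, jordan, Matrix.mul_apply, Fin.sum_univ_three] at this
  have e := fun i k => congrFun (congrFun he i) k
  have e10 := e 1 0
  have e11 := e 1 1
  have e00 := e 0 0
  have e01 := e 0 1
  have e12 := e 1 2
  simp [J, jordan, Matrix.mul_apply, Fin.sum_univ_three] at e10 e11 e00 e01 e12
  refine ⟨⟨hgM, ?_⟩, ?_⟩
  · grind
  · grind

theorem Isolated.tri_le_nor (h : Hyp W M) (h9 : ∀ ζ : F, ζ ^ 3 ≠ W.ω) {y : G3} (hy : Isolated M y)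
    (p : ℕ) [hp : Fact p.Prime] [CharP F p] {B : G3} (hyT : y ∈ uniSub M B)
    (hregU : regSet (cen M y) = (uniSub M B : Set G3)) : ∀ g ∈ triSub M B, g ∈ norCen M y := by
  have hUA : uniSub M B ≤ cen M y := fun a ha => (hregU.symm.le ha).1
  intro g hg
  refine Subgroup.mem_inf.2 ⟨hg.1, ?_⟩
  have hgy : g * y * g⁻¹ ∈ cen M y := hUA (conj_mem_uniSub hg hyT)
  have hle : (cen M y).map (MulAut.conj g).toMonoidHom ≤ cen M y := by
    rintro _ ⟨a, ha, rfl⟩
    refine hy.cent_le h h9 (a := g * y * g⁻¹) ⟨hgy, ?_⟩ (fun e => hy.ne ?_)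
      (mul_mem (mul_mem hg.1 (mem_cen.1 ha).1) (inv_mem hg.1)) ?_
    · rw [show g * y * g⁻¹ = MulAut.conj g y from rfl, MulEquiv.orderOf_eq]; exact hy.reg.2
    · rw [mul_inv_eq_one, mul_eq_left] at e; rw [e, one_mul]
    · show g * a * g⁻¹ * (g * y * g⁻¹) = g * y * g⁻¹ * (g * a * g⁻¹)
      rw [show g * a * g⁻¹ * (g * y * g⁻¹) = g * (a * y) * g⁻¹ by group, (mem_cen.1 ha).2]; group
  have heq : (cen M y).map (MulAut.conj g).toMonoidHom = cen M y :=
    Subgroup.eq_of_le_of_card_ge hle (Subgroup.card_map_of_injective (MulAut.conj g).injective).ge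
  refine Subgroup.mem_normalizer_iff.2 fun a => ⟨fun ha => heq ▸ ⟨a, ha, rfl⟩, fun ha => ?_⟩
  rw [← heq] at ha
  obtain ⟨b, hb, hba⟩ := ha
  obtain rfl : b = a := (MulAut.conj g).injective hba
  exact hb

/-- The ratio of the first two diagonal entries. -/
def ratioHom {B : GL (Fin 3) F} {N : Subgroup (GL (Fin 3) F)} (hN : N ≤ triSub M B) : N →* F where
  toFun g := diagHom M B 0 (Subgroup.inclusion hN g) * diagHom M B 1 (Subgroup.inclusion hN g⁻¹)
  map_one' := by simp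
  map_mul' g k := by
    rw [_root_.mul_inv_rev, map_mul, map_mul, map_mul, map_mul]; ring

theorem Isolated.ratio_eq_one (h : Hyp W M) (h9 : ∀ ζ : F, ζ ^ 3 ≠ W.ω) {y : G3} (hy : Isolated M y)
    (p : ℕ) [hp : Fact p.Prime] [CharP F p] {B : G3} (hyB : blockAt B y = 1 + jordan)
    (hregU : regSet (cen M y) = (uniSub M B : Set G3)) (hN : norCen M y ≤ triSub M B)
    (g : norCen M y) : ratioHom hN g = 1 ↔ (g : G3) ∈ cen M y := by
  have hpoly := hy.cen_poly h h9 p hyB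
  have hUA : uniSub M B ≤ cen M y := fun a ha => (hregU.symm.le ha).1
  have hJJ := fun g hg => hy.nor_tri h h9 p hyB hregU (g := g) hg
  set J : M3 := jordan with hJdef
  have hd1 : ∀ g : norCen M y, blockAt B (g : G3) 1 1 * blockAt B ((g⁻¹ : norCen M y) : G3) 1 1 = 1 := fun g => by
    have := map_mul (diagHom M B 1) (Subgroup.inclusion hN g) (Subgroup.inclusion hN g⁻¹)
    rw [← map_mul, mul_inv_cancel, map_one, map_one] at this
    exact this.symm
  obtain ⟨hgT, hJ'⟩ := hJJ g g.2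
  constructor
  · intro e
    have e' : blockAt B (g : G3) 0 0 = blockAt B (g : G3) 1 1 := by
      change blockAt B (g : G3) 0 0 * blockAt B ((g⁻¹ : norCen M y) : G3) 1 1 = 1 at e
      linear_combination blockAt B (g : G3) 1 1 * e - blockAt B (g : G3) 0 0 * hd1 g
    set l := blockAt B (g : G3) 1 1 with hl
    have hl0 : l ≠ 0 := left_ne_zero_of_mul_eq_one (hd1 g)
    have e2 : blockAt B (g : G3) 2 2 = l := mul_left_cancel₀ hl0 (by rw [← hJ', e'])
    have hdet := blockAt_det (B := B) (g : G3)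
    rw [show ((g : G3) : M3).det = 1 from mem_specialLinear_iff.1 (h.sl hgT.1), det_fin_three,
      hgT.2.1, hgT.2.2.1, hgT.2.2.2, e', e2, ← hl] at hdet
    have hl3 : l ^ 3 = 1 := by linear_combination hdet
    have hprim : IsPrimitiveRoot W.ω 3 := (IsPrimitiveRoot.iff (by norm_num)).2 ⟨W.cube, fun i hi hi3 => by
      interval_cases i
      exacts [by simpa using W.ne_one, W.sq_ne_one]⟩
    obtain ⟨k, -, hk⟩ := hprim.eq_pow_of_pow_eq_one hl3
    have hzB : blockAt B (W.zG ^ k) = W.ω ^ k • (1 : M3) := by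
      rw [blockAt, mul_assoc, (Commute.pow_left (W.zG_comm B) k).eq, inv_mul_cancel_left, Omega.z_val]
    have hzM : W.zG ^ k ∈ M := pow_mem (h.heis_le W.z_mem) k
    have hzA : W.zG ^ k ∈ cen M y := mem_cen.2 ⟨hzM, (Commute.pow_left (W.zG_comm y) k).eq⟩
    have hzk : W.ω ^ (3 * k) = 1 := by rw [pow_mul, W.cube, one_pow]
    have hu : (W.zG ^ k) ^ 2 * (g : G3) ∈ uniSub M B := by
      have hz2 : blockAt B ((W.zG ^ k) ^ 2) = (W.ω ^ k) ^ 2 • (1 : M3) := by
        rw [pow_two, blockAt_mul, hzB, smul_mul_smul_comm, one_mul, pow_two]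
      refine mem_uniSub.2 ⟨⟨mul_mem (pow_mem hzM 2) hgT.1, ?_⟩, fun i => ?_⟩
      · rw [blockAt_mul, hz2, smul_mul_assoc, one_mul]
        simp [hgT.2.1, hgT.2.2.1, hgT.2.2.2]
      · rw [blockAt_mul, hz2, smul_mul_assoc, one_mul, Matrix.smul_apply, smul_eq_mul]
        fin_cases i <;> simp [e', e2, ← hl] <;> rw [← hk] <;> linear_combination hzk
    have := mul_mem (inv_mem (pow_mem hzA 2)) (hUA hu)
    rwa [inv_mul_cancel_left] at this
  · intro hgA
    obtain ⟨c0, c1, c2, hc⟩ := hpoly _ hgA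
    change blockAt B (g : G3) 0 0 * blockAt B ((g⁻¹ : norCen M y) : G3) 1 1 = 1
    have : blockAt B (g : G3) 0 0 = blockAt B (g : G3) 1 1 := by
      rw [hc]; simp [J, jordan, Matrix.mul_apply, Fin.sum_univ_three]
    rw [this]; exact hd1 g

/-- The dichotomy for the normaliser of an isolated unipotent centraliser. -/
theorem Isolated.unipotent (h : Hyp W M) (h9 : ∀ ζ : F, ζ ^ 3 ≠ W.ω) {y : G3} (hy : Isolated M y)
    (p : ℕ) [hp : Fact p.Prime] [CharP F p] {j0 : ℕ} (hyp : y ^ p ^ j0 = 1)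
    (hss : ∀ x, Isolated M x → p ∣ orderOf x) :
    (∀ x ∈ regSet M, (∃ j, x ^ p ^ j = 1) → x ≠ 1 →
        x ∈ conjSet M (regSet (cen M y) \ {1})) ∧
      p ≤ (regSet (cen M y)).ncard ∧
      ∃ d, Nat.card (norCen M y) = d * Nat.card (cen M y) ∧
        (d ≤ 4 ∨ (8 ≤ d ∧ ∃ x ∈ regSet M, x * x ≠ 1 ∧ 8 ≤ orderOf x ∧
          ∃ τ ∈ M, τ * τ = 1 ∧ τ ≠ 1 ∧ x * τ = τ * x)) := by
  classical
  have hp7 : 7 ≤ p := by rw [← ringChar.eq F p]; exact h.char
  obtain ⟨B, hyB, hyT⟩ := hy.exists_frame h h9 p hyp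
  have hregU := hy.regSet_eq_uni h h9 p hss hyB hyT
  refine ⟨hy.mem_conjSet_of_p h h9 p hyT, hy.p_le_card h h9 p hyT hregU, ?_⟩
  have hJJ := fun g hg => hy.nor_tri h h9 p hyB hregU (g := g) hg
  have htri_nor := hy.tri_le_nor h h9 p hyT hregU
  have hN : norCen M y ≤ triSub M B := fun g hg => (hJJ g hg).1
  let ρ : norCen M y →* F := ratioHom hN
  have hρinj : ∀ g : norCen M y, ρ g = 1 ↔ (g : G3) ∈ cen M y := hy.ratio_eq_one h h9 p hyB hregU hN
  let ρ' : norCen M y →* Fˣ := ρ.toHomUnits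
  have hker : ρ'.ker = (cen M y).subgroupOf (norCen M y) := by
    ext g
    rw [MonoidHom.mem_ker, Subgroup.mem_subgroupOf, ← hρinj]
    exact ⟨fun e => by simpa [ρ'] using congrArg Units.val e, fun e => Units.ext (by simpa [ρ'] using e)⟩
  set d := Nat.card ρ'.range
  refine ⟨d, ?_, ?_⟩
  · show Nat.card (norCen M y) = Nat.card ρ'.range * Nat.card (cen M y)
    rw [← Subgroup.index_ker, hker, ← Nat.card_congr (Subgroup.subgroupOfEquivOfLe (cen_le_norCen y)).toEquiv,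
      Subgroup.index_mul_card]
  -- a generator of the quotient
  obtain ⟨⟨_, g, rfl⟩, hgen⟩ := IsCyclic.exists_ofOrder_eq_natCard (α := ρ'.range)
  rw [← Subgroup.orderOf_coe] at hgen
  change orderOf (ρ' g) = d at hgen
  obtain ⟨a, b, j, haj, hgb, he⟩ := exists_decomp (L := norCen M y) g.2
  by_cases hs : IsScal (((g : G3) ^ a : G3) : M3)
  swap
  · have hb1 : (g : G3) ^ b = 1 := regSet.eq_one (j := 1) (L := norCen M y) hgb (by
      rw [pow_one]
      exact pow_three_of_comm h h9 (Subgroup.mem_inf.1 (pow_mem g.2 a)).1 haj hs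
        (Subgroup.mem_inf.1 hgb.1).1 (Commute.pow_pow (Commute.refl (g : G3)) b a).eq)
    rw [hb1, mul_one] at he
    rw [he] at haj hs
    obtain ⟨x, hxM, hx⟩ := (three_conj h h9 (Subgroup.mem_inf.1 g.2).1 haj).resolve_left
      fun ⟨k, e⟩ => hs ⟨_, e ▸ W.z_val k⟩
    have hg3 : g ^ 3 = 1 := Subtype.ext (by
      rw [SubgroupClass.coe_pow, show (g : G3) = x⁻¹ * W.dG * x⁻¹⁻¹ by rw [← hx]; group, conj_pow, W.d_pow_three]
      simp)
    left
    have : d ∣ 3 := hgen ▸ orderOf_dvd_of_pow_eq_one (by rw [← map_pow, hg3, map_one])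
    have := Nat.le_of_dvd (by norm_num) this
    omega
  set x : norCen M y := g ^ b with hxdef
  have hρx : ρ' g = ρ' x := by
    have h1 : ρ' (g ^ a) = 1 := by
      rw [← MonoidHom.mem_ker, hker, Subgroup.mem_subgroupOf, SubgroupClass.coe_pow, mem_cen]
      obtain ⟨c, hc⟩ := hs
      exact ⟨pow_mem (Subgroup.mem_inf.1 g.2).1 a, Units.ext (by
        rw [Units.val_mul, Units.val_mul, hc]; simp)⟩
    have : g = g ^ a * x := Subtype.ext (by rw [hxdef, Subgroup.coe_mul, SubgroupClass.coe_pow, SubgroupClass.coe_pow]; exact he.symm)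
    conv_lhs => rw [this]
    rw [map_mul, h1, one_mul]
  have hxR : (x : G3) ∈ regSet M := by
    rw [hxdef, SubgroupClass.coe_pow]; exact ⟨(Subgroup.mem_inf.1 hgb.1).1, hgb.2⟩
  have hdx : d ∣ orderOf (x : G3) := by
    rw [← hgen, hρx, Subgroup.orderOf_coe]
    exact orderOf_map_dvd ρ' x
  have h3d : ¬ 3 ∣ d := fun e => hxR.2 (e.trans hdx)
  by_cases hd4 : d ≤ 4
  · exact .inl hd4
  right
  have hxx : (x : G3) * x ≠ 1 := fun e => by
    have := Nat.le_of_dvd (by norm_num) (hdx.trans (orderOf_dvd_of_pow_eq_one (by rwa [pow_two] : (x : G3) ^ 2 = 1)))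
    omega
  obtain ⟨τ, hτ, hττ, hτ1, hxτ⟩ : ∃ τ ∈ M, τ * τ = 1 ∧ τ ≠ 1 ∧ (x : G3) * τ = τ * x := by
    by_contra hall
    have hiso : Isolated M (x : G3) := ⟨hxR, hxx, fun τ hτ hττ hc => by
      by_contra h1; exact hall ⟨τ, hτ, hττ, h1, hc⟩⟩
    obtain ⟨k, hk⟩ := (hiso.pure h h9 p).resolve_left fun hn' => hn' (hss _ hiso)
    have h1 : d ∣ p ^ k := hdx.trans (orderOf_dvd_of_pow_eq_one hk)
    obtain ⟨i, -, hi⟩ := (Nat.dvd_prime_pow hp.out).1 h1
    have hu : ρ' g ^ p ^ i = 1 := by rw [← hi, ← hgen, pow_orderOf_eq_one]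
    have h0 : (((ρ' g : Fˣ) : F) - 1) ^ p ^ i = 0 := by
      rw [sub_pow_char_pow, one_pow, ← Units.val_pow_eq_pow_val, hu, Units.val_one, sub_self]
    have : ρ' g = 1 := Units.ext (sub_eq_zero.1 (eq_zero_of_pow_eq_zero h0))
    rw [this, orderOf_one] at hgen
    omega
  -- the involution is triangular
  obtain ⟨vx, hvx⟩ := cyclic_of_reg h h9 hxR hxx
  obtain ⟨r, s, t, hrst⟩ := eq_poly_of_commute hvx (x := (τ : M3)) (congrArg Units.val hxτ).symm
  have hxT := (hJJ x x.2).1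
  have hτT : τ ∈ triSub M B := by
    refine ⟨hτ, ?_⟩
    have e : blockAt B τ = r • blockAt B 1 + s • blockAt B (x : G3) + t • blockAt B ((x : G3) * x) := by
      simp only [blockAt, Units.val_mul, hrst, Units.val_one]
      simp only [mul_add, add_mul, mul_smul_comm, smul_mul_assoc, mul_assoc, one_mul, mul_one]
    rw [e, blockAt_one, blockAt_mul]
    obtain ⟨-, a', b', c'⟩ := hxT
    simp [Matrix.mul_apply, Fin.sum_univ_three, a', b', c']
  set τ' : norCen M y := ⟨τ, htri_nor τ hτT⟩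
  have hτne : ρ' τ' ≠ 1 := fun e => by
    rw [← MonoidHom.mem_ker, hker, Subgroup.mem_subgroupOf] at e
    exact hτ1 (hy.noInv τ hτ hττ (mem_cen.1 e).2.symm)
  have h2d : 2 ∣ d := by
    haveI : Fact (Nat.Prime 2) := ⟨Nat.prime_two⟩
    rw [← orderOf_eq_prime (p := 2) (x := (⟨ρ' τ', τ', rfl⟩ : ρ'.range)) ?_ ?_]
    · exact orderOf_dvd_natCard _
    · refine Subtype.ext ?_
      rw [SubgroupClass.coe_pow, pow_two, Subgroup.coe_one, ← map_mul,
        show τ' * τ' = 1 from Subtype.ext hττ, map_one]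
    · exact fun e => hτne (congrArg Subtype.val e)
  have h8 : 8 ≤ d := by omega
  exact ⟨h8, x, hxR, hxx, le_trans h8 (Nat.le_of_dvd (orderOf_pos _) hdx), τ, hτ, hττ, hτ1, hxτ⟩

end CfsgLib.Classical.GeoThree.C6
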