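import Cfsg.Agent.Lib.Classical.GeoThree.C6.FromData
import Cfsg.Agent.Lib.Classical.GeoThree.SU.Bridge

/-!
# Maximality of the normaliser of an extraspecial group of order 27 in `SU₃(p)`
-/

set_option autoImplicit false
set_option linter.unusedSectionVars false
set_option linter.style.haveILetI false
set_option backward.isDefEq.respectTransparency false

open Matrix Cfsg.Geo

namespace CfsgLib.Classical.GeoThree.C6

open CfsgLib.Classical

variable {F : Type*} [Field F] [Fintype F] {q : ℕ} {σ : F →+* F}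

local notation "M3" => Matrix (Fin 3) (Fin 3) F
local notation "G3" => GL (Fin 3) F

theorem herm_three (hσ : ∀ x, σ x = x ^ q) (u v : Fin 3 → F) :
    Cfsg.hermForm 3 F q u v = u 0 * σ (v 0) + u 1 * σ (v 1) + u 2 * σ (v 2) := by
  simp only [Cfsg.hermForm, Fin.sum_univ_three, hσ]

theorem mem_gu {g : G3} : g ∈ Cfsg.GU 3 F q ↔
    ∀ u v, Cfsg.hermForm 3 F q ((g : M3) *ᵥ u) ((g : M3) *ᵥ v) = Cfsg.hermForm 3 F q u v := Iff.rfl

variable {W : Omega F}

/-- The cube root of unity is inverted by the conjugation when `q ≡ 2` modulo 3. -/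
theorem conj_omega (hσ : ∀ x, σ x = x ^ q) (h3 : q % 3 = 2) : σ W.ω = W.ω ^ 2 := by
  rw [hσ, pow_eq_pow_mod q W.cube, h3]

theorem d_gu (hσ : ∀ x, σ x = x ^ q) (h3 : q % 3 = 2) : W.dG ∈ Cfsg.GU 3 F q := by
  intro u v
  change Cfsg.hermForm 3 F q ((W.dG : M3) *ᵥ u) ((W.dG : M3) *ᵥ v) = _
  rw [herm_three hσ, herm_three hσ]
  simp [Omega.dG, Matrix.mulVec, dotProduct, Fin.sum_univ_three, conj_omega hσ h3]
  grind [W.cube]

theorem p_gu (hσ : ∀ x, σ x = x ^ q) : W.pG ∈ Cfsg.GU 3 F q := by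
  intro u v
  change Cfsg.hermForm 3 F q ((W.pG : M3) *ᵥ u) ((W.pG : M3) *ᵥ v) = _
  rw [herm_three hσ, herm_three hσ]
  simp [Omega.pG, Matrix.mulVec, dotProduct, Fin.sum_univ_three]
  ring

theorem conj_s (hσ : ∀ x, σ x = x ^ q) (h3 : q % 3 = 2) : σ W.s = -W.s := by
  rw [Omega.s, map_sub, map_pow, conj_omega hσ h3]
  linear_combination (-W.ω) * W.cube

theorem f_gu (hσ : ∀ x, σ x = x ^ q) (h3 : q % 3 = 2) : W.fG ∈ Cfsg.GU 3 F q := by
  intro u v
  change Cfsg.hermForm 3 F q ((W.fG : M3) *ᵥ u) ((W.fG : M3) *ᵥ v) = _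
  rw [herm_three hσ, herm_three hσ]
  have hs := W.s_ne
  have h2 := W.s_sq
  simp [Omega.fG, Matrix.mulVec, dotProduct, Fin.sum_univ_three, conj_omega hσ h3, conj_s hσ h3]
  field_simp
  grind [W.root, W.cube]

theorem j_gu (hσ : ∀ x, σ x = x ^ q) (h3 : q % 3 = 2) : W.jG ∈ Cfsg.GU 3 F q := by
  intro u v
  change Cfsg.hermForm 3 F q ((W.jG : M3) *ᵥ u) ((W.jG : M3) *ᵥ v) = _
  rw [herm_three hσ, herm_three hσ]
  have hs := W.s_ne
  have h2 := W.s_sq
  simp [Omega.jG, Matrix.mulVec, dotProduct, Fin.sum_univ_three, conj_omega hσ h3, conj_s hσ h3]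
  field_simp
  grind [W.root, W.cube]

/-- The element of order nine is unitary. -/
theorem hex_gu (hF : Fintype.card F = q ^ 2) (hσ : ∀ x, σ x = x ^ q) (h3 : q % 3 = 2) {ζ : F}
    (hζ : ζ ^ 3 = W.ω) {g : G3} (hg : (g : M3) = ζ • !![1, 0, 0; 0, W.ω, 0; 0, 0, W.ω]) :
    g ∈ Cfsg.GU 3 F q := by
  intro u v
  change Cfsg.hermForm 3 F q ((g : M3) *ᵥ u) ((g : M3) *ᵥ v) = _
  have hn : ζ * σ ζ = 1 := by
    have hz0 : ζ ≠ 0 := fun e => W.ne_zero (by rw [← hζ, e, zero_pow three_ne_zero])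
    obtain ⟨k, rfl⟩ : ∃ k, q = 3 * k + 2 := ⟨q / 3, by omega⟩
    have h9 : ζ ^ (9 : ℕ) = 1 := by rw [show 9 = 3 * 3 from rfl, pow_mul, hζ, W.cube]
    have h1 : (ζ ^ (3 * k + 2 + 1)) ^ (3 * k + 1) = 1 := by
      have := FiniteField.pow_card_sub_one_eq_one ζ hz0
      rw [hF, show (3 * k + 2) ^ 2 - 1 = (3 * k + 2 + 1) * (3 * k + 1) by
        rw [Nat.sub_eq_iff_eq_add (Nat.one_le_pow _ _ (by omega))]; ring, pow_mul] at this
      exact this
    have h2 : (ζ ^ (3 * k + 2 + 1)) ^ 9 = 1 := by rw [← pow_mul, mul_comm, pow_mul, h9, one_pow]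
    have hc : Nat.Coprime (3 * k + 1) 9 := by
      rw [show (9 : ℕ) = 3 ^ 2 from rfl]
      exact Nat.Coprime.pow_right 2 ((Nat.prime_three.coprime_iff_not_dvd.2 (by omega)).symm)
    rw [hσ, ← pow_succ']
    have := pow_gcd_eq_one.2 ⟨h1, h2⟩
    rwa [hc.gcd_eq_one, pow_one] at this
  rw [herm_three hσ, herm_three hσ]
  simp [hg, Matrix.mulVec, dotProduct, Fin.sum_univ_three, conj_omega hσ h3]
  grind [W.cube]

/-- Coordinates of a unitary group of order 27 are orthogonal of equal norm. -/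
theorem coords_similitude (hσ : ∀ x, σ x = x ^ q) (hq0 : q ≠ 0) (h3 : q % 3 = 2) {B : G3}
    (hd : B * W.dG * B⁻¹ ∈ Cfsg.GU 3 F q) (hp : B * W.pG * B⁻¹ ∈ Cfsg.GU 3 F q) :
    ∃ l : F, l ≠ 0 ∧ ∀ u v, Cfsg.hermForm 3 F q ((B : M3) *ᵥ u) ((B : M3) *ᵥ v) =
      l * Cfsg.hermForm 3 F q u v := by
  set H : (Fin 3 → F) → (Fin 3 → F) → F :=
    fun u v => Cfsg.hermForm 3 F q ((B : M3) *ᵥ u) ((B : M3) *ᵥ v) with hH
  have inv : ∀ x : G3, B * x * B⁻¹ ∈ Cfsg.GU 3 F q → ∀ u v, H ((x : M3) *ᵥ u) ((x : M3) *ᵥ v) = H u v := by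
    intro x hx u v
    have := mem_gu.1 hx ((B : M3) *ᵥ u) ((B : M3) *ᵥ v)
    rw [mulVec_mulVec, mulVec_mulVec, ← Units.val_mul, show B * x * B⁻¹ * B = B * x by group, Units.val_mul,
      ← mulVec_mulVec, ← mulVec_mulVec] at this
    exact this
  have e1 : ∀ i : Fin 3, (W.dG : M3) *ᵥ Pi.single i 1 = Pi.single i (W.ω ^ (i : ℕ)) := by
    intro i
    funext j
    fin_cases i <;> fin_cases j <;> simp [Omega.dG]
  have e2 : ∀ i : Fin 3, (W.pG : M3) *ᵥ Pi.single i 1 = Pi.single (i + 1) 1 := by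
    intro i
    funext j
    fin_cases i <;> fin_cases j <;> simp [Omega.pG]
  have hsum : ∀ u v, H u v = ∑ i, ∑ j, u i * σ (v j) * H (Pi.single i 1) (Pi.single j 1) := by
    intro u v
    simp only [hH, herm_three hσ, Fin.sum_univ_three]
    simp [Matrix.mulVec, dotProduct, Fin.sum_univ_three, map_add, map_mul]
    ring
  have hsc : ∀ (i j : Fin 3) (a b : F),
      H (Pi.single i a) (Pi.single j b) = a * σ b * H (Pi.single i 1) (Pi.single j 1) := by
    intro i j a b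
    rw [hsum (Pi.single i a) (Pi.single j b)]
    fin_cases i <;> fin_cases j <;> simp [Fin.sum_univ_three]
  have hoff : ∀ i j : Fin 3, i ≠ j → H (Pi.single i 1) (Pi.single j 1) = 0 := by
    intro i j hij
    have := inv _ hd (Pi.single i 1) (Pi.single j 1)
    rw [e1, e1, hsc, map_pow, conj_omega hσ h3] at this
    have h1 := W.ne_one
    have h2 := W.sq_ne_one
    generalize H (Pi.single i 1) (Pi.single j 1) = z at this ⊢
    fin_cases i <;> fin_cases j <;> simp at this hij ⊢ <;> grind [W.cube]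
  have hdiag : ∀ i : Fin 3, H (Pi.single (i + 1) 1) (Pi.single (i + 1) 1) = H (Pi.single i 1) (Pi.single i 1) :=
    fun i => by
      have := inv _ hp (Pi.single i 1) (Pi.single i 1)
      rwa [e2] at this
  have key : ∀ u v, H u v = H (Pi.single 0 1) (Pi.single 0 1) * Cfsg.hermForm 3 F q u v := by
    intro u v
    have a1 := hdiag 0
    have a2 := hdiag 1
    rw [show (0 : Fin 3) + 1 = 1 from rfl] at a1
    rw [show (1 : Fin 3) + 1 = 2 from rfl] at a2
    rw [hsum, herm_three hσ]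
    simp only [Fin.sum_univ_three]
    rw [hoff 0 1 (by decide), hoff 0 2 (by decide), hoff 1 0 (by decide), hoff 1 2 (by decide),
      hoff 2 0 (by decide), hoff 2 1 (by decide), a2, a1]
    ring
  refine ⟨H (Pi.single 0 1) (Pi.single 0 1), fun h0 => ?_, key⟩
  have := key ((B⁻¹ : G3).1 *ᵥ Pi.single 0 1) ((B⁻¹ : G3).1 *ᵥ Pi.single 0 1)
  rw [h0, zero_mul] at this
  simp only [hH, mulVec_mulVec, ← Units.val_mul, mul_inv_cancel, Units.val_one, one_mulVec, herm_three hσ] at this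
  simp at this

/-- A unitary transvection moving the Heisenberg group. -/
theorem exists_su_not_normalizer (hF : Fintype.card F = q ^ 2) (hσ : ∀ x, σ x = x ^ q) (h3 : q % 3 = 2) :
    ∃ t ∈ Cfsg.GU 3 F q ⊓ specialLinear (Fin 3) F, t ∉ Subgroup.normalizer (W.heis : Set G3) := by
  obtain ⟨σ', hσ', hc⟩ := exists_frob hF
  obtain rfl : σ' = σ := RingHom.ext fun x => (hσ' x).trans (hσ x).symm
  obtain ⟨a, ha⟩ := hc.exists_norm_eq (a := (-1 : F)) (by rw [map_neg, map_one])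
  obtain ⟨c, hc', hc0⟩ : ∃ c : F, σ' c = -c ∧ c ≠ 0 := ⟨W.s, conj_s hσ' h3, W.s_ne⟩
  let t : G3 := ⟨!![1 + c, c * σ' a, 0; c * a, 1 - c, 0; 0, 0, 1],
    !![1 - c, -(c * σ' a), 0; -(c * a), 1 + c, 0; 0, 0, 1], by
      ext i j; fin_cases i <;> fin_cases j <;> simp [Matrix.mul_apply, Fin.sum_univ_three] <;> grind, by
      ext i j; fin_cases i <;> fin_cases j <;> simp [Matrix.mul_apply, Fin.sum_univ_three] <;> grind⟩
  refine ⟨t, Subgroup.mem_inf.2 ⟨fun u v => ?_, mem_sl.2 ?_⟩, fun hN => ?_⟩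
  · change Cfsg.hermForm 3 F q ((t : M3) *ᵥ u) ((t : M3) *ᵥ v) = _
    rw [herm_three hσ', herm_three hσ']
    simp [t, Matrix.mulVec, dotProduct, Fin.sum_univ_three, hc', hc.invol]
    grind
  · simp [t, det_fin_three]
    grind
  · obtain ⟨k, b, m, e⟩ := W.mem_heis_iff.1 ((Subgroup.mem_normalizer_iff.1 hN W.dG).1 W.d_mem)
    rw [mul_inv_eq_iff_eq_mul] at e
    have e' := congrArg Units.val e
    simp only [Units.val_mul, Omega.z_val, Omega.d_val] at e'
    have hzk := pow_ne_zero k W.ne_zero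
    have hzb := pow_ne_zero b W.ne_zero
    have h1 := W.ne_one
    have h2 := W.two
    rw [pow_eq_pow_mod m W.p_pow_three] at e'
    have e00 := congrFun (congrFun e' 0) 0
    have e01 := congrFun (congrFun e' 0) 1
    have e11 := congrFun (congrFun e' 1) 1
    have e22 := congrFun (congrFun e' 2) 2
    have ha0 : a ≠ 0 := fun h => by simp [h] at ha
    have hm : m % 3 < 3 := Nat.mod_lt _ (by norm_num)
    interval_cases hh : m % 3 <;>
      simp [t, Omega.pG, Omega.dG, pow_succ, Matrix.mul_apply, Fin.sum_univ_three, Matrix.one_apply]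
        at e00 e01 e11 e22 <;>
      grind

theorem similarity_gu (hσ : ∀ x, σ x = x ^ q) (hc : IsConjugation σ) (h3 : q % 3 = 2) {g : G3}
    (hg : g ∈ similarityGroup (Cfsg.hermForm 3 F q)) (hg3 : g ^ 3 = 1) : g ∈ Cfsg.GU 3 F q := by
  obtain ⟨c, hcg⟩ := hg
  set m := (c : F) with hm
  have hfix : σ m = m := by
    have h1 := hcg ((g⁻¹ : G3).1 *ᵥ Pi.single 0 1) ((g⁻¹ : G3).1 *ᵥ Pi.single 0 1)
    simp only [mulVec_mulVec, ← Units.val_mul, mul_inv_cancel, Units.val_one, one_mulVec, herm_three hσ] at h1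
    set x := (g⁻¹ : G3).1 *ᵥ Pi.single (0 : Fin 3) (1 : F)
    simp at h1
    have h2 := congrArg σ h1
    simp only [map_one, map_mul, map_add, hc.invol] at h2
    grind
  have hcube : m ^ 3 = 1 := by
    have e : ∀ u v, Cfsg.hermForm 3 F q u v = m ^ 3 * Cfsg.hermForm 3 F q u v := by
      intro u v
      have h3' : ((g : M3) * (g : M3) * (g : M3)) = 1 := by
        rw [← Units.val_mul, ← Units.val_mul, ← pow_three', hg3, Units.val_one]
      calc Cfsg.hermForm 3 F q u v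
          = Cfsg.hermForm 3 F q (((g : M3) * (g : M3) * (g : M3)) *ᵥ u) (((g : M3) * (g : M3) * (g : M3)) *ᵥ v) :=
            by rw [h3', one_mulVec, one_mulVec]
        _ = m ^ 3 * Cfsg.hermForm 3 F q u v := by
            rw [← mulVec_mulVec, ← mulVec_mulVec, ← mulVec_mulVec, ← mulVec_mulVec, hcg, hcg, hcg]; ring
    have := e (Pi.single 0 1) (Pi.single 0 1)
    simpa [herm_three hσ, eq_comm] using this
  have hm1 : m = 1 := by
    have : m ^ 2 = m := by rw [← h3, ← pow_eq_pow_mod q hcube, ← hσ, hfix]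
    refine mul_left_cancel₀ c.ne_zero ?_
    rw [mul_one, ← hm, ← sq, this]
  intro u v
  change Cfsg.hermForm 3 F q ((g : M3) *ᵥ u) ((g : M3) *ᵥ v) = _
  rw [hcg, hm1, one_mul]

/-- The normaliser is maximal in `SU₃(p)`. -/
theorem heisNormalizer_isMaximalIn_su (hF : Fintype.card F = q ^ 2) (hqp : q.Prime) (h3 : q % 3 = 2)
    (h11 : 11 ≤ q) {R : Subgroup G3} (hR : IsHeis R) (hsim : R ≤ similarityGroup (Cfsg.hermForm 3 F q)) :
    IsMaximalIn (Cfsg.GU 3 F q ⊓ specialLinear (Fin 3) F)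
      (subgroupNormalizer R ⊓ (Cfsg.GU 3 F q ⊓ specialLinear (Fin 3) F)) := by
  classical
  obtain ⟨σ, hσ, hc⟩ := exists_frob hF
  haveI : Fact q.Prime := ⟨hqp⟩
  obtain ⟨p, hp⟩ := CharP.exists F
  have hchar : ringChar F = q := by
    obtain ⟨e, hpp, he⟩ := FiniteField.card F p
    have hdvd : q ∣ p ^ (e : ℕ) := by rw [← he, hF]; exact dvd_pow_self q two_ne_zero
    rw [ringChar.eq F p, (Nat.prime_dvd_prime_iff_eq hqp hpp).1 (hqp.dvd_of_dvd_pow hdvd)]
  haveI : CharP F q := hchar ▸ ringChar.charP F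
  have hcast : ∀ n : ℕ, 0 < n → n < q → (n : F) ≠ 0 := fun n h0 hlt h => by
    have := Nat.le_of_dvd h0 ((CharP.cast_eq_zero_iff F q n).1 h)
    omega
  have h2' : (2 : F) ≠ 0 := by exact_mod_cast hcast 2 (by norm_num) (by omega)
  have h3' : (3 : F) ≠ 0 := by exact_mod_cast hcast 3 (by norm_num) (by omega)
  haveI : Fact ((2 : F) ≠ 0) := ⟨h2'⟩
  obtain ⟨W, B, rfl⟩ := hR.exists_coords h2' h3'
  have hRU : W.heis.map (MulAut.conj B).toMonoidHom ≤ Cfsg.GU 3 F q := fun x hx =>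
    similarity_gu hσ hc h3 (hsim hx) (hR.pow_three x hx)
  obtain ⟨l, hl, hsimB⟩ := coords_similitude (B := B) hσ hqp.ne_zero h3 (hRU ⟨_, W.d_mem, rfl⟩)
    (hRU ⟨_, W.p_mem, rfl⟩)
  have hiff : ∀ g : G3, g ∈ Cfsg.GU 3 F q ↔ B * g * B⁻¹ ∈ Cfsg.GU 3 F q := by
    have hB : ∀ (g : G3) u, (B : M3) *ᵥ ((g : M3) *ᵥ u) = ((B * g * B⁻¹ : G3) : M3) *ᵥ ((B : M3) *ᵥ u) :=
      fun g u => by simp only [mulVec_mulVec, ← Units.val_mul, inv_mul_cancel_right]
    intro g
    refine ⟨fun h u v => ?_, fun h u v => ?_⟩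
    · change Cfsg.hermForm 3 F q (((B * g * B⁻¹ : G3) : M3) *ᵥ u) (((B * g * B⁻¹ : G3) : M3) *ᵥ v) = _
      have hu : ∀ w : Fin 3 → F, (B : M3) *ᵥ (((B⁻¹ : G3) : M3) *ᵥ w) = w := fun w => by
        rw [mulVec_mulVec, ← Units.val_mul, mul_inv_cancel, Units.val_one, one_mulVec]
      conv_lhs => rw [← hu u, ← hu v]
      conv_rhs => rw [← hu u, ← hu v]
      rw [← hB, ← hB, hsimB, hsimB, mem_gu.1 h]
    · change Cfsg.hermForm 3 F q ((g : M3) *ᵥ u) ((g : M3) *ᵥ v) = _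
      refine mul_left_cancel₀ hl ?_
      rw [← hsimB, ← hsimB, hB, hB, mem_gu.1 h]
  refine ⟨lt_of_le_of_ne inf_le_right fun e => ?_, fun M hM hMs => ?_⟩
  · obtain ⟨t, ht, htN⟩ := exists_su_not_normalizer (W := W) hF hσ h3
    refine htN ?_
    have := mem_normalizer_map (Subgroup.mem_inf.1 (e.symm ▸ Subgroup.mem_inf.2
      ⟨(hiff t).1 (Subgroup.mem_inf.1 ht).1, conj_mem_sl (g := B) (Subgroup.mem_inf.1 ht).2⟩ :
        B * t * B⁻¹ ∈ _ ⊓ _)).1
    rwa [show B⁻¹ * (B * t * B⁻¹) * B = t by group] at this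
  set M' := M.comap (MulAut.conj B).toMonoidHom with hM'
  have hin : ∀ g : G3, g ∈ Subgroup.normalizer (W.heis : Set G3) → g ∈ Cfsg.GU 3 F q →
      g ∈ specialLinear (Fin 3) F → g ∈ M' := fun g hN hU hS =>
    hM (Subgroup.mem_inf.2 ⟨conj_mem_normalizer_map hN, Subgroup.mem_inf.2 ⟨(hiff g).1 hU, conj_mem_sl hS⟩⟩)
  have hsl : M' ≤ specialLinear (Fin 3) F := fun g hg => by
    have h' : B * g * B⁻¹ ∈ specialLinear (Fin 3) F := (Subgroup.mem_inf.1 (hMs hg)).2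
    have := conj_mem_sl (g := B⁻¹) h'
    rwa [show B⁻¹ * (B * g * B⁻¹) * B⁻¹⁻¹ = g by group] at this
  have hgu : M' ≤ Cfsg.GU 3 F q := fun g hg => (hiff g).2 (Subgroup.mem_inf.1 (hMs hg)).1
  by_cases hno : NoTransv M'
  · refine .inl (le_antisymm (le_inf ?_ hMs) hM)
    have h : Hyp W M' :=
      { sl := hsl
        noTr := hno
        d := hin _ W.d_normalizer (d_gu hσ h3) d_sl
        p := hin _ W.p_normalizer (p_gu hσ) p_sl
        f := hin _ W.f_normalizer (f_gu hσ h3) f_sl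
        j := hin _ W.j_normalizer (j_gu hσ h3) j_sl
        char := by omega }
    have hN := le_normalizer_heis h fun ζ hζ => by
      obtain ⟨g, hg, e⟩ := exists_hex hζ
      exact ⟨g, hin g (Subgroup.mem_inf.1 hg).1 (hex_gu hF hσ h3 hζ e) (Subgroup.mem_inf.1 hg).2, e⟩
    intro g hg
    have hk : B⁻¹ * g * B ∈ M' := by
      show B * (B⁻¹ * g * B) * B⁻¹ ∈ M
      rwa [show B * (B⁻¹ * g * B) * B⁻¹ = g by group]
    have := conj_mem_normalizer_map (B := B) (hN hk)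
    rwa [show B * (B⁻¹ * g * B) * B⁻¹ = g by group] at this
  · refine .inr (le_antisymm hMs ?_)
    simp only [NoTransv, not_forall] at hno
    obtain ⟨v, φ, hperp, hmem, hne⟩ := hno
    push Not at hne
    have hirr : ActsIrreducibly (matrixSet M') := irr_comap hR.absirr.1 (fun x hx => by
      refine hM (Subgroup.mem_inf.2 ⟨Subgroup.le_normalizer hx, Subgroup.mem_inf.2 ⟨hRU hx, ?_⟩⟩)
      obtain ⟨r, hr, rfl⟩ := hx
      exact conj_mem_sl (heis_sl hr)) B
    have hsu := SU.su_le_of_prime_transv hF hqp (by omega) hirr hgu hne.1 hne.2 hmem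
    intro g hg
    have hk : B⁻¹ * g * B ∈ M' := by
      refine hsu (Subgroup.mem_inf.2 ⟨(hiff _).2 ?_, ?_⟩)
      · rw [show B * (B⁻¹ * g * B) * B⁻¹ = g by group]; exact (Subgroup.mem_inf.1 hg).1
      · have := conj_mem_sl (g := B⁻¹) (Subgroup.mem_inf.1 hg).2
        rwa [inv_inv] at this
    have h' : B * (B⁻¹ * g * B) * B⁻¹ ∈ M := hk
    rwa [show B * (B⁻¹ * g * B) * B⁻¹ = g by group] at h'

end CfsgLib.Classical.GeoThree.C6
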